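import Mathlib
import Cfsg.Prelude.Def_Balance
import Cfsg.Prelude.Def_Local
import Cfsg.Agent.Lib.Grp.Cores

/-!
Flavell's theorem (every two elements generate a solvable subgroup, so the group is solvable):
the setting of a smallest counterexample and the root lemmas.
-/

set_option autoImplicit false

namespace Cfsg.Agent.Grp.TwoGen

open Subgroup

variable {G : Type*} [Group G]

/-- A simple group with solvable proper subgroups in which two elements never generate everything. -/
structure Setting (G : Type*) [Group G] : Prop where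
  simple : IsSimpleGroup G
  notSolvable : ¬ Group.IsSolvable G
  proper : ∀ H : Subgroup G, H ≠ ⊤ → Group.IsSolvable H
  pair : ∀ a b : G, closure ({a, b} : Set G) ≠ ⊤

/-- `O_{p'}(H)` as a subgroup of the ambient group. -/
abbrev core (p : ℕ) (H : Subgroup G) : Subgroup G := (Cfsg.pPrimeCore p ↥H).map H.subtype

/-- `θ(e) = O_{p'}(C(e))`. -/
abbrev theta (p : ℕ) (e : G) : Subgroup G := core p (centralizer ({e} : Set G))

theorem core_le {p : ℕ} (H : Subgroup G) : core p H ≤ H := map_subtype_le _

theorem mem_of_mem_closure_pair {x y : G} {H : Subgroup G} (hx : x ∈ H) (hy : y ∈ H) :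
    closure ({x, y} : Set G) ≤ H := by
  rw [closure_le]
  rintro z (rfl | rfl) <;> assumption

/-- An element is a power of its product with a commuting element of coprime order. -/
theorem left_mem_zpowers_mul [Finite G] {e v : G} (h : Commute e v)
    (hc : (orderOf e).Coprime (orderOf v)) : e ∈ zpowers (e * v) := by
  obtain ⟨k, hk⟩ := exists_pow_eq_self_of_coprime (hc.symm)
  refine ⟨((orderOf v * k : ℕ) : ℤ), ?_⟩
  simp only [zpow_natCast]
  rw [h.mul_pow, pow_mul v, pow_orderOf_eq_one, one_pow, mul_one, pow_mul, hk]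

/-- Root lemma: a commuting coprime pair and any third element generate a proper subgroup. -/
theorem Setting.root [Finite G] (S : Setting G) {e v : G} (h : Commute e v)
    (hc : (orderOf e).Coprime (orderOf v)) (u : G) :
    ∃ H : Subgroup G, H ≠ ⊤ ∧ e ∈ H ∧ v ∈ H ∧ u ∈ H := by
  have hev : e * v ∈ closure ({e * v, u} : Set G) := Subgroup.subset_closure (by simp)
  refine ⟨closure ({e * v, u} : Set G), S.pair _ _, zpowers_le.mpr hev (left_mem_zpowers_mul h hc),
    zpowers_le.mpr hev ?_, Subgroup.subset_closure (by simp)⟩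
  rw [h.eq]
  exact left_mem_zpowers_mul h.symm hc.symm

/-- Double root lemma. -/
theorem Setting.root_root [Finite G] (S : Setting G) {e v f w : G} (hev : Commute e v)
    (hc : (orderOf e).Coprime (orderOf v)) (hfw : Commute f w)
    (hc' : (orderOf f).Coprime (orderOf w)) :
    ∃ H : Subgroup G, H ≠ ⊤ ∧ e ∈ H ∧ v ∈ H ∧ f ∈ H ∧ w ∈ H := by
  obtain ⟨H, hH, he, hv, hu⟩ := S.root hev hc (f * w)
  refine ⟨H, hH, he, hv, zpowers_le.mpr hu (left_mem_zpowers_mul hfw hc'), zpowers_le.mpr hu ?_⟩
  rw [hfw.eq]
  exact left_mem_zpowers_mul hfw.symm hc'.symm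

/-- The key lemma: `m * j` and `b` recover `m` and `j`, when `j` is in the group of `b` and `(b ^ m) ^ j`. -/
theorem Setting.slot (S : Setting G) (b : G) {m j : G}
    (hj : j ∈ closure ({b, (m * j)⁻¹ * b * (m * j)} : Set G)) :
    ∃ H : Subgroup G, H ≠ ⊤ ∧ b ∈ H ∧ m ∈ H ∧ j ∈ H := by
  have hb : b ∈ closure ({b, m * j} : Set G) := Subgroup.subset_closure (by simp)
  have hu : m * j ∈ closure ({b, m * j} : Set G) := Subgroup.subset_closure (by simp)
  have hjH := mem_of_mem_closure_pair hb (mul_mem (mul_mem (inv_mem hu) hb) hu) hj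
  exact ⟨_, S.pair _ _, hb, by simpa [mul_assoc] using mul_mem hu (inv_mem hjH), hjH⟩

end Cfsg.Agent.Grp.TwoGen
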