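import Cfsg.Agent.Lib.Grp.TwoGen.Local

/-!
Flavell's two-generator theorem: the prime with `Ω₁` of a Sylow subgroup extraspecial of order `p ^ 3`.
Every element of order `p` gets a value modulo the weakly closed central line; the elements keeping all
values form a normal subgroup containing the cores of the centralisers.
-/

set_option autoImplicit false

namespace Cfsg.Agent.Grp.TwoGen

open Subgroup
open scoped commutatorElement

set_option linter.style.haveILetI false

universe u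

variable {G : Type u} [Group G] [Finite G] {p : ℕ} [hp : Fact p.Prime]

/-- A Sylow subgroup contains a conjugate of every `p`-subgroup. -/
theorem exists_conj_mem_sylow (P : Sylow p G) {T : Subgroup G} (hT : IsPGroup p T) :
    ∃ k : G, ∀ x ∈ T, k * x * k⁻¹ ∈ (P : Subgroup G) := by
  obtain ⟨Q, hQ⟩ := hT.exists_le_sylow
  obtain ⟨k, rfl⟩ := MulAction.exists_smul_eq G P Q
  refine ⟨k⁻¹, fun x hx => ?_⟩
  have := hQ hx
  rw [Sylow.coe_subgroup_smul, Subgroup.mem_pointwise_smul_iff_inv_smul_mem] at this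
  simpa [MulAut.smul_def] using this

theorem isPGroup_zpowers_of_pow_eq_one {x : G} (hx : x ^ p = 1) : IsPGroup p (zpowers x) := by
  rintro ⟨y, hy⟩
  obtain ⟨i, rfl⟩ := mem_zpowers_iff.mp hy
  refine ⟨1, Subtype.ext ?_⟩
  show (x ^ i) ^ (p ^ 1) = 1
  rw [pow_one, ← zpow_natCast, ← zpow_mul, mul_comm, zpow_mul, zpow_natCast, hx, one_zpow]

theorem conj_pow_eq_one {x : G} (hx : x ^ p = 1) (k : G) : (k * x * k⁻¹) ^ p = 1 := by
  rw [conj_pow, hx, mul_one, mul_inv_cancel]

theorem mem_zpowers_of_mem_of_ne_one {a x : G} (ha : a ^ p = 1) (hx : x ∈ zpowers a) (hx1 : x ≠ 1) :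
    a ∈ zpowers x := by
  have ha1 : a ≠ 1 := by
    rintro rfl
    exact hx1 (by simpa using hx)
  obtain ⟨i, rfl⟩ := mem_zpowers_iff.mp hx
  have hxp : (a ^ i) ^ p = 1 := by
    rw [← zpow_natCast, ← zpow_mul, mul_comm, zpow_mul, zpow_natCast, ha, one_zpow]
  have : zpowers (a ^ i) = zpowers a := eq_of_le_of_card_ge (zpowers_le.mpr hx) (by
    rw [Nat.card_zpowers, Nat.card_zpowers, orderOf_eq_prime ha ha1, orderOf_eq_prime hxp hx1])
  exact this ▸ mem_zpowers a

theorem conj_mem_core' {H : Subgroup G} {g x : G} (hg : g ∈ H) (hx : x ∈ core p H) :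
    g⁻¹ * x * g ∈ core p H := by
  simpa using conj_mem_core (inv_mem hg) hx

/-- No prime whose elements of order `p` in a Sylow subgroup form an extraspecial group of order `p ^ 3`
with a weakly closed centre `⟨a⟩` and some fusion outside the line of `e`. -/
theorem Setting.false_of_extraspecial (S : Setting G) (h5 : 5 ≤ p) (P : Sylow p G) {a e n : G}
    {Q : Subgroup G} (ha1 : a ≠ 1) (haQ : a ∈ Q)
    (hweak : ∀ g : G, g * a * g⁻¹ ∈ (P : Subgroup G) → g * a * g⁻¹ ∈ zpowers a)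
    (haP : ∀ u ∈ (P : Subgroup G), u * a = a * u)
    (hQP : Q ≤ (P : Subgroup G)) (hexp : ∀ q ∈ Q, q ^ p = 1)
    (hΩ : ∀ x ∈ (P : Subgroup G), x ^ p = 1 → x ∈ Q)
    (hQZ : ∀ u ∈ (P : Subgroup G), ∀ q ∈ Q, ⁅u, q⁆ ∈ zpowers a)
    (hcent : ∀ x ∈ Q, ∀ y ∈ Q, x ∉ zpowers a → x * y = y * x → y ∈ zpowers a ⊔ zpowers x)
    (he : e ∈ Q) (hea : e ∉ zpowers a) (hn : n ∈ normalizer (zpowers a : Set G))
    (hne : n * e * n⁻¹ ∈ Q) (hne' : n * e * n⁻¹ ∉ zpowers a ⊔ zpowers e) : False := by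
  classical
  have hap : a ^ p = 1 := hexp a haQ
  set M := normalizer (zpowers a : Set G) with hMdef
  have hM : M ≠ ⊤ := by
    intro h
    haveI := S.simple
    rcases (Subgroup.normalizer_eq_top_iff.mp h).eq_bot_or_eq_top with hb | ht
    · exact ha1 (by simpa [hb] using mem_zpowers a)
    · exact S.notSolvable (Group.isSolvable_of_comm fun x y => by
        obtain ⟨i, rfl⟩ := mem_zpowers_iff.mp (ht ▸ mem_top x : x ∈ zpowers a)
        obtain ⟨j, rfl⟩ := mem_zpowers_iff.mp (ht ▸ mem_top y : y ∈ zpowers a)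
        exact ((Commute.refl a).zpow_zpow i j).eq)
  have hconjM : ∀ k : G, k * a * k⁻¹ ∈ zpowers a → k ∈ M := fun k hk => by
    refine Subgroup.mem_normalizer_fintype fun x hx => ?_
    obtain ⟨i, rfl⟩ := mem_zpowers_iff.mp hx
    rw [← conj_zpow]
    exact zpow_mem hk i
  have hPM : (P : Subgroup G) ≤ M := fun u hu => hconjM u (by
    rw [haP u hu, mul_inv_cancel_right]; exact mem_zpowers a)
  have haQz : zpowers a ≤ Q := zpowers_le.mpr haQ
  have hQN : Q ≤ M := hQP.trans hPM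
  -- every element of order `p` lies in `O_{p',p}` of every proper subgroup containing it
  have hup : ∀ H : Subgroup G, H ≠ ⊤ → ∀ x ∈ H, x ^ p = 1 → x ∈ upper p H := by
    intro H hH x hxH hxp
    refine S.mem_upper_of_quadratic h5 hH hxH (isPGroup_zpowers_of_pow_eq_one hxp) fun T hT hxT u hu => ?_
    obtain ⟨k, hk⟩ := exists_conj_mem_sylow P hT
    obtain ⟨i, hi⟩ := mem_zpowers_iff.mp
      (hQZ _ (hk u hu) _ (hΩ _ (hk x hxT) (conj_pow_eq_one hxp k)))
    refine (MulAut.conj k).injective ?_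
    rw [map_one, map_commutatorElement, map_commutatorElement]
    simp only [MulAut.conj_apply]
    rw [← hi, commutatorElement_eq_one_iff_mul_comm]
    exact ((show Commute (k * x * k⁻¹) a from haP _ (hk x hxT)).zpow_right i).eq.symm
  -- elements of order `p` in a `p`-group around `Q` lie in `Q`
  have hΩT : ∀ T : Subgroup G, IsPGroup p T → Q ≤ T → ∀ x ∈ T, x ^ p = 1 → x ∈ Q := by
    intro T hT hQT x hx hxp
    obtain ⟨k, hk⟩ := exists_conj_mem_sylow P hT
    have hkQ : k ∈ normalizer (Q : Set G) := Subgroup.mem_normalizer_fintype fun q hq =>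
      hΩ _ (hk q (hQT hq)) (conj_pow_eq_one (hexp q hq) k)
    exact (mem_normalizer_iff.mp hkQ x).mpr (hΩ _ (hk x hx) (conj_pow_eq_one hxp k))
  set C := core p M with hC
  have haNC : zpowers a ≤ normalizer (C : Set G) := (zpowers_le.mpr (hQN haQ)).trans (le_normalizer_core M)
  set Z := C ⊔ zpowers a with hZ
  have hCZ : C ≤ Z := le_sup_left
  have haZ : ∀ {x}, x ∈ zpowers a → x ∈ Z := fun hx => mem_sup_right hx
  have hmemZ : ∀ {x}, x ∈ Z → ∃ c ∈ C, ∃ i : ℤ, x = c * a ^ i := by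
    intro x hx
    rw [hZ, ← SetLike.mem_coe, coe_mul_of_right_le_normalizer_left _ _ haNC] at hx
    obtain ⟨c, hc, y, hy, rfl⟩ := Set.mem_mul.mp hx
    obtain ⟨i, rfl⟩ := mem_zpowers_iff.mp hy
    exact ⟨c, hc, i, rfl⟩
  have hQC : ∀ {x}, x ∈ Q → x ∈ C → x = 1 := fun hx hxC =>
    eq_one_of_coprime_of_isPGroup (P.isPGroup'.to_le hQP) hx (orderOf_coprime_of_mem_core hxC)
  have hQC' : ∀ {x} {H : Subgroup G}, x ∈ Q → x ∈ core p H → x = 1 := fun hx hxC =>
    eq_one_of_coprime_of_isPGroup (P.isPGroup'.to_le hQP) hx (orderOf_coprime_of_mem_core hxC)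
  have hQZ1 : ∀ {x}, x ∈ Q → x ∈ Z → x ∈ zpowers a := by
    intro x hx hxZ
    obtain ⟨c, hc, i, rfl⟩ := hmemZ hxZ
    have hcQ : c ∈ Q := by simpa using mul_mem hx (inv_mem (zpow_mem haQ i))
    rw [hQC hcQ hc, one_mul]
    exact zpow_mem (mem_zpowers a) i
  have hZconj : ∀ m ∈ M, ∀ {x}, x ∈ Z → m * x * m⁻¹ ∈ Z := by
    intro m hm x hx
    obtain ⟨c, hc, i, rfl⟩ := hmemZ hx
    rw [show m * (c * a ^ i) * m⁻¹ = (m * c * m⁻¹) * (m * a ^ i * m⁻¹) by group]
    exact mul_mem (hCZ (conj_mem_core hm hc))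
      (haZ ((mem_normalizer_iff.mp hm _).mp (zpow_mem (mem_zpowers a) i)))
  have hQup : ∀ {q}, q ∈ Q → q ∈ upper p M := fun hq => hup M hM _ (hQN hq) (hexp _ hq)
  have hZup : ∀ {x}, x ∈ Z → x ∈ upper p M := fun hx =>
    sup_le (core_le_upper M) (zpowers_le.mpr (hQup haQ)) hx
  -- congruence modulo `Z`
  set R : G → G → Prop := fun x y => x⁻¹ * y ∈ Z with hR
  have Rsymm : ∀ {x y}, R x y → R y x := fun {x y} h => by simpa [hR] using inv_mem h
  have Rtrans : ∀ {x y z}, R x y → R y z → R x z := fun {x y z} h h' => by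
    simpa [hR, mul_assoc] using mul_mem h h'
  have Rconj : ∀ m ∈ M, ∀ {x y}, R x y → R (m * x * m⁻¹) (m * y * m⁻¹) := fun m hm x y h => by
    have := hZconj m hm h
    simpa [hR, mul_assoc] using this
  -- every element of order `p` of `M` is congruent to one in `Q`
  have hrepQ : ∀ b ∈ M, b ^ p = 1 → ∃ q ∈ Q, b⁻¹ * q ∈ C := by
    intro b hb hbp
    obtain ⟨r, hr, T, hT, hQT, hbT⟩ := exists_core_conj_le (fun q hq => hQup hq)
      (zpowers_le.mpr (hup M hM b hb hbp)) (P.isPGroup'.to_le hQP) (isPGroup_zpowers_of_pow_eq_one hbp)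
    refine ⟨r * b * r⁻¹, hΩT T hT hQT _ (hbT b (mem_zpowers b)) (conj_pow_eq_one hbp r), ?_⟩
    rw [show b⁻¹ * (r * b * r⁻¹) = (b⁻¹ * r * b) * r⁻¹ by group]
    exact mul_mem (conj_mem_core' hb hr) (inv_mem hr)
  -- a conjugate of `a` next to `a`
  have hline : ∀ g : G, IsPGroup p (closure ({a, g * a * g⁻¹} : Set G)) → g * a * g⁻¹ ∈ zpowers a := by
    intro g hg
    obtain ⟨k, hk⟩ := exists_conj_mem_sylow P hg
    have hkM := hconjM k (hweak k (hk a (Subgroup.subset_closure (by simp))))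
    have h1 := hk _ (Subgroup.subset_closure (show g * a * g⁻¹ ∈ ({a, g * a * g⁻¹} : Set G) by simp))
    rw [show k * (g * a * g⁻¹) * k⁻¹ = (k * g) * a * (k * g)⁻¹ by group] at h1
    have h2 := hweak (k * g) h1
    rw [show (k * g) * a * (k * g)⁻¹ = k * (g * a * g⁻¹) * k⁻¹ by group] at h2
    exact (mem_normalizer_iff.mp hkM _).mpr h2
  have hinM : ∀ {x : G}, IsPGroup p (closure ({a, x} : Set G)) → x ∈ M := fun {x} hx => by
    obtain ⟨k, hk⟩ := exists_conj_mem_sylow P hx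
    have hkM := hconjM k (hweak k (hk a (Subgroup.subset_closure (by simp))))
    have h1 := hPM (hk x (Subgroup.subset_closure (by simp)))
    simpa [mul_assoc] using mul_mem (mul_mem (inv_mem hkM) h1) hkM
  -- values
  set Val : G → G → Prop := fun z q => q ∈ Q ∧ ∃ (H : Subgroup G) (b : G), H ≠ ⊤ ∧ a ∈ H ∧ z ∈ H ∧
    b ∈ H ∧ b ^ p = 1 ∧ (orderOf (b⁻¹ * z)).Coprime p ∧ b ∈ M ∧ R b q with hVal
  have hnear : ∀ z : G, z ^ p = 1 → ∃ b ∈ closure ({a, z} : Set G), b ^ p = 1 ∧ b ∈ M ∧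
      b⁻¹ * z ∈ core p (closure ({a, z} : Set G)) := by
    intro z hzp
    set J := closure ({a, z} : Set G) with hJdef
    have haJ : a ∈ J := Subgroup.subset_closure (by simp)
    have hzJ : z ∈ J := Subgroup.subset_closure (by simp)
    obtain ⟨r, hr, hPg⟩ := exists_core_conj (hup J (S.pair a z) a haJ hap) (hup J (S.pair a z) z hzJ hzp)
      (isPGroup_zpowers_of_pow_eq_one hap) (isPGroup_zpowers_of_pow_eq_one hzp)
    have hrJ := core_le J hr
    refine ⟨r * z * r⁻¹, mul_mem (mul_mem hrJ hzJ) (inv_mem hrJ), conj_pow_eq_one hzp r, hinM hPg, ?_⟩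
    rw [show (r * z * r⁻¹)⁻¹ * z = r * (z⁻¹ * r⁻¹ * z) by group]
    exact mul_mem hr (by simpa using conj_mem_core (inv_mem hzJ) (inv_mem hr))
  have huniq : ∀ {z q q'}, z ^ p = 1 → Val z q → Val z q' → R q q' := by
    intro z q q' hzp h h'
    obtain ⟨b₁, hb₁J, hb₁p, hb₁M, hb₁z⟩ := hnear z hzp
    have key : ∀ {w}, Val z w → R w b₁ := by
      rintro w ⟨-, H, b, hH, haH, hzH, hbH, hbp, hbz, hbM, hbw⟩
      have hb₁H := mem_of_mem_closure_pair haH hzH hb₁J
      have h1 : b⁻¹ * b₁ ∈ core p H := by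
        rw [show b⁻¹ * b₁ = (b⁻¹ * z) * (b₁⁻¹ * z)⁻¹ by group]
        exact mul_mem (mem_core_of_mem_upper (mul_mem (inv_mem (hup H hH b hbH hbp)) (hup H hH z hzH hzp)) hbz)
          (inv_mem (mem_core_of_le (mul_mem (inv_mem (hup H hH _ hb₁H hb₁p)) (hup H hH z hzH hzp)) hb₁z))
      exact Rtrans (Rsymm hbw) (hCZ (mem_core_of_le
        (mul_mem (inv_mem (hup M hM b hbM hbp)) (hup M hM _ hb₁M hb₁p)) h1))
    exact Rtrans (key h) (Rsymm (key h'))
  have hexV : ∀ z : G, z ^ p = 1 → ∃ q, Val z q := by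
    intro z hzp
    obtain ⟨b₁, hb₁J, hb₁p, hb₁M, hb₁z⟩ := hnear z hzp
    obtain ⟨q, hq, hbq⟩ := hrepQ b₁ hb₁M hb₁p
    exact ⟨q, hq, _, b₁, S.pair a z, Subgroup.subset_closure (by simp), Subgroup.subset_closure (by simp),
      hb₁J, hb₁p, orderOf_coprime_of_mem_core hb₁z, hb₁M, hCZ hbq⟩
  choose! β hβ using hexV
  have hvalQ : ∀ {q}, q ∈ Q → Val q q := fun {q} hq => ⟨hq, M, q, hM, hQN haQ, hQN hq, hQN hq,
    hexp q hq, by simp, hQN hq, by simp [hR]⟩
  have hval_conj : ∀ m ∈ M, ∀ {z q}, Val z q → ∃ q', Val (m * z * m⁻¹) q' ∧ R (m * q * m⁻¹) q' := by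
    intro m hm z q ⟨hq, H, b, hH, haH, hzH, hbH, hbp, hbz, hbM, hbq⟩
    obtain ⟨q', hq', hqq'⟩ := hrepQ (m * q * m⁻¹) (mul_mem (mul_mem hm (hQN hq)) (inv_mem hm))
      (conj_pow_eq_one (hexp q hq) m)
    refine ⟨q', ⟨hq', H.map (MulAut.conj m).toMonoidHom, m * b * m⁻¹, fun e' => hH ?_, ?_, ⟨z, hzH, rfl⟩,
      ⟨b, hbH, rfl⟩, conj_pow_eq_one hbp m, ?_, mul_mem (mul_mem hm hbM) (inv_mem hm),
      Rtrans (Rconj m hm hbq) (hCZ hqq')⟩, hCZ hqq'⟩
    · exact Subgroup.map_injective (MulAut.conj m).injective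
        (e'.trans (Subgroup.map_top_of_surjective _ (MulAut.conj m).surjective).symm)
    · have h1 : m⁻¹ * a * m ∈ zpowers a := (mem_normalizer_iff''.mp hm a).mp (mem_zpowers a)
      exact ⟨m⁻¹ * a * m, zpowers_le.mpr haH h1, by simp [MulAut.conj_apply, mul_assoc]⟩
    · rw [show (m * b * m⁻¹)⁻¹ * (m * z * m⁻¹) = MulAut.conj m (b⁻¹ * z) by
        simp [MulAut.conj_apply, mul_assoc], MulEquiv.orderOf_eq]
      exact hbz
  have hequiv : ∀ m ∈ M, ∀ {z}, z ^ p = 1 → R (m * β z * m⁻¹) (β (m * z * m⁻¹)) := by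
    intro m hm z hzp
    obtain ⟨q', hq', hR'⟩ := hval_conj m hm (hβ z hzp)
    exact Rtrans hR' (huniq (conj_pow_eq_one hzp m) hq' (hβ _ (conj_pow_eq_one hzp m)))
  have hcongr : ∀ {H : Subgroup G}, H ≠ ⊤ → a ∈ H → ∀ {z z'}, z ∈ H → z' ∈ H → z ^ p = 1 → z' ^ p = 1 →
      z⁻¹ * z' ∈ core p H → R (β z) (β z') := by
    intro H hH haH z z' hzH hz'H hzp hz'p hzz
    obtain ⟨b₁, hb₁J, hb₁p, hb₁M, hb₁z⟩ := hnear z hzp
    obtain ⟨q, hq, hbq⟩ := hrepQ b₁ hb₁M hb₁p
    have hb₁H := mem_of_mem_closure_pair haH hzH hb₁J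
    have h1 : b₁⁻¹ * z ∈ core p H :=
      mem_core_of_le (mul_mem (inv_mem (hup H hH _ hb₁H hb₁p)) (hup H hH z hzH hzp)) hb₁z
    have h2 : Val z q := ⟨hq, H, b₁, hH, haH, hzH, hb₁H, hb₁p, orderOf_coprime_of_mem_core h1, hb₁M,
      hCZ hbq⟩
    have h3 : Val z' q := ⟨hq, H, b₁, hH, haH, hz'H, hb₁H, hb₁p,
      orderOf_coprime_of_mem_core (H := H) (by simpa [mul_assoc] using mul_mem h1 hzz), hb₁M, hCZ hbq⟩
    exact Rtrans (huniq hzp (hβ z hzp) h2) (huniq hz'p h3 (hβ z' hz'p))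
  -- the action of `M` modulo `Z`
  set Fix : G → Prop := fun m => ∀ q ∈ Q, R q (m * q * m⁻¹) with hFix
  have hFixP : ∀ u ∈ (P : Subgroup G), Fix u := by
    intro u hu q hq
    obtain ⟨i, hi⟩ := mem_zpowers_iff.mp (hQZ u hu q hq)
    have hc : Commute (a ^ i) q :=
      ((show Commute q a from haP q (hQP hq)).zpow_right i).symm
    show q⁻¹ * (u * q * u⁻¹) ∈ Z
    rw [show u * q * u⁻¹ = a ^ i * q by rw [hi, commutatorElement_def]; group, hc.eq, inv_mul_cancel_left]
    exact haZ (zpow_mem (mem_zpowers a) i)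
  let K0 : Subgroup M :=
    { carrier := {m | Fix m}
      one_mem' := fun q _ => by simp [hR]
      mul_mem' := fun {k l} hk hl q hq => by
        have := Rtrans (hk q hq) (Rconj _ k.2 (hl q hq))
        simpa [mul_assoc] using this
      inv_mem' := fun {k} hk q hq => by
        have := Rconj _ (inv_mem k.2) (hk q hq)
        simpa [mul_assoc] using Rsymm this }
  have hindex : ¬ p ∣ K0.index := by
    intro hd
    refine (P.subtype hPM).not_dvd_index (hd.trans (Subgroup.index_dvd_of_le ?_))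
    intro u hu
    rw [Sylow.coe_subtype, mem_subgroupOf] at hu
    exact hFixP u hu
  have hK0normal : K0.Normal := ⟨fun k hk m q hq => by
    obtain ⟨q', hq', hqq'⟩ := hrepQ ((m : G)⁻¹ * q * m) (mul_mem (mul_mem (inv_mem m.2) (hQN hq)) m.2)
      (by simpa using conj_pow_eq_one (hexp q hq) (m : G)⁻¹)
    have h1 := hk q' hq'
    have h2 : R ((m : G)⁻¹ * q * m) q' := hCZ hqq'
    have h3 := Rtrans h2 (Rtrans h1 (Rconj _ k.2 (Rsymm h2)))
    have h4 := Rconj _ m.2 h3
    simpa [mul_assoc] using h4⟩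
  haveI := hK0normal
  have hfix : ∀ m ∈ M, m * a = a * m → ∀ x ∈ Q, x ∉ zpowers a → R x (m * x * m⁻¹) → Fix m := by
    intro m hm hma x hx hxa hxm
    set L := C ⊔ (zpowers a ⊔ zpowers x) with hL
    have hxx : m * x * m⁻¹ ∈ M := mul_mem (mul_mem hm (hQN hx)) (inv_mem hm)
    have hstep : ∀ q ∈ Q, ∃ w ∈ zpowers a ⊔ zpowers x, R (q * w) (m * q * m⁻¹) := by
      intro q hq
      obtain ⟨q', hq', hqq'⟩ := hrepQ (m * q * m⁻¹) (mul_mem (mul_mem hm (hQN hq)) (inv_mem hm))
        (conj_pow_eq_one (hexp q hq) m)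
      refine ⟨q⁻¹ * q', ?_, by simpa using Rsymm (hCZ hqq')⟩
      refine hcent x hx _ (mul_mem (inv_mem hq) hq') hxa ?_
      obtain ⟨i, hi⟩ := mem_zpowers_iff.mp (hQZ x (hQP hx) q hq)
      obtain ⟨c, hc, l, hl⟩ := hmemZ hxm
      -- compare the two commutators modulo the core
      let π : M →* M ⧸ Cfsg.pPrimeCore p M := @QuotientGroup.mk' _ _ _ pPrimeCore_isNormal
      have hπ : ∀ {u v : M}, (u : G)⁻¹ * v ∈ C → π u = π v := by
        intro u v ⟨y, hy, hyv⟩
        refine (@QuotientGroup.eq _ _ (Cfsg.pPrimeCore p M) u v).mpr ?_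
        have : u⁻¹ * v = y := Subtype.ext hyv.symm
        rwa [this]
      let am : M := ⟨a, hQN haQ⟩
      let mm : M := ⟨m, hm⟩
      let xm : M := ⟨x, hQN hx⟩
      let qm : M := ⟨q, hQN hq⟩
      let q'm : M := ⟨q', hQN hq'⟩
      have hxπ : π (mm * xm * mm⁻¹) = π xm * π am ^ l := by
        rw [← map_zpow, ← map_mul]
        refine hπ ?_
        have h0 : m * x * m⁻¹ = x * (c * a ^ l) := by rw [← hl]; group
        show (m * x * m⁻¹)⁻¹ * (x * a ^ l) ∈ C
        rw [h0, show (x * (c * a ^ l))⁻¹ * (x * a ^ l) = (a ^ l)⁻¹ * c⁻¹ * a ^ l by group]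
        exact conj_mem_core' (zpow_mem (hQN haQ) l) (inv_mem hc)
      have hqπ : π (mm * qm * mm⁻¹) = π q'm := hπ hqq'
      have e1 : π ⁅mm * xm * mm⁻¹, mm * qm * mm⁻¹⁆ = π (am ^ i) := congrArg π (Subtype.ext (by
        show ⁅m * x * m⁻¹, m * q * m⁻¹⁆ = a ^ i
        rw [show ⁅m * x * m⁻¹, m * q * m⁻¹⁆ = m * ⁅x, q⁆ * m⁻¹ by
          simp only [commutatorElement_def]; group, ← hi,
          ((show Commute m a from hma).zpow_right i).eq, mul_inv_cancel_right]))
      have hcomm : ∀ u : M, (u : G) ∈ Q → Commute (π am) (π u) := fun u hu =>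
        (show Commute am u from Subtype.ext (haP _ (hQP hu)).symm).map π
      have e2 : ⁅π xm * π am ^ l, π q'm⁆ = ⁅π xm, π q'm⁆ := by
        have hc1 := ((hcomm q'm hq').zpow_left l).eq
        simp only [commutatorElement_def, mul_inv_rev, mul_assoc]
        rw [← mul_assoc (π am ^ l) (π q'm), hc1]
        group
      rw [map_commutatorElement, hxπ, hqπ, e2, ← map_commutatorElement] at e1
      have e3 : ⁅x, q'⁆ = a ^ i := by
        refine (inv_mul_eq_one.mp (hQC ?_ ?_))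
        · refine mul_mem (inv_mem ?_) (zpow_mem haQ i)
          rw [commutatorElement_def]
          exact mul_mem (mul_mem (mul_mem hx hq') (inv_mem hx)) (inv_mem hq')
        · obtain h := (@QuotientGroup.eq _ _ (Cfsg.pPrimeCore p M) _ _).mp e1
          exact ⟨_, h, rfl⟩
      rw [hi] at e3
      have e4 : q⁻¹ * q' = x * (q⁻¹ * q') * x⁻¹ := by
        calc q⁻¹ * q' = (⁅x, q⁆ * q)⁻¹ * (⁅x, q'⁆ * q') := by rw [e3]; group
          _ = x * (q⁻¹ * q') * x⁻¹ := by simp only [commutatorElement_def]; group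
      calc x * (q⁻¹ * q') = (x * (q⁻¹ * q') * x⁻¹) * x := by group
        _ = (q⁻¹ * q') * x := by rw [← e4]
    have hw0 : ∀ w ∈ zpowers a ⊔ zpowers x, R w (m * w * m⁻¹) ∧ w ^ p = 1 := by
      intro w hw
      have hwQ : w ∈ Q := sup_le haQz (zpowers_le.mpr hx) hw
      refine ⟨?_, hexp w hwQ⟩
      rw [← SetLike.mem_coe, coe_mul_of_left_le_normalizer_right (zpowers a) (zpowers x) ?_] at hw
      · obtain ⟨y, hy, v, hv, rfl⟩ := Set.mem_mul.mp hw
        obtain ⟨j, rfl⟩ := mem_zpowers_iff.mp hy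
        obtain ⟨k, rfl⟩ := mem_zpowers_iff.mp hv
        clear hw hwQ
        have hpow : ∀ k : ℤ, R (x ^ k) (m * x ^ k * m⁻¹) := by
          intro k
          induction k using Int.induction_on with
          | zero => simp [hR]
          | succ i ih =>
            rw [zpow_add_one, show m * (x ^ (i : ℤ) * x) * m⁻¹ = (m * x ^ (i : ℤ) * m⁻¹) * (m * x * m⁻¹) by group]
            show (x ^ (i : ℤ) * x)⁻¹ * _ ∈ Z
            rw [show (x ^ (i : ℤ) * x)⁻¹ * ((m * x ^ (i : ℤ) * m⁻¹) * (m * x * m⁻¹)) =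
              (x⁻¹ * ((x ^ (i : ℤ))⁻¹ * (m * x ^ (i : ℤ) * m⁻¹)) * x) * (x⁻¹ * (m * x * m⁻¹)) by group]
            exact mul_mem (by simpa using hZconj x⁻¹ (inv_mem (hQN hx)) ih) hxm
          | pred i ih =>
            rw [zpow_sub_one, show m * (x ^ (-(i : ℤ)) * x⁻¹) * m⁻¹ = (m * x ^ (-(i : ℤ)) * m⁻¹) * (m * x * m⁻¹)⁻¹ by group]
            show (x ^ (-(i : ℤ)) * x⁻¹)⁻¹ * _ ∈ Z
            rw [show (x ^ (-(i : ℤ)) * x⁻¹)⁻¹ * ((m * x ^ (-(i : ℤ)) * m⁻¹) * (m * x * m⁻¹)⁻¹) =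
              x * (((x ^ (-(i : ℤ)))⁻¹ * (m * x ^ (-(i : ℤ)) * m⁻¹)) * (x⁻¹ * (m * x * m⁻¹))⁻¹) * x⁻¹ by group]
            exact hZconj x (hQN hx) (mul_mem ih (inv_mem hxm))
        have hmj : m * a ^ j * m⁻¹ = a ^ j := by
          rw [((show Commute m a from hma).zpow_right j).eq, mul_inv_cancel_right]
        show (a ^ j * x ^ k)⁻¹ * _ ∈ Z
        rw [show m * (a ^ j * x ^ k) * m⁻¹ = (m * a ^ j * m⁻¹) * (m * x ^ k * m⁻¹) by group, hmj,
          show (a ^ j * x ^ k)⁻¹ * (a ^ j * (m * x ^ k * m⁻¹)) = (x ^ k)⁻¹ * (m * x ^ k * m⁻¹) by group]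
        exact hpow k
      · refine zpowers_le.mpr (centralizer_le_normalizer _ (mem_centralizer_iff.mpr fun y hy => ?_))
        obtain ⟨k, rfl⟩ := mem_zpowers_iff.mp hy
        exact ((show Commute a x from (haP x (hQP hx)).symm).zpow_right k).eq.symm
    have hp0 : (⟨m, hm⟩ : M) ^ p ∈ K0 := by
      intro q hq
      obtain ⟨w, hw, hqw⟩ := hstep q hq
      have hrep : ∀ k : ℕ, R (q * w ^ k) (m ^ k * q * (m ^ k)⁻¹) := by
        intro k
        induction k with
        | zero => simp [hR]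
        | succ k ih =>
          have h1 := Rconj m hm ih
          have h2 : R (q * w ^ (k + 1)) (m * (q * w ^ k) * m⁻¹) := by
            rw [show m * (q * w ^ k) * m⁻¹ = (m * q * m⁻¹) * (m * w ^ k * m⁻¹) by group]
            have h3 := (hw0 (w ^ k) (pow_mem hw k)).1
            show (q * w ^ (k + 1))⁻¹ * _ ∈ Z
            rw [pow_succ', show (q * (w * w ^ k))⁻¹ * ((m * q * m⁻¹) * (m * w ^ k * m⁻¹)) =
              ((w ^ k)⁻¹ * ((q * w)⁻¹ * (m * q * m⁻¹)) * w ^ k) * ((w ^ k)⁻¹ * (m * w ^ k * m⁻¹)) by group]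
            refine mul_mem ?_ h3
            have hwM : (w ^ k)⁻¹ ∈ M :=
              inv_mem (hQN (pow_mem (sup_le haQz (zpowers_le.mpr hx) hw) k))
            simpa using hZconj _ hwM hqw
          have h4 := Rtrans h2 h1
          rw [pow_succ' m]
          simpa [mul_assoc] using h4
      have := hrep p
      rw [(hw0 w hw).2, mul_one] at this
      simpa using this
    have hi := Subgroup.pow_index_mem K0 (⟨m, hm⟩ : M)
    have hcop : p.Coprime K0.index := (hp.out.coprime_iff_not_dvd).mpr hindex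
    have hb : ((1 : ℕ) : ℤ) = p * Nat.gcdA p K0.index + K0.index * Nat.gcdB p K0.index := by
      rw [← Nat.gcd_eq_gcd_ab, hcop]
    have hmK : (⟨m, hm⟩ : M) ∈ K0 := by
      rw [← zpow_one (⟨m, hm⟩ : M), show (1 : ℤ) = _ from hb, zpow_add, zpow_mul, zpow_mul,
        zpow_natCast, zpow_natCast]
      exact mul_mem (zpow_mem hp0 _) (zpow_mem hi _)
    exact hmK
  -- the stabiliser of the values
  let K : Subgroup G :=
    { carrier := {k | ∀ z : G, z ^ p = 1 → R (β z) (β (k * z * k⁻¹))}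
      one_mem' := fun z _ => by simp [hR]
      mul_mem' := fun {k l} hk hl z hz => by
        have := Rtrans (hl z hz) (hk _ (conj_pow_eq_one hz l))
        simpa [mul_assoc] using this
      inv_mem' := fun {k} hk z hz => by
        have := hk _ (conj_pow_eq_one hz k⁻¹)
        simpa [mul_assoc] using Rsymm this }
  have hFixK : ∀ m ∈ M, Fix m → m ∈ K := fun m hm hf z hz =>
    Rtrans (hf _ (hβ z hz).1) (hequiv m hm hz)
  have hNK : M ≤ normalizer (K : Set G) := by
    refine invariant_iff.mp fun m hm k hk z hz => ?_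
    have h1 := hequiv m hm (conj_pow_eq_one hz m⁻¹)
    have h2 := Rconj m hm (hk _ (conj_pow_eq_one hz m⁻¹))
    have h3 := hequiv m hm (conj_pow_eq_one (conj_pow_eq_one hz m⁻¹) k)
    have h4 := Rtrans (Rsymm h1) (Rtrans h2 h3)
    simpa [mul_assoc] using h4
  -- a member of the line near an element
  have hEpx : ∀ x ∈ Q, zpowers a ⊔ zpowers x ≤ Q := fun x hx => sup_le haQz (zpowers_le.mpr hx)
  have hax : ∀ x ∈ Q, a ∈ centralizer ({x} : Set G) := fun x hx =>
    mem_centralizer_singleton_iff.mpr (haP x (hQP hx)).symm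
  have hCne : ∀ x ∈ Q, x ∉ zpowers a → centralizer ({x} : Set G) ≠ ⊤ := fun x _ hxa =>
    S.centralizer_singleton_ne_top fun h => hxa (h ▸ one_mem _)
  have hordQ : ∀ x ∈ Q, x ∉ zpowers a → orderOf x = p := fun x hx hxa =>
    orderOf_eq_prime (hexp x hx) fun h => hxa (h ▸ one_mem _)
  have L1 : ∀ x ∈ Q, x ∉ zpowers a → ∀ H : Subgroup G, H ≠ ⊤ → a ∈ H → x ∈ H → ∀ z ∈ H, z ^ p = 1 →
      ∀ u ∈ theta p x, u⁻¹ * a * u ∈ H → R (β z) (β (u * z * u⁻¹)) := by
    intro x hx hxa H hH haH hxH z hzH hzp u hu hauH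
    have hXne : H ⊓ centralizer ({x} : Set G) ≠ ⊤ := fun h => hH (top_le_iff.mp (h ▸ inf_le_left))
    have huC := theta_le_centralizer x hu
    set a' := u⁻¹ * a * u with ha'
    have ha'C : a' ∈ centralizer ({x} : Set G) := mul_mem (mul_mem (inv_mem huC) (hax x hx)) huC
    have ha'p : a' ^ p = 1 := by simpa [ha'] using conj_pow_eq_one hap u⁻¹
    obtain ⟨r, hr, hPg⟩ := exists_core_conj (hup _ hXne a ⟨haH, hax x hx⟩ hap)
      (hup _ hXne a' ⟨hauH, ha'C⟩ ha'p) (isPGroup_zpowers_of_pow_eq_one hap)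
      (isPGroup_zpowers_of_pow_eq_one ha'p)
    obtain ⟨hrH, hrC⟩ := core_le _ hr
    have e0 : r * a' * r⁻¹ = (r * u⁻¹) * a * (r * u⁻¹)⁻¹ := by rw [ha']; group
    rw [e0] at hPg
    have hl := hline _ hPg
    rw [← e0] at hl
    have hupC := hup _ (hCne x hx hxa)
    have hra : r * a' * r⁻¹ = a := by
      refine (inv_mul_eq_one.mp (hQC' (H := centralizer ({x} : Set G)) ?_ ?_)).symm
      · exact mul_mem (inv_mem haQ) (haQz hl)
      · rw [show a⁻¹ * (r * a' * r⁻¹) = (a⁻¹ * a') * (a'⁻¹ * (r * a' * r⁻¹)) by group]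
        refine mul_mem ?_ (mem_core_of_le (X := H ⊓ centralizer ({x} : Set G)) ?_ ?_)
        · rw [show a⁻¹ * a' = (a⁻¹ * u⁻¹ * a) * u by rw [ha']; group]
          exact mul_mem (by simpa using conj_mem_core (inv_mem (hax x hx)) (inv_mem hu)) hu
        · exact mul_mem (inv_mem (hupC a' ha'C ha'p))
            (hupC _ (mul_mem (mul_mem hrC ha'C) (inv_mem hrC)) (conj_pow_eq_one ha'p r))
        · rw [show a'⁻¹ * (r * a' * r⁻¹) = (a'⁻¹ * r * a') * r⁻¹ by group]
          exact mul_mem (by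
            simpa using conj_mem_core (H := H ⊓ centralizer ({x} : Set G)) (inv_mem ⟨hauH, ha'C⟩) hr)
            (inv_mem hr)
    set c := u * r⁻¹ with hc
    have hca : c * a = a * c := by
      calc c * a = u * r⁻¹ * (r * a' * r⁻¹) := by rw [hra, hc]
        _ = a * c := by rw [ha', hc]; group
    have hcM : c ∈ M := hconjM c (by rw [hca, mul_inv_cancel_right]; exact mem_zpowers a)
    have hcx : c * x * c⁻¹ = x := by
      have := mem_centralizer_singleton_iff.mp (mul_mem huC (inv_mem hrC))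
      rw [hc, this, mul_inv_cancel_right]
    have hcK : c ∈ K := hFixK c hcM (hfix c hcM hca x hx hxa (by rw [hcx]; simp [hR]))
    have hcz := hcK (r * z * r⁻¹) (conj_pow_eq_one hzp r)
    rw [show c * (r * z * r⁻¹) * c⁻¹ = u * z * u⁻¹ by rw [hc]; group] at hcz
    refine Rtrans ?_ hcz
    -- move `r` into `M`
    set a'' := r * a * r⁻¹ with ha''
    have ha''H : a'' ∈ H := mul_mem (mul_mem hrH haH) (inv_mem hrH)
    obtain ⟨s, hs, hPg'⟩ := exists_core_conj (hup H hH a haH hap) (hup H hH a'' ha''H (conj_pow_eq_one hap r))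
      (isPGroup_zpowers_of_pow_eq_one hap) (isPGroup_zpowers_of_pow_eq_one (conj_pow_eq_one hap r))
    have hsH := core_le _ hs
    rw [show s * a'' * s⁻¹ = (s * r) * a * (s * r)⁻¹ by rw [ha'']; group] at hPg'
    have hl' := hline _ hPg'
    have hcore' : ∀ {w}, w ∈ H → (∀ {v}, v ∈ core p H → w * v * w⁻¹ ∈ core p H) := fun hw _ hv =>
      conj_mem_core hw hv
    have hsa : (s * r) * a * (s * r)⁻¹ = a := by
      refine (inv_mul_eq_one.mp (hQC' ?_ ?_ (H := H))).symm
      · exact mul_mem (inv_mem haQ) (haQz hl')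
      · rw [show a⁻¹ * (s * r * a * (s * r)⁻¹) = (a⁻¹ * a'') * ((a''⁻¹ * s * a'') * s⁻¹) by
          rw [ha'']; group]
        refine mul_mem (mem_core_of_le (mul_mem (inv_mem (hup H hH a haH hap))
            (hup H hH a'' ha''H (conj_pow_eq_one hap r))) (X := H ⊓ centralizer ({x} : Set G)) ?_)
          (mul_mem (by simpa using conj_mem_core (inv_mem ha''H) hs) (inv_mem hs))
        rw [ha'', show a⁻¹ * (r * a * r⁻¹) = (a⁻¹ * r * a) * r⁻¹ by group]
        exact mul_mem (by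
          simpa using conj_mem_core (H := H ⊓ centralizer ({x} : Set G)) (inv_mem ⟨haH, hax x hx⟩) hr)
          (inv_mem hr)
    set m := s * r with hm
    have hmM : m ∈ M := hconjM m (by rw [hsa]; exact mem_zpowers a)
    have hma : m * a = a * m := by
      calc m * a = (m * a * m⁻¹) * m := by group
        _ = a * m := by rw [hsa]
    have hmx : R x (m * x * m⁻¹) := by
      refine hCZ (mem_core_of_le (mul_mem (inv_mem (hQup hx)) (hup M hM _
        (mul_mem (mul_mem hmM (hQN hx)) (inv_mem hmM)) (conj_pow_eq_one (hexp x hx) m))) (X := H) ?_)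
      have hrx : r * x * r⁻¹ = x := by
        rw [mem_centralizer_singleton_iff.mp hrC, mul_inv_cancel_right]
      rw [show m * x * m⁻¹ = s * (r * x * r⁻¹) * s⁻¹ by rw [hm]; group, hrx,
        show x⁻¹ * (s * x * s⁻¹) = (x⁻¹ * s * x) * s⁻¹ by group]
      exact mul_mem (by simpa using conj_mem_core (inv_mem hxH) hs) (inv_mem hs)
    have hmK : m ∈ K := hFixK m hmM (hfix m hmM hma x hx hxa hmx)
    refine Rtrans (hmK z hzp) (Rsymm (hcongr hH haH ?_ ?_ (conj_pow_eq_one hzp r) (conj_pow_eq_one hzp m) ?_))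
    · exact mul_mem (mul_mem hrH hzH) (inv_mem hrH)
    · exact mul_mem (mul_mem (mul_mem hsH hrH) hzH) (inv_mem (mul_mem hsH hrH))
    · rw [hm, show (r * z * r⁻¹)⁻¹ * (s * r * z * (s * r)⁻¹) =
        ((r * z * r⁻¹)⁻¹ * s * (r * z * r⁻¹)) * s⁻¹ by group]
      exact mul_mem (by simpa using conj_mem_core (inv_mem (mul_mem (mul_mem hrH hzH) (inv_mem hrH))) hs)
        (inv_mem hs)
  -- the value next to `x` when the element becomes commuting with `x`
  have L3 : ∀ x ∈ Q, x ∉ zpowers a → ∀ z : G, z ^ p = 1 → ∀ r ∈ closure ({x, z} : Set G),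
      (orderOf ((r * z * r⁻¹)⁻¹ * z)).Coprime p → ∀ s ∈ theta p x,
      s * (r * z * r⁻¹) * s⁻¹ ∈ zpowers a ⊔ zpowers x → R (β z) (s * (r * z * r⁻¹) * s⁻¹) := by
    intro x hx hxa z hzp r hr hrz s hs hq
    set z₁ := r * z * r⁻¹ with hz₁
    set q := s * z₁ * s⁻¹ with hq'
    have hqQ : q ∈ Q := hEpx x hx hq
    have hsC := theta_le_centralizer x hs
    suffices h : ∃ H : Subgroup G, H ≠ ⊤ ∧ a ∈ H ∧ z ∈ H ∧ q ∈ H ∧ (orderOf (q⁻¹ * z)).Coprime p by
      obtain ⟨H, hH, haH, hzH, hqH, hc⟩ := h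
      exact huniq hzp (hβ z hzp) ⟨hqQ, H, q, hH, haH, hzH, hqH, hexp q hqQ, hc, hQN hqQ, by simp [hR]⟩
    by_cases hqx : q ∈ zpowers x
    · have hz₁q : z₁ = q := by
        obtain ⟨i, hi⟩ := mem_zpowers_iff.mp hqx
        have h1 : Commute s x := mem_centralizer_singleton_iff.mp hsC
        calc z₁ = s⁻¹ * q * s := by rw [hq']; group
          _ = q := by rw [← hi, mul_assoc, ← (h1.zpow_right i).eq, inv_mul_cancel_left]
      by_cases hz1 : z = 1
      · refine ⟨M, hM, hQN haQ, hz1 ▸ one_mem M, hQN hqQ, ?_⟩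
        rwa [← hz₁q]
      have hq1 : q ≠ 1 := fun h => hz1 (by
        calc z = r⁻¹ * z₁ * r := by rw [hz₁]; group
          _ = 1 := by rw [hz₁q, h]; group)
      have hxq : x ∈ zpowers q := mem_zpowers_of_mem_of_ne_one (hexp x hx) hqx hq1
      have ezq : (a * r)⁻¹ * q * (a * r) = z := by
        rw [show (a * r)⁻¹ * q * (a * r) = r⁻¹ * (a⁻¹ * (q * a)) * r by group, haP q (hQP hqQ),
          inv_mul_cancel_left, ← hz₁q, hz₁]
        group
      obtain ⟨H, hH, hqH, haH, hrH⟩ := S.slot q (m := a) (j := r) (by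
        rw [ezq]
        refine (mem_of_mem_closure_pair (zpowers_le.mpr (Subgroup.subset_closure (by simp)) hxq)
          (Subgroup.subset_closure (by simp))) hr)
      refine ⟨H, hH, haH, ?_, hqH, by rwa [← hz₁q]⟩
      rw [← ezq]
      exact mul_mem (mul_mem (inv_mem (mul_mem haH hrH)) hqH) (mul_mem haH hrH)
    · obtain ⟨H, hH, hxH, hsH, hzH⟩ := S.root
        (show Commute x s from (mem_centralizer_singleton_iff.mp hsC).symm)
        (hordQ x hx hxa ▸ (orderOf_coprime_of_mem_core hs).symm) z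
      have hrH := mem_of_mem_closure_pair hxH hzH hr
      have hz₁H : z₁ ∈ H := mul_mem (mul_mem hrH hzH) (inv_mem hrH)
      have hqH : q ∈ H := mul_mem (mul_mem hsH hz₁H) (inv_mem hsH)
      have haH : a ∈ H := by
        have hq2 := hq
        rw [← SetLike.mem_coe, coe_mul_of_left_le_normalizer_right (zpowers a) (zpowers x) (zpowers_le.mpr
          (centralizer_le_normalizer _ (mem_centralizer_iff.mpr fun y hy => by
            obtain ⟨k, rfl⟩ := mem_zpowers_iff.mp hy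
            exact ((show Commute a x from (haP x (hQP hx)).symm).zpow_right k).eq.symm)))] at hq2
        obtain ⟨y, hy, v, hv, hyv⟩ := Set.mem_mul.mp hq2
        have hy1 : y ≠ 1 := fun h => hqx (by rw [← hyv, h, one_mul]; exact hv)
        have hyH : y ∈ H := by
          have h1 := mul_mem hqH (inv_mem (zpowers_le.mpr hxH hv))
          rwa [← hyv, mul_inv_cancel_right] at h1
        exact zpowers_le.mpr hyH (mem_zpowers_of_mem_of_ne_one hap hy hy1)
      refine ⟨H, hH, haH, hzH, hqH, orderOf_coprime_of_mem_core (H := H) ?_⟩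
      have hupH : ∀ {w}, w ∈ H → w ^ p = 1 → w ∈ upper p H := fun hw hwp => hup H hH _ hw hwp
      have hz₁p : z₁ ^ p = 1 := conj_pow_eq_one hzp r
      rw [show q⁻¹ * z = (q⁻¹ * z₁) * (z₁⁻¹ * z) by group]
      refine mul_mem (mem_core_of_le (mul_mem (inv_mem (hupH hqH (hexp q hqQ))) (hupH hz₁H hz₁p))
        (X := centralizer ({x} : Set G)) ?_)
        (mem_core_of_mem_upper (mul_mem (inv_mem (hupH hz₁H hz₁p)) (hupH hzH hzp)) hrz)
      have hz₁C : z₁ ∈ centralizer ({x} : Set G) := by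
        have h1 : q ∈ centralizer ({x} : Set G) := by
          refine (sup_le (zpowers_le.mpr (hax x hx)) (zpowers_le.mpr ?_) :
            zpowers a ⊔ zpowers x ≤ centralizer ({x} : Set G)) hq
          exact mem_centralizer_singleton_iff.mpr rfl
        simpa [hq', mul_assoc] using mul_mem (mul_mem (inv_mem hsC) h1) hsC
      rw [show q⁻¹ * z₁ = s * (z₁⁻¹ * s⁻¹ * z₁) by rw [hq']; group]
      exact mul_mem hs (by simpa using conj_mem_core (inv_mem hz₁C) (inv_mem hs))
  have L2 : ∀ x ∈ Q, x ∉ zpowers a → theta p x ≤ K := by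
    intro x hx hxa t ht z hzp
    have htC := theta_le_centralizer x ht
    have htx : t * x * t⁻¹ = x := by rw [mem_centralizer_singleton_iff.mp htC, mul_inv_cancel_right]
    set J := closure ({x, z} : Set G) with hJ
    set J' := closure ({x, t * z * t⁻¹} : Set G) with hJ'
    have hJJ : ∀ {w}, w ∈ J → t * w * t⁻¹ ∈ J' := by
      intro w hw
      have : J.map (MulAut.conj t).toMonoidHom ≤ J' := by
        rw [hJ, MonoidHom.map_closure, closure_le]
        rintro _ ⟨v, hv, rfl⟩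
        rcases hv with rfl | rfl
        · refine Subgroup.subset_closure (Or.inl ?_)
          simpa [MulAut.conj_apply] using htx
        · exact Subgroup.subset_closure (Or.inr rfl)
      exact this ⟨w, hw, rfl⟩
    have hJne : J ≠ ⊤ := S.pair x z
    have hxJ : x ∈ J := Subgroup.subset_closure (by simp)
    have hzJ : z ∈ J := Subgroup.subset_closure (by simp)
    obtain ⟨r, hr, hPg⟩ := exists_core_conj (hup J hJne x hxJ (hexp x hx)) (hup J hJne z hzJ hzp)
      (isPGroup_zpowers_of_pow_eq_one (hexp x hx)) (isPGroup_zpowers_of_pow_eq_one hzp)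
    have hrJ := core_le _ hr
    set z₁ := r * z * r⁻¹ with hz₁
    have hz₁p : z₁ ^ p = 1 := conj_pow_eq_one hzp r
    obtain ⟨k, hk⟩ := exists_conj_mem_sylow P hPg
    have hxk := hΩ _ (hk x (Subgroup.subset_closure (by simp))) (conj_pow_eq_one (hexp x hx) k)
    have hzk := hΩ _ (hk z₁ (Subgroup.subset_closure (by simp))) (conj_pow_eq_one hz₁p k)
    by_cases hcm : x * z₁ = z₁ * x
    · have hz₁C : z₁ ∈ centralizer ({x} : Set G) := mem_centralizer_singleton_iff.mpr hcm.symm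
      have hEC : zpowers a ⊔ zpowers x ≤ centralizer ({x} : Set G) :=
        sup_le (zpowers_le.mpr (hax x hx)) (zpowers_le.mpr (mem_centralizer_singleton_iff.mpr rfl))
      obtain ⟨s, hs, T, hT, hET, hzT⟩ := exists_core_conj_le (A := zpowers a ⊔ zpowers x)
        (fun w hw => hup _ (hCne x hx hxa) w (hEC hw) (hexp w (hEpx x hx hw)))
        (zpowers_le.mpr (hup _ (hCne x hx hxa) z₁ hz₁C hz₁p))
        (P.isPGroup'.to_le ((hEpx x hx).trans hQP)) (isPGroup_zpowers_of_pow_eq_one hz₁p)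
      have hsC := theta_le_centralizer x hs
      obtain ⟨k', hk'⟩ := exists_conj_mem_sylow P hT
      have hk'M := hconjM k' (hweak k' (hk' a (hET (mem_sup_left (mem_zpowers a)))))
      set q := s * z₁ * s⁻¹ with hq
      have hqT : q ∈ T := hzT z₁ (mem_zpowers z₁)
      have hqC : q ∈ centralizer ({x} : Set G) := mul_mem (mul_mem hsC hz₁C) (inv_mem hsC)
      have hq2 : q ∈ zpowers a ⊔ zpowers x := by
        have h1 := hcent _ (hΩ _ (hk' x (hET (mem_sup_right (mem_zpowers x))))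
          (conj_pow_eq_one (hexp x hx) k')) _ (hΩ _ (hk' q hqT) (conj_pow_eq_one (conj_pow_eq_one hz₁p s) k'))
          (fun h => hxa ((mem_normalizer_iff.mp hk'M x).mpr h)) (by
            calc k' * x * k'⁻¹ * (k' * q * k'⁻¹) = k' * (x * q) * k'⁻¹ := by group
              _ = k' * (q * x) * k'⁻¹ := by rw [mem_centralizer_singleton_iff.mp hqC]
              _ = _ := by group)
        obtain ⟨w, hw, hwq⟩ : k' * q * k'⁻¹ ∈
            (zpowers a ⊔ zpowers x).map (MulAut.conj k').toMonoidHom := by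
          refine (sup_le ?_ ?_ : zpowers a ⊔ zpowers (k' * x * k'⁻¹) ≤ _) h1
          · refine zpowers_le.mpr ⟨k'⁻¹ * a * k', mem_sup_left ?_, by simp [MulAut.conj_apply, mul_assoc]⟩
            exact (mem_normalizer_iff''.mp hk'M a).mp (mem_zpowers a)
          · exact zpowers_le.mpr ⟨x, mem_sup_right (mem_zpowers x), rfl⟩
        obtain rfl : w = q := (MulAut.conj k').injective (by simpa [MulAut.conj_apply] using hwq)
        exact hw
      have hcop : (orderOf (z₁⁻¹ * z)).Coprime p := by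
        refine orderOf_coprime_of_mem_core (H := J) ?_
        rw [show z₁⁻¹ * z = r * (z⁻¹ * r⁻¹ * z) by rw [hz₁]; group]
        exact mul_mem hr (by simpa using conj_mem_core (inv_mem hzJ) (inv_mem hr))
      have h1 := L3 x hx hxa z hzp r hrJ hcop s hs hq2
      have e1 : t * r * t⁻¹ * (t * z * t⁻¹) * (t * r * t⁻¹)⁻¹ = t * z₁ * t⁻¹ := by rw [hz₁]; group
      have e2 : (s * t⁻¹) * (t * z₁ * t⁻¹) * (s * t⁻¹)⁻¹ = q := by rw [hq]; group
      have h2 := L3 x hx hxa (t * z * t⁻¹) (conj_pow_eq_one hzp t) (t * r * t⁻¹) (hJJ hrJ) (by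
        rw [e1, show (t * z₁ * t⁻¹)⁻¹ * (t * z * t⁻¹) = MulAut.conj t (z₁⁻¹ * z) by
          simp [MulAut.conj_apply, mul_assoc], MulEquiv.orderOf_eq]
        exact hcop) (s * t⁻¹) (mul_mem hs (inv_mem ht)) (by rw [e1, e2]; exact hq2)
      rw [e1, e2] at h2
      exact Rtrans h1 (Rsymm h2)
    · -- the centre of the Sylow subgroup of `J`
      set c := ⁅k * x * k⁻¹, k * z₁ * k⁻¹⁆ with hc
      have hca : c ∈ zpowers a := hQZ _ (hQP hxk) _ hzk
      have hc1 : c ≠ 1 := fun h => hcm (by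
        have h2 := commutatorElement_eq_one_iff_mul_comm.mp h
        calc x * z₁ = k⁻¹ * ((k * x * k⁻¹) * (k * z₁ * k⁻¹)) * k := by group
          _ = k⁻¹ * ((k * z₁ * k⁻¹) * (k * x * k⁻¹)) * k := by rw [h2]
          _ = z₁ * x := by group)
      have ha0 : k⁻¹ * a * k ∈ J := by
        obtain ⟨i, hi⟩ := mem_zpowers_iff.mp (mem_zpowers_of_mem_of_ne_one hap hca hc1)
        have : ⁅x, z₁⁆ ^ i = k⁻¹ * a * k := by
          rw [← hi, show c = MulAut.conj k ⁅x, z₁⁆ by rw [map_commutatorElement]; rfl, ← map_zpow,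
            MulAut.conj_apply]
          group
        rw [← this]
        refine zpow_mem ?_ i
        have hz₁J : z₁ ∈ J := mul_mem (mul_mem hrJ hzJ) (inv_mem hrJ)
        exact mul_mem (mul_mem (mul_mem hxJ hz₁J) (inv_mem hxJ)) (inv_mem hz₁J)
      set a₀ := k⁻¹ * a * k with ha₀
      have ha₀p : a₀ ^ p = 1 := by simpa [ha₀] using conj_pow_eq_one hap k⁻¹
      have ha₀C : a₀ ∈ centralizer ({x} : Set G) := mem_centralizer_singleton_iff.mpr (by
        rw [ha₀]
        calc k⁻¹ * a * k * x = k⁻¹ * (a * (k * x * k⁻¹)) * k := by group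
          _ = k⁻¹ * ((k * x * k⁻¹) * a) * k := by rw [haP _ (hQP hxk)]
          _ = x * (k⁻¹ * a * k) := by group)
      obtain ⟨u, hu, hPu⟩ := exists_core_conj (hup _ (hCne x hx hxa) a (hax x hx) hap)
        (hup _ (hCne x hx hxa) a₀ ha₀C ha₀p) (isPGroup_zpowers_of_pow_eq_one hap)
        (isPGroup_zpowers_of_pow_eq_one ha₀p)
      have huC := theta_le_centralizer x hu
      rw [show u * a₀ * u⁻¹ = (u * k⁻¹) * a * (u * k⁻¹)⁻¹ by rw [ha₀]; group] at hPu
      have hl := hline _ hPu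
      rw [show (u * k⁻¹) * a * (u * k⁻¹)⁻¹ = u * a₀ * u⁻¹ by rw [ha₀]; group] at hl
      have hua : u⁻¹ * a * u ∈ J := by
        have hne1 : u * a₀ * u⁻¹ ≠ 1 := fun h => ha1 (by
          calc a = k * (u⁻¹ * (u * a₀ * u⁻¹) * u) * k⁻¹ := by rw [ha₀]; group
            _ = 1 := by rw [h]; group)
        obtain ⟨i, hi⟩ := mem_zpowers_iff.mp (mem_zpowers_of_mem_of_ne_one hap hl hne1)
        rw [← hi, conj_zpow, show u⁻¹ * (u * a₀ ^ i * u⁻¹) * u = a₀ ^ i by group]
        exact zpow_mem ha0 i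
      have main : ∀ z' u', z' ^ p = 1 → u' ∈ theta p x → u'⁻¹ * a * u' ∈ closure ({x, z'} : Set G) →
          R (β z') (β (u' * z' * u'⁻¹)) := by
        intro z' u' hz'p hu' hau'
        obtain ⟨H, hH, hxH, huH, hzH⟩ := S.root
          (show Commute x u' from (mem_centralizer_singleton_iff.mp (theta_le_centralizer x hu')).symm)
          (hordQ x hx hxa ▸ (orderOf_coprime_of_mem_core hu').symm) z'
        have h1 := mem_of_mem_closure_pair hxH hzH hau'
        have haH : a ∈ H := by simpa [mul_assoc] using mul_mem (mul_mem huH h1) (inv_mem huH)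
        exact L1 x hx hxa H hH haH hxH z' hzH hz'p u' hu' h1
      have h1 := main z u hzp hu hua
      have h2 := main (t * z * t⁻¹) (u * t⁻¹) (conj_pow_eq_one hzp t) (mul_mem hu (inv_mem ht)) (by
        rw [show (u * t⁻¹)⁻¹ * a * (u * t⁻¹) = t * (u⁻¹ * a * u) * t⁻¹ by group]
        exact hJJ hua)
      rw [show u * t⁻¹ * (t * z * t⁻¹) * (u * t⁻¹)⁻¹ = u * z * u⁻¹ by group] at h2
      exact Rtrans h1 (Rsymm h2)
  -- everything
  set U := M ⊔ K with hU
  have hCU : ∀ x ∈ zpowers a ⊔ zpowers e, x ≠ 1 → centralizer ({x} : Set G) ≤ U := by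
    intro x hxE hx1 g hg
    by_cases hxa : x ∈ zpowers a
    · refine mem_sup_left (hconjM g ?_)
      obtain ⟨i, hi⟩ := mem_zpowers_iff.mp (mem_zpowers_of_mem_of_ne_one hap hxa hx1)
      rw [← hi, ((show Commute g x from mem_centralizer_singleton_iff.mp hg).zpow_right i).eq,
        mul_inv_cancel_right, hi]
      exact mem_zpowers a
    have hx := hEpx e he hxE
    have hga : g * a * g⁻¹ ∈ centralizer ({x} : Set G) := mul_mem (mul_mem hg (hax x hx)) (inv_mem hg)
    obtain ⟨u, hu, hPu⟩ := exists_core_conj (hup _ (hCne x hx hxa) a (hax x hx) hap)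
      (hup _ (hCne x hx hxa) _ hga (conj_pow_eq_one hap g)) (isPGroup_zpowers_of_pow_eq_one hap)
      (isPGroup_zpowers_of_pow_eq_one (conj_pow_eq_one hap g))
    rw [show u * (g * a * g⁻¹) * u⁻¹ = (u * g) * a * (u * g)⁻¹ by group] at hPu
    have h1 : u * g ∈ U := mem_sup_left (hconjM _ (hline _ hPu))
    simpa using mul_mem (inv_mem (mem_sup_right (L2 x hx hxa hu) : u ∈ U)) h1
  have hUtop : U = ⊤ := by
    refine (eq_top_iff' U).mpr fun g => ?_
    set z := g * a * g⁻¹ with hz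
    have hzp : z ^ p = 1 := conj_pow_eq_one hap g
    have hJne : closure ({a, z} : Set G) ≠ ⊤ := S.pair a z
    obtain ⟨r, hr, hPr⟩ := exists_core_conj (hup _ hJne a (Subgroup.subset_closure (by simp)) hap)
      (hup _ hJne z (Subgroup.subset_closure (by simp)) hzp) (isPGroup_zpowers_of_pow_eq_one hap)
      (isPGroup_zpowers_of_pow_eq_one hzp)
    rw [show r * z * r⁻¹ = (r * g) * a * (r * g)⁻¹ by rw [hz]; group] at hPr
    have hrg := hconjM _ (hline _ hPr)
    set b := r * z * r⁻¹ with hb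
    have hbe : b ∈ zpowers a := by
      rw [hb, show r * z * r⁻¹ = (r * g) * a * (r * g)⁻¹ by rw [hz]; group]
      exact hline _ hPr
    have hb1 : b ≠ 1 := fun h => ha1 (by
      calc a = g⁻¹ * (r⁻¹ * b * r) * g := by rw [hb, hz]; group
        _ = 1 := by rw [h]; group)
    have ezb : (e * r)⁻¹ * b * (e * r) = z := by
      rw [show (e * r)⁻¹ * b * (e * r) = r⁻¹ * (e⁻¹ * (b * e)) * r by group]
      obtain ⟨i, hi⟩ := mem_zpowers_iff.mp hbe
      rw [← hi, ((show Commute e a from haP e (hQP he)).zpow_right i).eq.symm, inv_mul_cancel_left, hi, hb]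
      group
    obtain ⟨H, hH, hbH, heH, hrH⟩ := S.slot b (m := e) (j := r) (by
      rw [ezb]
      exact mem_of_mem_closure_pair (zpowers_le.mpr (Subgroup.subset_closure (by simp))
        (mem_zpowers_of_mem_of_ne_one hap hbe hb1)) (Subgroup.subset_closure (by simp)) (core_le _ hr))
    have haH : a ∈ H := zpowers_le.mpr hbH (mem_zpowers_of_mem_of_ne_one hap hbe hb1)
    have hzH : z ∈ H := ezb ▸ mul_mem (mul_mem (inv_mem (mul_mem heH hrH)) hbH) (mul_mem heH hrH)
    have hJup : closure ({a, z} : Set G) ≤ upper p H :=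
      mem_of_mem_closure_pair (hup H hH a haH hap) (hup H hH z hzH hzp)
    have hrcore : r ∈ core p H := mem_core_of_le (hJup (core_le _ hr)) hr
    set E := zpowers a ⊔ zpowers e with hE
    have hEel : Cfsg.IsElementaryAbelian p E := by
      have hle : E ≤ centralizer (({a, e} : Set G)) := by
        refine sup_le (zpowers_le.mpr ?_) (zpowers_le.mpr ?_) <;> refine mem_centralizer_iff.mpr ?_ <;>
          intro y hy <;> rcases hy with h | h <;> rw [h] <;>
            first | rfl | exact (haP e (hQP he)).symm | exact haP e (hQP he)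
      refine ⟨?_, fun x hx => hexp x (hEpx e he hx)⟩
      have hcom : ∀ x ∈ E, ∀ y ∈ E, x * y = y * x := by
        intro x hx y hy
        have h1 : E ≤ centralizer ({y} : Set G) := by
          have hy' := mem_centralizer_iff.mp (hle hy)
          exact sup_le (zpowers_le.mpr (mem_centralizer_singleton_iff.mpr (hy' a (by simp))))
            (zpowers_le.mpr (mem_centralizer_singleton_iff.mpr (hy' e (by simp))))
        exact mem_centralizer_singleton_iff.mp (h1 hx)
      exact ⟨⟨fun x y => Subtype.ext (hcom x x.2 y y.2)⟩⟩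
    have hEne : E ≠ ⊥ := fun h => ha1 (mem_bot.mp (h ▸ mem_sup_left (mem_zpowers a)))
    have hEH : E ≤ normalizer (core p H : Set G) :=
      (sup_le (zpowers_le.mpr haH) (zpowers_le.mpr heH)).trans (le_normalizer_core H)
    have hcoreU : core p H ≤ U := le_of_hyperplanes hEel hEne _ (core_not_dvd H) hEH fun D hD hi => by
      obtain ⟨d, hd, hd1⟩ : ∃ d ∈ D, d ≠ 1 := by
        by_contra hh
        push Not at hh
        obtain rfl : D = ⊥ := (eq_bot_iff_forall D).2 hh
        rw [relIndex_bot_left] at hi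
        have hle : Nat.card (zpowers a) < Nat.card E := lt_of_le_of_ne (card_le_of_le le_sup_left)
          fun h => hea ((eq_of_le_of_card_ge le_sup_left h.ge).ge (mem_sup_right (mem_zpowers e)))
        rw [Nat.card_zpowers, orderOf_eq_prime hap ha1] at hle
        omega
      exact inf_le_right.trans ((centralizer_le (Set.singleton_subset_iff.2 hd)).trans (hCU d (hD hd) hd1))
    simpa using mul_mem (inv_mem (hcoreU hrcore)) (mem_sup_left hrg : r * g ∈ U)
  haveI : K.Normal := Subgroup.normalizer_eq_top_iff.mp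
    (eq_top_iff.mpr (hUtop ▸ sup_le hNK le_normalizer))
  haveI := S.simple
  have haK : a ∈ K := hFixK a (hQN haQ) (hFixP a (hQP haQ))
  rcases (inferInstance : K.Normal).eq_bot_or_eq_top with hb | ht
  · exact ha1 (mem_bot.mp (hb ▸ haK))
  have hnK := (ht ▸ mem_top n : n ∈ K) e (hexp e he)
  have h1 := huniq (hexp e he) (hvalQ he) (hβ e (hexp e he))
  have h2 := huniq (hexp _ hne) (hβ _ (hexp _ hne)) (hvalQ hne)
  have h3 := hQZ1 (mul_mem (inv_mem he) hne) (Rtrans h1 (Rtrans hnK h2))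
  exact hne' (by simpa using mul_mem (mem_sup_right (mem_zpowers e) : e ∈ zpowers a ⊔ zpowers e) (mem_sup_left h3))

end Cfsg.Agent.Grp.TwoGen
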