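import Cfsg.Agent.Lib.Grp.TwoGen.Basic
import Cfsg.Agent.Lib.Grp.BalanceReduction
import Cfsg.Agent.Lib.Transfer.Local.Bender
import Cfsg.Agent.Lib.Transfer.SFT.Main

/-!
Flavell's two-generator theorem: no prime with an elementary abelian subgroup of order `p ^ 3`.
-/

set_option autoImplicit false
set_option linter.style.haveILetI false
set_option linter.unusedVariables false

namespace Cfsg.Agent.Grp.TwoGen

open Subgroup

variable {G : Type*} [Group G] [Finite G] {p : ℕ} [hp : Fact p.Prime]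

theorem Setting.centralizer_ne_top (S : Setting G) {a : G} (ha : a ≠ 1) :
    centralizer ({a} : Set G) ≠ ⊤ := by
  intro h
  have hac : a ∈ center G :=
    mem_center_iff.2 fun x => mem_centralizer_singleton_iff.1 (h.ge (mem_top x))
  have := S.simple
  rcases (inferInstance : (center G).Normal).eq_bot_or_eq_top with e | e
  · exact ha (mem_bot.1 (e ▸ hac))
  · exact S.notSolvable (Group.isSolvable_of_comm fun x y =>
      (mem_center_iff.1 (e.ge (mem_top x)) y).symm)

theorem Setting.isSolvableSignalizerFunctor (S : Setting G) {A : Subgroup G}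
    (hA : Cfsg.IsElementaryAbelian p A) :
    Cfsg.IsSolvableSignalizerFunctor p A (fun a => theta p a) := by
  refine ⟨⟨fun a _ _ => core_le _,
    fun a _ _ => hp.out.coprime_iff_not_dvd.1
      (Grp.centralizerPPrimeCore_coprime (p := p) a).symm,
    fun a ha _ b hb x hx => Grp.centralizerPPrimeCore_conj (Grp.elemAb_comm hA b hb a ha) hx,
    fun a ha ha1 b hb hb1 => ?_⟩,
    fun a _ ha1 => Grp.isSolvable_of_le (core_le _) (S.proper _ (S.centralizer_ne_top ha1))⟩
  haveI : Group.IsSolvable ↥(centralizer ({b} : Set G)) := S.proper _ (S.centralizer_ne_top hb1)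
  have hab : a ∈ centralizer ({b} : Set G) :=
    mem_centralizer_singleton_iff.2 (Grp.elemAb_comm hA a ha b hb)
  have h := Transfer.Loc.balanceOf (L := centralizer ({b} : Set G)) (P := zpowers a)
    (Y := theta p a ⊓ centralizer ({b} : Set G)) (p := p)
    ((Grp.elemAb_isPGroup hA).to_le (zpowers_le.2 ha)) (zpowers_le.2 hab)
    (fun y hy => ⟨hy.2, by rw [← Grp.centralizer_singleton_eq_zpowers]; exact core_le _ hy.1⟩) ?_
    ((Grp.centralizerPPrimeCore_coprime (p := p) a).coprime_dvd_left (card_dvd_of_le inf_le_left))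
  · exact h.trans (Transfer.Loc.O'_eq _).le
  rw [← Grp.invariant_iff]
  intro c hc y hy
  have hca : c * a = a * c := mem_centralizer_singleton_iff.1
    (by rw [Grp.centralizer_singleton_eq_zpowers]; exact hc.2)
  exact ⟨Grp.centralizerPPrimeCore_conj hca hy.1, (centralizer ({b} : Set G)).mul_mem ((centralizer ({b} : Set G)).mul_mem hc.1 hy.2)
    ((centralizer ({b} : Set G)).inv_mem hc.1)⟩

/-- (1) completeness: closure of the cores over an elementary group of rank three is a proper
invariant p'-group. -/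
theorem Setting.exists_signalizer_closure (S : Setting G) (hpG : p ∣ Nat.card G) {A : Subgroup G}
    (hA : Cfsg.IsElementaryAbelian p A) (h3 : p ^ 3 ≤ Nat.card A) :
    ∃ W : Subgroup G, ¬ p ∣ Nat.card W ∧ A ≤ normalizer (W : Set G) ∧
      ∀ e ∈ A, e ≠ 1 → theta p e ≤ W ∧ W ⊓ centralizer ({e} : Set G) = theta p e := by
  obtain ⟨-, h1, h2, h3'⟩ := Transfer.SFT.closure_complete hA h3 (S.isSolvableSignalizerFunctor hA)
  exact ⟨_, h1, h2, fun e he he1 => ⟨(h3' e he he1).ge.trans inf_le_left, h3' e he he1⟩⟩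

/-- A `p'`-subgroup acted on by `b` of order dividing `p`: an element commutes with `b` modulo `N`
only if its coset modulo `N` contains an element centralised by `b`. -/
theorem exists_fixed_of_comm {Q N : Subgroup G} {b : G} (hb : b ^ p = 1)
    (hQ : ¬ p ∣ Nat.card Q) (hbQ : b ∈ normalizer (Q : Set G)) (hbN : b ∈ normalizer (N : Set G))
    {q : G} (hq : q ∈ Q) (hqN : q⁻¹ * b⁻¹ * q * b ∈ N) :
    ∃ x ∈ Q, x * b = b * x ∧ q⁻¹ * x ∈ N := by
  classical
  let Y := {x : G // x ∈ Q ∧ q⁻¹ * x ∈ N}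
  have hcard : Nat.card Y = Nat.card ↥(N ⊓ Q : Subgroup G) := by
    refine Nat.card_congr ⟨fun x => ⟨q⁻¹ * x.1, x.2.2, Q.mul_mem (Q.inv_mem hq) x.2.1⟩,
      fun n => ⟨q * n.1, mul_mem hq n.2.2, by simpa using n.2.1⟩,
      fun x => by ext; simp, fun n => by ext; simp⟩
  have hmem : ∀ x : G, (x ∈ Q ∧ q⁻¹ * x ∈ N) → b⁻¹ * x * b ∈ Q ∧ q⁻¹ * (b⁻¹ * x * b) ∈ N := by
    rintro x ⟨h1, h2⟩
    refine ⟨(mem_normalizer_iff''.1 hbQ x).1 h1, ?_⟩
    have := N.mul_mem hqN ((mem_normalizer_iff''.1 hbN _).1 h2)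
    rwa [show q⁻¹ * b⁻¹ * q * b * (b⁻¹ * (q⁻¹ * x) * b) = q⁻¹ * (b⁻¹ * x * b) by group] at this
  let f : Y → Y := fun x => ⟨b⁻¹ * x.1 * b, hmem x.1 x.2⟩
  have hiter : ∀ (n : ℕ) (x : Y), ((f^[n]) x).1 = (b ^ n)⁻¹ * x.1 * b ^ n := by
    intro n
    induction n with
    | zero => intro x; simp
    | succ n ih =>
      intro x
      rw [Function.iterate_succ_apply, ih]
      show (b ^ n)⁻¹ * (b⁻¹ * x.1 * b) * b ^ n = _
      rw [pow_succ']
      group
  have hfp : ∀ x : Y, (f^[p]) x = x := fun x => Subtype.ext (by rw [hiter, hb]; simp)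
  have hinj : Function.Injective f := fun x y h => Subtype.ext (by
    simpa [f] using congrArg Subtype.val h)
  let σ : Equiv.Perm Y := Equiv.ofBijective f (Finite.injective_iff_bijective.1 hinj)
  haveI : Fintype Y := Fintype.ofFinite Y
  have hσ : σ ^ p ^ 1 = 1 := by
    ext1 x
    rw [pow_one, Equiv.Perm.coe_pow]
    exact hfp x
  obtain ⟨x, hx⟩ := Equiv.Perm.exists_fixed_point_of_prime (p := p) (n := 1) (by
    rw [← Nat.card_eq_fintype_card, hcard]
    exact fun h => hQ (h.trans (card_dvd_of_le inf_le_right))) hσ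
  refine ⟨x.1, x.2.1, ?_, x.2.2⟩
  have he : b⁻¹ * x.1 * b = x.1 := congrArg Subtype.val hx
  calc x.1 * b = b * (b⁻¹ * x.1 * b) := by group
    _ = b * x.1 := by rw [he]

/-- (2) no prime with these data. `hlocal`: members of the class lie in O_{p',p} of every proper
subgroup. `hcomm`: on a p'-subgroup of C(e) normalised by b, commutators with b fall in θ(e).
`hcomm'`: on a p'-subgroup of C(b) normalised by c, commutators with c fall in θ(b).
`hrep`: every conjugate of a is b^j with b ∈ A in the class and j ∈ O_{p'}(⟨b, b^j⟩). -/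
theorem Setting.false_of_rank_three (S : Setting G) (hpG : p ∣ Nat.card G) {A : Subgroup G}
    (hA : Cfsg.IsElementaryAbelian p A) (h3 : p ^ 3 ≤ Nat.card A) {a : G} (ha : a ∈ A) (ha1 : a ≠ 1)
    (hlocal : ∀ H : Subgroup G, H ≠ ⊤ → ∀ b ∈ A, IsConj a b → ∀ hb : b ∈ H,
      (⟨b, hb⟩ : H) ∈ Cfsg.pPrimePCore p H)
    (hcomm : ∀ e ∈ A, e ≠ 1 → ∀ b ∈ A, IsConj a b → ∀ Q : Subgroup G, ¬ p ∣ Nat.card Q →
      Q ≤ centralizer ({e} : Set G) → b ∈ normalizer (Q : Set G) →
      ∀ q ∈ Q, q⁻¹ * b⁻¹ * q * b ∈ theta p e)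
    (hcomm' : ∀ b ∈ A, IsConj a b → ∀ c ∈ A, ∀ Q : Subgroup G, ¬ p ∣ Nat.card Q →
      Q ≤ centralizer ({b} : Set G) → c ∈ normalizer (Q : Set G) →
      ∀ q ∈ Q, q⁻¹ * c⁻¹ * q * c ∈ theta p b)
    (hrep : ∀ g : G, ∃ b ∈ A, IsConj a b ∧ ∃ j : G, g⁻¹ * a * g = j⁻¹ * b * j ∧
      j ∈ core p (closure ({b, j⁻¹ * b * j} : Set G))) :
    False := by
  obtain ⟨W, hW, hAW, hWθ⟩ := S.exists_signalizer_closure hpG hA h3
  have hcoreN : ∀ (X : Subgroup G), X ≤ normalizer (core p X : Set G) := fun X => by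
    rw [← Grp.invariant_iff]
    rintro c hc _ ⟨y, hy, rfl⟩
    exact ⟨_, (Grp.pPrimeCore_isNormal (p := p)).conj_mem y hy ⟨c, hc⟩, rfl⟩
  suffices key : ∀ g : G, g⁻¹ * a * g ∈ A ⊔ W by
    haveI := S.simple
    have htop : A ⊔ W = ⊤ := by
      have hn : normalClosure ({a} : Set G) = ⊤ :=
        (normalClosure_normal (s := ({a} : Set G))).eq_bot_or_eq_top.resolve_left fun e =>
          ha1 (mem_bot.1 (e ▸ subset_normalClosure (Set.mem_singleton a)))
      refine top_le_iff.1 (hn.ge.trans ((closure_le _).2 fun x hx => ?_))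
      obtain ⟨y, hy, hyx⟩ := Group.mem_conjugatesOfSet_iff.1 hx
      obtain rfl : y = a := hy
      obtain ⟨g, rfl⟩ := isConj_iff.1 hyx
      simpa using key g⁻¹
    have hWn : W.Normal :=
      normalizer_eq_top_iff.1 (top_le_iff.1 (htop.ge.trans (sup_le hAW le_normalizer)))
    rcases hWn.eq_bot_or_eq_top with e | e
    · rw [e, sup_bot_eq] at htop
      exact S.notSolvable (Group.isSolvable_of_comm fun x y =>
        Grp.elemAb_comm hA x (htop.ge (mem_top x)) y (htop.ge (mem_top y)))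
    · exact hW (by rwa [e, card_top])
  intro g
  obtain ⟨b, hbA, hab, j, hj, hjX⟩ := hrep g
  rw [hj]
  have hb1 : b ≠ 1 := by
    rintro rfl
    exact ha1 (isConj_one_right.1 hab.symm)
  have hbp : ∀ {x : G}, x ∈ A → x ^ p = 1 := fun hx => hA.2 _ hx
  obtain ⟨c, hcA, hcb⟩ : ∃ c ∈ A, c ∉ zpowers b := by
    by_contra hh
    push Not at hh
    have h1 := card_le_of_le (show A ≤ zpowers b from hh)
    rw [Nat.card_zpowers, orderOf_eq_prime (hbp hbA) hb1] at h1
    have h2 : p ^ 1 < p ^ 3 := Nat.pow_lt_pow_right hp.out.one_lt (by norm_num)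
    rw [pow_one] at h2
    omega
  have hbc : b * c = c * b := Grp.elemAb_comm hA b hbA c hcA
  set E := zpowers b ⊔ zpowers c with hE
  have hbE : b ∈ E := mem_sup_left (mem_zpowers b)
  have hcE : c ∈ E := mem_sup_right (mem_zpowers c)
  have hEA : E ≤ A := sup_le (zpowers_le.2 hbA) (zpowers_le.2 hcA)
  have hEel : Cfsg.IsElementaryAbelian p E := Grp.elemAb_mono hA hEA
  -- the proper subgroup containing `b`, `c`, `j`
  have hjc : j ∈ closure ({b, (c * j)⁻¹ * b * (c * j)} : Set G) := by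
    rw [show (c * j)⁻¹ * b * (c * j) = j⁻¹ * (c⁻¹ * (b * c)) * j by group, hbc,
      show c⁻¹ * (c * b) = b by group]
    exact core_le _ hjX
  obtain ⟨H, hH, hbH, hcH, hjH⟩ := S.slot b hjc
  set R := core p H with hR
  have hRp : ¬ p ∣ Nat.card R := fun h => by
    rw [hR, core, card_map_of_injective H.subtype_injective] at h
    exact Grp.pPrimeCore_not_dvd h
  have hjR : j ∈ R := by
    set L := Cfsg.pPrimePCore p ↥H with hL
    have hXH : closure ({b, j⁻¹ * b * j} : Set G) ≤ H :=
      mem_of_mem_closure_pair hbH (mul_mem (mul_mem (inv_mem hjH) hbH) hjH)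
    have hbL := hlocal H hH b hbA hab hbH
    haveI : L.Normal := by
      haveI := Grp.pCore_isNormal (p := p) (G := ↥H ⧸ Cfsg.pPrimeCore p ↥H)
      exact Normal.comap inferInstance _
    have hXL : closure ({b, j⁻¹ * b * j} : Set G) ≤ L.map H.subtype := by
      refine mem_of_mem_closure_pair ⟨_, hbL, rfl⟩ ⟨_, (‹L.Normal›).conj_mem _ hbL
        ⟨j⁻¹, inv_mem hjH⟩, ?_⟩
      simp
    obtain ⟨l, hl, hlj⟩ := hXL (core_le _ hjX)
    refine ⟨l, ?_, hlj⟩
    have hnd : ¬ p ∣ orderOf l := by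
      rw [← Subgroup.orderOf_coe, show (l : G) = j from hlj]
      intro hd
      obtain ⟨y, hy, hyj⟩ := hjX
      rw [← hyj, coe_subtype, Subgroup.orderOf_coe, ← Subgroup.orderOf_mk y hy] at hd
      exact Grp.pPrimeCore_not_dvd (hd.trans (orderOf_dvd_natCard _))
    haveI := Grp.pPrimeCore_isNormal (p := p) (G := ↥H)
    set π := QuotientGroup.mk' (Cfsg.pPrimeCore p ↥H)
    refine (QuotientGroup.eq_one_iff l).1 ?_
    show π l = 1
    have hl' : π l ∈ Cfsg.pCore p (↥H ⧸ Cfsg.pPrimeCore p ↥H) := hl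
    obtain ⟨k, hk⟩ := Grp.pCore_isPGroup (⟨π l, hl'⟩ : ↥(Cfsg.pCore p (↥H ⧸ Cfsg.pPrimeCore p ↥H)))
    rw [← orderOf_eq_one_iff]
    exact Nat.eq_one_of_dvd_coprimes ((hp.out.coprime_iff_not_dvd.2 hnd).pow_left k)
      (orderOf_dvd_of_pow_eq_one (congrArg Subtype.val hk)) (orderOf_map_dvd π l)
  -- every element of the core lies in `W ⊔ C(E)`
  set T := W ⊔ centralizer (E : Set G) with hT
  have hcent : ∀ {x : G}, x * b = b * x → x * c = c * x → x ∈ centralizer (E : Set G) := by
    intro x hxb hxc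
    have hle : E ≤ centralizer ({x} : Set G) := sup_le
      (zpowers_le.2 (mem_centralizer_singleton_iff.2 hxb.symm))
      (zpowers_le.2 (mem_centralizer_singleton_iff.2 hxc.symm))
    exact mem_centralizer_iff.2 fun y hy => mem_centralizer_singleton_iff.1 (hle hy)
  have hEH : E ≤ H := sup_le (zpowers_le.2 hbH) (zpowers_le.2 hcH)
  have hEN : E ≤ normalizer (R : Set G) := hEH.trans (hcoreN H)
  have hp2 : p < Nat.card E := by
    have h1 := orderOf_eq_prime (hbp hbA) hb1
    rw [← h1, ← Nat.card_zpowers]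
    exact lt_of_le_of_ne (card_le_of_le le_sup_left) fun e =>
      hcb ((eq_of_le_of_card_ge le_sup_left e.ge).ge hcE)
  have hE1 : E ≠ ⊥ := fun e => hb1 (mem_bot.1 (e ▸ hbE))
  have hpt : ∀ D : Subgroup G, D ≤ E → D.relIndex E = p →
      ∃ e ∈ D, e ∈ E ∧ e ≠ 1 := by
    intro D hDE hi
    by_contra hh
    push Not at hh
    obtain rfl : D = ⊥ := (eq_bot_iff_forall D).2 fun d hd => hh d hd (hDE hd)
    rw [relIndex_bot_left] at hi
    omega
  have hRT : R ≤ T := by
    refine Grp.le_of_hyperplanes hEel hE1 R hRp hEN fun D hDE hi => ?_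
    obtain ⟨e, heD, heE, he1⟩ := hpt D hDE hi
    refine le_trans (inf_le_inf_left R (centralizer_le (Set.singleton_subset_iff.2 heD))) ?_
    set Q := R ⊓ centralizer ({e} : Set G) with hQ
    have hQp : ¬ p ∣ Nat.card Q := fun h => hRp (h.trans (card_dvd_of_le inf_le_left))
    have hQN : E ≤ normalizer (Q : Set G) := Grp.le_normalizer_inf' hEN (by
      rw [Grp.centralizer_singleton_eq_zpowers]
      exact Grp.le_normalizer_centralizer_of_commute fun x hx y hy =>
        Grp.elemAb_comm hEel x hx y (zpowers_le.2 heE hy))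
    have heA := hEA heE
    -- split an element into a commutator part and a fixed part
    have split : ∀ (x e' : G), x ∈ E → e' ∈ E → e' ≠ 1 →
        Q ≤ centralizer ({e'} : Set G) →
        (∀ y : G, y * x = x * y → y * e' = e' * y → y ∈ centralizer (E : Set G)) →
        (∀ q ∈ Q, q⁻¹ * x⁻¹ * q * x ∈ theta p e') → Q ≤ T := by
      intro x e' hx he' he'1 hQe hfix hq q hqQ
      have hxN : x ∈ normalizer (theta p e' : Set G) := hcoreN _
        (mem_centralizer_singleton_iff.2 (Grp.elemAb_comm hEel x hx e' he'))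
      obtain ⟨y, hyQ, hyx, hyN⟩ :=
        exists_fixed_of_comm (hbp (hEA hx)) hQp (hQN hx) hxN hqQ (hq q hqQ)
      have h1 : q⁻¹ * y ∈ T := mem_sup_left ((hWθ e' (hEA he') he'1).1 hyN)
      have h2 : y ∈ T := mem_sup_right (hfix y hyx (mem_centralizer_singleton_iff.1 (hQe hyQ)))
      have := T.mul_mem h2 (T.inv_mem h1)
      rwa [show y * (q⁻¹ * y)⁻¹ = q by group] at this
    have hord : orderOf b = p := orderOf_eq_prime (hbp hbA) hb1
    by_cases heb : e ∈ zpowers b
    · -- `C(e) = C(b)`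
      have hQb : Q ≤ centralizer ({b} : Set G) := by
        intro q hq
        have hbe : b ∈ zpowers e := by
          have h1 : zpowers e = zpowers b := by
            refine eq_of_le_of_card_ge (zpowers_le.2 heb) ?_
            rw [Nat.card_zpowers, Nat.card_zpowers, hord, orderOf_eq_prime (hbp heA) he1]
          exact h1 ▸ mem_zpowers b
        obtain ⟨i, rfl⟩ := mem_zpowers_iff.1 hbe
        exact mem_centralizer_singleton_iff.2
          ((show Commute q e from mem_centralizer_singleton_iff.1 hq.2).zpow_right i).eq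
      exact split c b hcE hbE hb1 hQb (fun y h1 h2 => hcent h2 h1)
        (hcomm' b hbA hab c hcA Q hQp hQb (hQN hcE))
    · refine split b e hbE heE he1 inf_le_right (fun y h1 h2 => hcent h1 ?_)
        (hcomm e heA he1 b hbA hab Q hQp inf_le_right (hQN hbE))
      have hcm : c ∈ zpowers b ⊔ zpowers e := by
        have heE' := heE
        rw [hE, ← SetLike.mem_coe, coe_mul_of_left_le_normalizer_right (zpowers b) (zpowers c)
          (zpowers_le.2 ?_)] at heE'
        · obtain ⟨x, hx, y, hy, rfl⟩ := Set.mem_mul.1 heE'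
          have hy' : y ∈ zpowers b ⊔ zpowers (x * y) := by
            have := mul_mem (inv_mem (mem_sup_left (T := zpowers (x * y)) hx))
              (mem_sup_right (S := zpowers b) (mem_zpowers (x * y)))
            rwa [inv_mul_cancel_left] at this
          have hy1 : y ≠ 1 := fun h => heb (by rw [h, mul_one]; exact hx)
          have hc1 : c ≠ 1 := fun h => hcb (h ▸ one_mem _)
          have h1 : zpowers y = zpowers c := by
            refine eq_of_le_of_card_ge (zpowers_le.2 hy) ?_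
            rw [Nat.card_zpowers, Nat.card_zpowers, orderOf_eq_prime (hbp hcA) hc1,
              orderOf_eq_prime (hbp (hEA (mem_sup_right hy))) hy1]
          exact (zpowers_le.2 hy') (h1.ge (mem_zpowers c))
        · refine mem_normalizer_iff.2 fun z => ⟨fun hz => ?_, fun hz => ?_⟩
          · obtain ⟨i, rfl⟩ := mem_zpowers_iff.1 hz
            rw [((show Commute b c from hbc).zpow_right i).eq, mul_inv_cancel_right]
            exact zpow_mem (mem_zpowers c) i
          · obtain ⟨i, hi⟩ := mem_zpowers_iff.1 hz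
            have : z = b⁻¹ * c ^ i * b := by rw [hi]; group
            rw [this, mul_assoc, ← ((show Commute b c from hbc).zpow_right i).eq, inv_mul_cancel_left]
            exact zpow_mem (mem_zpowers c) i
      have hle : zpowers b ⊔ zpowers e ≤ centralizer ({y} : Set G) := sup_le
        (zpowers_le.2 (mem_centralizer_singleton_iff.2 h1.symm))
        (zpowers_le.2 (mem_centralizer_singleton_iff.2 h2.symm))
      exact (mem_centralizer_singleton_iff.1 (hle hcm)).symm
  -- the centraliser of `E` normalises `W`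
  have hCW : centralizer (E : Set G) ≤ normalizer (W : Set G) := by
    set V := ⨆ e : {e : G // e ∈ E ∧ e ≠ 1}, theta p (e : G) with hV
    have hWV : W = V := by
      refine le_antisymm ?_ (iSup_le fun e => (hWθ e (hEA e.2.1) e.2.2).1)
      refine Grp.le_of_hyperplanes hEel hE1 W hW (hEA.trans hAW) fun D hDE hi => ?_
      obtain ⟨e, heD, heE, he1⟩ := hpt D hDE hi
      refine le_trans (inf_le_inf_left W (centralizer_le (Set.singleton_subset_iff.2 heD))) ?_
      rw [(hWθ e (hEA heE) he1).2]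
      exact le_iSup (fun e : {e : G // e ∈ E ∧ e ≠ 1} => theta p (e : G)) ⟨e, heE, he1⟩
    rw [hWV]
    exact Transfer.SFT.le_normalizer_iSup fun e =>
      (centralizer_le (Set.singleton_subset_iff.2 e.2.1)).trans (hcoreN _)
  have hjT := hRT hjR
  rw [hT, sup_comm, ← SetLike.mem_coe, coe_mul_of_left_le_normalizer_right _ _ hCW] at hjT
  obtain ⟨d, hd, w', hw', rfl⟩ := Set.mem_mul.1 hjT
  set w := d * w' * d⁻¹ with hwdef
  have hw : w ∈ W := (mem_normalizer_iff.1 (hCW hd) w').1 hw'
  rw [show d * w' = w * d by rw [hwdef]; group]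
  have hdb : b * d = d * b := mem_centralizer_iff.1 hd b hbE
  have h1 : (w * d)⁻¹ * b * (w * d) = d⁻¹ * (w⁻¹ * (b * w * b⁻¹)) * d * b := by
    have : d * b * d⁻¹ = b := by rw [← hdb]; group
    calc (w * d)⁻¹ * b * (w * d) = d⁻¹ * (w⁻¹ * (b * w * b⁻¹)) * (b * d) := by group
      _ = d⁻¹ * (w⁻¹ * (b * w * b⁻¹)) * (d * b) := by rw [hdb]
      _ = _ := by group
  rw [h1]
  refine mul_mem (mem_sup_right ?_) (mem_sup_left hbA)
  exact (mem_normalizer_iff''.1 (hCW hd) _).1
    (mul_mem (inv_mem hw) ((mem_normalizer_iff.1 (hAW hbA) w).1 hw))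

end Cfsg.Agent.Grp.TwoGen
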