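import Cfsg.Agent.Lib.Grp.TwoGen.CyclicCase
import Cfsg.Agent.Lib.Grp.TwoGen.RankThree
import Cfsg.Agent.Lib.Grp.TwoGen.ExtraspecialCase
import Cfsg.Agent.Lib.Transfer.RankTwo
import Cfsg.Agent.Lib.Transfer.Frobenius
import Cfsg.Agent.Lib.Fus.SmallExp
import Cfsg.Agent.S0016

/-!
Flavell's two-generator theorem: no prime `p ≥ 5` divides the order of a smallest counterexample.
`A` is a maximal normal elementary abelian subgroup of a Sylow subgroup: order at least `p ^ 3` gives the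
rank three configuration, order `p ^ 2` either no fusion at all or the extraspecial configuration.
-/

set_option autoImplicit false

namespace Cfsg.Agent.Grp.TwoGen

open Subgroup
open scoped commutatorElement

set_option linter.style.haveILetI false

universe u

variable {G : Type u} [Group G] [Finite G] {p : ℕ} [hp : Fact p.Prime]

theorem Setting.not_hasNormalPComplement (S : Setting G) (hpG : p ∣ Nat.card G) :
    ¬ Cfsg.HasNormalPComplement p G := by
  rintro ⟨P, N, hN, hc⟩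
  haveI := S.simple
  rcases hN.eq_bot_or_eq_top with rfl | rfl
  · have hP : (P : Subgroup G) = ⊤ := isComplement'_bot_left.mp hc
    haveI : Group.IsNilpotent G :=
      ((hP ▸ P.isPGroup' : IsPGroup p (⊤ : Subgroup G)).of_equiv Subgroup.topEquiv).isNilpotent
    exact S.notSolvable inferInstance
  · exact P.ne_bot_of_dvd_card hpG (isComplement'_top_left.mp hc)

theorem conj_mem_upper {H : Subgroup G} {g x : G} (hg : g ∈ H) (hx : x ∈ upper p H) :
    g * x * g⁻¹ ∈ upper p H := by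
  haveI : (Cfsg.pPrimeCore p H).Normal := pPrimeCore_isNormal
  haveI := Grp.pCore_isNormal (p := p) (G := ↥H ⧸ Cfsg.pPrimeCore p ↥H)
  haveI : (Cfsg.pPrimePCore p H).Normal := Normal.comap inferInstance _
  obtain ⟨y, hy, rfl⟩ := hx
  exact ⟨⟨g, hg⟩ * y * ⟨g, hg⟩⁻¹, (‹(Cfsg.pPrimePCore p H).Normal›).conj_mem y hy _, rfl⟩

theorem card_sup_zpowers_le {a b : G} (hab : a * b = b * a) :
    Nat.card (zpowers a ⊔ zpowers b : Subgroup G) ≤ orderOf a * orderOf b := by
  have hn : zpowers a ≤ normalizer (zpowers b : Set G) := zpowers_le.mpr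
    (centralizer_le_normalizer _ (mem_centralizer_iff.mpr fun y hy => by
      obtain ⟨k, rfl⟩ := mem_zpowers_iff.mp hy
      exact ((show Commute a b from hab).zpow_right k).eq.symm))
  have hmem : ∀ z : (zpowers a ⊔ zpowers b : Subgroup G),
      ∃ w : zpowers a × zpowers b, (w.1 : G) * w.2 = z := by
    rintro ⟨z, hz⟩
    rw [← SetLike.mem_coe, coe_mul_of_left_le_normalizer_right _ _ hn] at hz
    obtain ⟨x, hx, y, hy, rfl⟩ := Set.mem_mul.mp hz
    exact ⟨(⟨x, hx⟩, ⟨y, hy⟩), rfl⟩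
  choose f hf using hmem
  have hinj : Function.Injective f := fun x y h => Subtype.ext (by rw [← hf x, ← hf y, h])
  calc _ ≤ Nat.card (zpowers a × zpowers b) := Nat.card_le_card_of_injective f hinj
    _ = _ := by rw [Nat.card_prod, Nat.card_zpowers, Nat.card_zpowers]

/-- Products in `⟨a⟩⟨b⟩` for commuting `a`, `b`. -/
theorem exists_zpow_mul_zpow {a b x : G} (hab : a * b = b * a) (hx : x ∈ zpowers a ⊔ zpowers b) :
    ∃ l i : ℤ, x = a ^ l * b ^ i := by
  have hn : zpowers a ≤ normalizer (zpowers b : Set G) := zpowers_le.mpr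
    (centralizer_le_normalizer _ (mem_centralizer_iff.mpr fun y hy => by
      obtain ⟨k, rfl⟩ := mem_zpowers_iff.mp hy
      exact ((show Commute a b from hab).zpow_right k).eq.symm))
  rw [← SetLike.mem_coe, coe_mul_of_left_le_normalizer_right _ _ hn] at hx
  obtain ⟨u, hu, v, hv, rfl⟩ := Set.mem_mul.mp hx
  obtain ⟨l, rfl⟩ := mem_zpowers_iff.mp hu
  obtain ⟨i, rfl⟩ := mem_zpowers_iff.mp hv
  exact ⟨l, i, rfl⟩

/-- A `p`-element normalising `⟨a⟩⟨e⟩` and fixing `a` moves `e` inside `e⟨a⟩`. -/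
theorem commutator_mem_line {a e x : G} {k : ℕ} (hex : e ^ p = 1) (hae : a * e = e * a)
    (hea : e ∉ zpowers a) (hxa : x * a = a * x) (hx : x ^ p ^ k = 1)
    (hxe : x * e * x⁻¹ ∈ zpowers a ⊔ zpowers e) : ⁅x, e⁆ ∈ zpowers a := by
  obtain ⟨l, i, hi⟩ := exists_zpow_mul_zpow hae hxe
  have key : ∀ n : ℕ, ∃ l' : ℤ, x ^ n * e * (x ^ n)⁻¹ = a ^ l' * e ^ (i ^ n) := by
    intro n
    induction n with
    | zero => exact ⟨0, by simp⟩
    | succ n ih =>
      obtain ⟨l', hl'⟩ := ih
      refine ⟨l' + l * i ^ n, ?_⟩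
      calc x ^ (n + 1) * e * (x ^ (n + 1))⁻¹ = x * (x ^ n * e * (x ^ n)⁻¹) * x⁻¹ := by
            rw [pow_succ']; group
        _ = (x * a ^ l' * x⁻¹) * (x * e * x⁻¹) ^ (i ^ n) := by rw [hl', conj_zpow]; group
        _ = a ^ l' * (a ^ l * e ^ i) ^ (i ^ n) := by
            rw [hi, ((show Commute x a from hxa).zpow_right l').eq, mul_inv_cancel_right]
        _ = a ^ (l' + l * i ^ n) * e ^ (i ^ (n + 1)) := by
            rw [((show Commute a e from hae).zpow_zpow l i).mul_zpow, ← zpow_mul, ← zpow_mul, ← mul_assoc,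
              ← zpow_add, pow_succ', mul_comm i (i ^ n)]
  obtain ⟨l', hl'⟩ := key (p ^ k)
  rw [hx] at hl'
  have h1 : e ^ (i ^ (p ^ k) - 1) ∈ zpowers a := by
    rw [zpow_sub_one]
    have : e ^ i ^ p ^ k = (a ^ l')⁻¹ * e := by
      calc e ^ i ^ p ^ k = (a ^ l')⁻¹ * (a ^ l' * e ^ i ^ p ^ k) := by group
        _ = _ := by rw [← hl']; group
    rw [this, mul_inv_cancel_right]
    exact inv_mem (zpow_mem (mem_zpowers a) _)
  have hdvd : (p : ℤ) ∣ i ^ (p ^ k) - 1 := by
    by_contra hnd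
    refine hea ?_
    obtain ⟨u, v, huv⟩ := (Prime.coprime_iff_not_dvd (Nat.prime_iff_prime_int.mp hp.out)).mpr hnd
    rw [← zpow_one e, ← huv, zpow_add, mul_comm u (p : ℤ), zpow_mul, zpow_natCast, hex, one_zpow,
      one_mul, mul_comm v, zpow_mul]
    exact zpow_mem h1 v
  have hi1 : (p : ℤ) ∣ i - 1 := by
    rw [← ZMod.intCast_zmod_eq_zero_iff_dvd] at hdvd ⊢
    push_cast at hdvd ⊢
    rwa [ZMod.pow_card_pow] at hdvd
  obtain ⟨c, hc⟩ := hi1
  refine mem_zpowers_iff.mpr ⟨l, ?_⟩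
  have he1 : e ^ i = e := by
    rw [show i = (p : ℤ) * c + 1 by omega, zpow_add, zpow_mul, zpow_natCast, hex, one_zpow, one_mul, zpow_one]
  rw [commutatorElement_def, hi, he1, mul_inv_cancel_right]

/-- No prime `p ≥ 5` divides the order. -/
theorem Setting.false_of_prime (S : Setting G) (h5 : 5 ≤ p) (hpG : p ∣ Nat.card G) : False := by
  classical
  obtain ⟨P⟩ : Nonempty (Sylow p G) := inferInstance
  by_cases hcyc : IsCyclic (P : Subgroup G)
  · exact S.false_of_cyclic hpG P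
  have hp2 : p ≠ 2 := by omega
  have hPne : (P : Subgroup G) ≠ ⊥ := P.ne_bot_of_dvd_card hpG
  have hP := P.isPGroup'
  haveI hPnil : Group.IsNilpotent (P : Subgroup G) := hP.isNilpotent
  have hst := Grp.Quad.isNormalizerPStable_of_free hp2 (S.qdFree h5)
  set Zc := Invol.centerOmega 0 (P : Subgroup G) with hZc
  set N := normalizer (Zc : Set G) with hN
  have hcomm : ∀ x ∈ Zc, ∀ y ∈ Zc, x * y = y * x := fun x hx y hy =>
    (mem_centralizer_iff.mp (Invol.mem_centerOmega.mp hx).1.2 y (Invol.mem_centerOmega.mp hy).1.1).symm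
  let W : Subgroup G :=
    { carrier := {x | x ∈ Zc ∧ x ^ p = 1}
      one_mem' := ⟨one_mem _, one_pow _⟩
      mul_mem' := fun {x y} hx hy => ⟨mul_mem hx.1 hy.1, by
        rw [(show Commute x y from hcomm x hx.1 y hy.1).mul_pow, hx.2, hy.2, mul_one]⟩
      inv_mem' := fun {x} hx => ⟨inv_mem hx.1, by rw [inv_pow, hx.2, inv_one]⟩ }
  have hWP : W ≤ (P : Subgroup G) := fun x hx => Invol.centerOmega_le _ hx.1
  have hWel : Cfsg.IsElementaryAbelian p W :=
    ⟨⟨⟨fun x y => Subtype.ext (hcomm x x.2.1 y y.2.1)⟩⟩, fun x hx => hx.2⟩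
  have hNW : N ≤ normalizer (W : Set G) := fun k hk => mem_normalizer_fintype fun x hx =>
    ⟨(mem_normalizer_iff.mp hk x).mp hx.1, conj_pow_eq_one hx.2 k⟩
  have hPN : (P : Subgroup G) ≤ N := le_trans le_normalizer (Invol.normalizer_le_centerOmega _)
  -- the central element
  obtain ⟨a, haW, ha1, haP⟩ : ∃ a ∈ W, a ≠ 1 ∧ ∀ u ∈ (P : Subgroup G), u * a = a * u := by
    have hZne : Zc ≠ ⊥ := Invol.centerOmega_ne_bot (Or.inl rfl) hP hPne
    have hWne : W.subgroupOf (P : Subgroup G) ≠ ⊥ := by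
      obtain ⟨z, hz, hz1⟩ := (Subgroup.bot_or_exists_ne_one Zc).resolve_left hZne
      obtain ⟨k, hk⟩ := hP ⟨z, Invol.centerOmega_le _ hz⟩
      have hk' : z ^ p ^ k = 1 := congrArg Subtype.val hk
      obtain ⟨w, hw, hw1, hwp⟩ : ∃ w ∈ Zc, w ≠ 1 ∧ w ^ p = 1 := by
        clear hk
        induction k generalizing z with
        | zero => exact absurd (by simpa using hk') hz1
        | succ k ih =>
          by_cases h : z ^ p = 1
          · exact ⟨z, hz, hz1, h⟩
          · exact ih (z ^ p) (pow_mem hz p) h (by rwa [← pow_mul, ← pow_succ'])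
      exact fun h => hw1 (congrArg Subtype.val ((Subgroup.eq_bot_iff_forall _).mp h
        ⟨w, Invol.centerOmega_le _ hw⟩ ⟨hw, hwp⟩))
    haveI : (W.subgroupOf (P : Subgroup G)).Normal := ⟨fun x hx k =>
      (mem_normalizer_iff.mp (hNW (hPN k.2)) _).mp hx⟩
    obtain ⟨x, hx, hx1⟩ := (Subgroup.bot_or_exists_ne_one _).resolve_left
      (Grp.inf_center_ne_bot (W.subgroupOf (P : Subgroup G)) hWne)
    exact ⟨x, hx.1, fun h => hx1 (Subtype.ext h), fun u hu =>
      congrArg Subtype.val (Subgroup.mem_center_iff.mp hx.2 ⟨u, hu⟩)⟩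
  have hap : a ^ p = 1 := haW.2
  have haPm : a ∈ (P : Subgroup G) := hWP haW
  have hord : orderOf a = p := orderOf_eq_prime hap ha1
  have hweak : ∀ g : G, g * a * g⁻¹ ∈ (P : Subgroup G) → g * a * g⁻¹ ∈ zpowers a := by
    intro g hg
    obtain ⟨k, hk, he⟩ := Invol.zjControl_of_stable h5 G hst P {a}
      (Set.singleton_subset_iff.mpr haPm) g (fun x hx => Set.mem_singleton_iff.mp hx ▸ hg)
    have hk' : k ∈ N := hk
    rw [← he a rfl]
    have hmem : k * a * k⁻¹ ∈ W := (mem_normalizer_iff.mp (hNW hk') a).mp haW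
    by_cases hr : p ^ 2 ≤ Nat.card W
    · have h := S.conj_eq_self (S.closed_of_invariant h5 P hWel hr hWP hNW) haW ha1 (g := k⁻¹)
        (by simpa using hmem)
      rw [inv_inv] at h
      rw [h]
      exact mem_zpowers a
    · have hWa : zpowers a = W := by
        refine eq_of_le_of_card_ge (zpowers_le.mpr haW) ?_
        obtain ⟨n, hn⟩ := IsPGroup.iff_card.mp (hP.to_le hWP)
        rw [Nat.card_zpowers, hord, hn]
        refine (Nat.pow_le_pow_right hp.out.pos ?_).trans (pow_one p).le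
        by_contra hlt
        exact hr (hn ▸ Nat.pow_le_pow_right hp.out.pos (by omega))
      exact hWa ▸ hmem
  have haPz : ∀ x ∈ zpowers a, ∀ u ∈ (P : Subgroup G), u * x = x * u := fun x hx u hu => by
    obtain ⟨i, rfl⟩ := mem_zpowers_iff.mp hx
    exact ((show Commute u a from haP u hu).zpow_right i).eq
  have hlocal : ∀ b ∈ zpowers a, IsConj a b → ∀ H : Subgroup G, H ≠ ⊤ → b ∈ H → b ∈ upper p H := by
    intro b hb hab H hH hbH
    have hbp : b ^ p = 1 := by
      obtain ⟨c, rfl⟩ := isConj_iff.mp hab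
      exact conj_pow_eq_one hap c
    refine S.mem_upper_of_quadratic h5 hH hbH (isPGroup_zpowers_of_pow_eq_one hbp) fun T hT hbT u hu => ?_
    obtain ⟨k, hk⟩ := exists_conj_mem_sylow P hT
    obtain ⟨c, rfl⟩ := isConj_iff.mp hab
    have h1 := hk _ hbT
    rw [show k * (c * a * c⁻¹) * k⁻¹ = (k * c) * a * (k * c)⁻¹ by group] at h1
    have h2 := hweak _ h1
    rw [show (k * c) * a * (k * c)⁻¹ = k * (c * a * c⁻¹) * k⁻¹ by group] at h2
    have h3 : ⁅k * u * k⁻¹, k * (c * a * c⁻¹) * k⁻¹⁆ = 1 :=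
      commutatorElement_eq_one_iff_mul_comm.mpr (haPz _ h2 _ (hk u hu))
    refine (MulAut.conj k).injective ?_
    rw [map_one, map_commutatorElement, map_commutatorElement]
    simp only [MulAut.conj_apply]
    rw [h3, commutatorElement_one_left]
  -- the maximal normal elementary abelian subgroup
  obtain ⟨A₀, hA₀n, hA₀c, hA₀e, hA₀m⟩ := Transfer.RankTwo.exists_normal_omega_max hp2 hP
  set A := A₀.map (P : Subgroup G).subtype with hA
  have hAP : A ≤ (P : Subgroup G) := map_subtype_le _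
  have hAel : Cfsg.IsElementaryAbelian p A := by
    refine ⟨⟨⟨?_⟩⟩, ?_⟩
    · rintro ⟨_, x, hx, rfl⟩ ⟨_, y, hy, rfl⟩
      exact Subtype.ext (congrArg (P : Subgroup G).subtype
        (congrArg Subtype.val (hA₀c.is_comm.comm (⟨x, hx⟩ : A₀) ⟨y, hy⟩)))
    · rintro _ ⟨x, hx, rfl⟩
      exact congrArg (P : Subgroup G).subtype (hA₀e x hx)
  have hPA : (P : Subgroup G) ≤ normalizer (A : Set G) := fun k hk => mem_normalizer_fintype fun x hx => by
    obtain ⟨y, hy, rfl⟩ := hx
    exact ⟨⟨k, hk⟩ * y * ⟨k, hk⟩⁻¹, hA₀n.conj_mem y hy _, rfl⟩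
  have hmax : ∀ x ∈ (P : Subgroup G), x ^ p = 1 → (∀ y ∈ A, x * y = y * x) → x ∈ A := fun x hx hxp hc =>
    ⟨⟨x, hx⟩, hA₀m _ (mem_centralizer_iff.mpr fun y hy => Subtype.ext (hc y ⟨y, hy, rfl⟩).symm)
      (Subtype.ext hxp), rfl⟩
  have haA : a ∈ A := hmax a haPm hap fun y hy => (haP y (hAP hy)).symm
  have hcup : ∀ c ∈ A, ∀ H : Subgroup G, H ≠ ⊤ → (P : Subgroup G) ≤ H → c ∈ upper p H := by
    intro c hc H hH hPH
    refine S.mem_upper_of_quadratic_sylow h5 hH (hPH (hAP hc)) (P.subtype hPH) ?_ fun u hu => ?_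
    · rw [Sylow.coe_subtype, mem_subgroupOf]; exact hAP hc
    · rw [Sylow.coe_subtype, mem_subgroupOf] at hu
      refine H.subtype_injective ?_
      rw [map_one, map_commutatorElement, map_commutatorElement]
      refine commutatorElement_eq_one_iff_mul_comm.mpr (elemAb_comm hAel _ ?_ c hc)
      show ⁅(u : G), c⁆ ∈ A
      rw [commutatorElement_def]
      exact mul_mem ((mem_normalizer_iff.mp (hPA hu) c).mp hc) (inv_mem hc)
  obtain ⟨k, hk⟩ := IsPGroup.iff_card.mp (hP.to_le hAP)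
  by_cases hk3 : 3 ≤ k
  · -- rank three
    have hcard : p ^ 3 ≤ Nat.card A := hk ▸ Nat.pow_le_pow_right hp.out.pos hk3
    have hmemb : ∀ b ∈ A, IsConj a b → b ∈ zpowers a := fun b hb hab => by
      obtain ⟨c, rfl⟩ := isConj_iff.mp hab
      exact hweak c (hAP hb)
    refine S.false_of_rank_three hpG hAel hcard haA ha1 ?_ ?_ ?_ ?_
    · intro H hH b hb hab hbH
      obtain ⟨y, hy, hyb⟩ := hlocal b (hmemb b hb hab) hab H hH hbH
      rwa [show (⟨b, hbH⟩ : H) = y from Subtype.ext hyb.symm]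
    · intro e he he1 b hb hab Q hQ hQe hbQ q hq
      have hC := S.centralizer_singleton_ne_top he1
      have hbe : b ∈ centralizer ({e} : Set G) :=
        mem_centralizer_singleton_iff.mpr (elemAb_comm hAel b hb e he)
      have hbu := hlocal b (hmemb b hb hab) hab _ hC hbe
      refine mem_core_of_mem_upper (mul_mem ?_ hbu) ?_
      · simpa using conj_mem_upper (inv_mem (hQe hq)) (inv_mem hbu)
      · have hm : q⁻¹ * b⁻¹ * q * b ∈ Q := by
          rw [show q⁻¹ * b⁻¹ * q * b = q⁻¹ * (b⁻¹ * q * b) by group]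
          exact mul_mem (inv_mem hq) ((mem_normalizer_iff''.mp hbQ q).mp hq)
        exact ((hp.out.coprime_iff_not_dvd.mpr hQ).symm).coprime_dvd_left (orderOf_dvd_natCard _ hm)
    · intro b hb hab c hc Q hQ hQb hcQ q hq
      have hb1 : b ≠ 1 := by
        rintro rfl
        exact ha1 (isConj_one_right.1 hab.symm)
      have hC := S.centralizer_singleton_ne_top hb1
      have hPb : (P : Subgroup G) ≤ centralizer ({b} : Set G) := fun u hu =>
        mem_centralizer_singleton_iff.mpr (haPz b (hmemb b hb hab) u hu)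
      have hcu := hcup c hc _ hC hPb
      refine mem_core_of_mem_upper (mul_mem ?_ hcu) ?_
      · simpa using conj_mem_upper (inv_mem (hQb hq)) (inv_mem hcu)
      · have hm : q⁻¹ * c⁻¹ * q * c ∈ Q := by
          rw [show q⁻¹ * c⁻¹ * q * c = q⁻¹ * (c⁻¹ * q * c) by group]
          exact mul_mem (inv_mem hq) ((mem_normalizer_iff''.mp hcQ q).mp hq)
        exact ((hp.out.coprime_iff_not_dvd.mpr hQ).symm).coprime_dvd_left (orderOf_dvd_natCard _ hm)
    · intro g
      set z := g⁻¹ * a * g with hz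
      have hzp : z ^ p = 1 := by simpa [hz] using conj_pow_eq_one hap g⁻¹
      set J := closure ({a, z} : Set G) with hJ
      have hJne : J ≠ ⊤ := S.pair a z
      have hzc : IsConj a z := isConj_iff.mpr ⟨g⁻¹, by simp [hz]⟩
      have haJ : a ∈ J := Subgroup.subset_closure (by simp)
      have hzJ : z ∈ J := Subgroup.subset_closure (by simp)
      -- `z` lies in `O_{p',p}(J)`
      have hzup : z ∈ upper p J := by
        refine S.mem_upper_of_quadratic h5 hJne hzJ (isPGroup_zpowers_of_pow_eq_one hzp) fun T hT hzT u hu => ?_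
        obtain ⟨c, hc⟩ := exists_conj_mem_sylow P hT
        have h1 := hc _ hzT
        rw [show c * z * c⁻¹ = (c * g⁻¹) * a * (c * g⁻¹)⁻¹ by rw [hz]; group] at h1
        have h2 := hweak _ h1
        rw [show (c * g⁻¹) * a * (c * g⁻¹)⁻¹ = c * z * c⁻¹ by rw [hz]; group] at h2
        refine (MulAut.conj c).injective ?_
        rw [map_one, map_commutatorElement, map_commutatorElement]
        simp only [MulAut.conj_apply]
        rw [commutatorElement_eq_one_iff_mul_comm.mpr (haPz _ h2 _ (hc u hu)), commutatorElement_one_left]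
      obtain ⟨r, hr, hPr⟩ := exists_core_conj (hlocal a (mem_zpowers a) (IsConj.refl a) J hJne haJ) hzup
        (isPGroup_zpowers_of_pow_eq_one hap) (isPGroup_zpowers_of_pow_eq_one hzp)
      obtain ⟨c, hc⟩ := exists_conj_mem_sylow P hPr
      have hca := hweak c (hc a (Subgroup.subset_closure (by simp)))
      have hb := hc _ (Subgroup.subset_closure (show r * z * r⁻¹ ∈ ({a, r * z * r⁻¹} : Set G) by simp))
      rw [show c * (r * z * r⁻¹) * c⁻¹ = (c * r * g⁻¹) * a * (c * r * g⁻¹)⁻¹ by rw [hz]; group] at hb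
      have hb' := hweak _ hb
      rw [show (c * r * g⁻¹) * a * (c * r * g⁻¹)⁻¹ = c * (r * z * r⁻¹) * c⁻¹ by rw [hz]; group] at hb'
      have hcN : c ∈ normalizer (zpowers a : Set G) := mem_normalizer_fintype fun x hx => by
        obtain ⟨i, rfl⟩ := mem_zpowers_iff.mp hx
        rw [← conj_zpow]
        exact zpow_mem hca i
      have hbz : r * z * r⁻¹ ∈ zpowers a := (mem_normalizer_iff.mp hcN _).mpr hb'
      have hab : IsConj a (r * z * r⁻¹) := hzc.trans (isConj_iff.mpr ⟨r, rfl⟩)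
      refine ⟨r * z * r⁻¹, zpowers_le.mpr haA hbz, hab, r, by group, ?_⟩
      have e1 : r⁻¹ * (r * z * r⁻¹) * r = z := by group
      have e2 : closure ({r * z * r⁻¹, z} : Set G) = J := by
        refine le_antisymm (mem_of_mem_closure_pair (zpowers_le.mpr haJ hbz) hzJ)
          (mem_of_mem_closure_pair ?_ (Subgroup.subset_closure (by simp)))
        refine zpowers_le.mpr (Subgroup.subset_closure (by simp)) (mem_zpowers_of_mem_of_ne_one hap hbz ?_)
        intro h
        rw [h] at hab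
        exact ha1 (isConj_one_left.1 hab)
      rw [e1, e2]
      exact hr
  -- the order of `A` is `p ^ 2`
  have hk2 : k = 2 := by
    have hk1 : 1 < k := by
      by_contra hle
      refine hcyc ?_
      have hAa : A = zpowers a := (eq_of_le_of_card_ge (zpowers_le.mpr haA) (by
        rw [Nat.card_zpowers, hord, hk]
        exact (Nat.pow_le_pow_right hp.out.pos (by omega)).trans (pow_one p).le)).symm
      have hall : ∀ H : Subgroup (P : Subgroup G), Nat.card H = p →
          H.map (P : Subgroup G).subtype = zpowers a := by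
        intro H hH
        refine eq_of_le_of_card_ge ?_ (by
          rw [Nat.card_zpowers, hord, Subgroup.card_map_of_injective (Subgroup.subtype_injective _), hH])
        rintro _ ⟨x, hx, rfl⟩
        have hxd := orderOf_dvd_natCard H hx
        rw [hH] at hxd
        have hxp : x ^ p = 1 := orderOf_dvd_iff_pow_eq_one.mp hxd
        rw [← hAa]
        exact hmax x x.2 (congrArg Subtype.val hxp) fun y hy => haPz y (hAa ▸ hy) x x.2
      rcases Cfsg.Agent.S0016.result p hP (fun H K hH hK =>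
        map_injective (Subgroup.subtype_injective _) ((hall H hH).trans (hall K hK).symm)) with h | ⟨h, -⟩
      · exact h
      · exact absurd h hp2
    omega
  subst hk2
  have hrA : p ^ 2 ≤ Nat.card A := hk.ge
  by_cases hwc : ∀ x ∈ A, ∀ g : G, g * x * g⁻¹ ∈ (P : Subgroup G) → g * x * g⁻¹ ∈ A
  · -- no fusion at all
    have C := S.closed_of_weaklyClosed h5 P hAel hrA hwc hPA
    have hfuse : ∀ x ∈ A, ∀ g : G, g * x * g⁻¹ ∈ A → g * x * g⁻¹ = x := by
      intro x hx g hg
      rcases eq_or_ne x 1 with rfl | hx1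
      · simp
      simpa using S.conj_eq_self C hx hx1 (g := g⁻¹) (by simpa using hg)
    have hall : ∀ x ∈ (P : Subgroup G), x ^ p = 1 → x ∈ A := fun x hx hxp => hmax x hx hxp fun y hy => by
      have h := hfuse y hy x ((mem_normalizer_iff.mp (hPA hx) y).mp hy)
      calc x * y = (x * y * x⁻¹) * x := by group
        _ = y * x := by rw [h]
    refine S.not_hasNormalPComplement hpG ((Transfer.hasNormalPComplement_iff_frobeniusCondition P).mpr ?_)
    intro U hU g hg hgc
    set φ := Subgroup.normalizerMonoidHom U with hφ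
    have hfix : φ ⟨g, hg⟩ = 1 := by
      refine Fus.eq_one_of_fixed_small (hP.to_le hU) _
        (hgc.coprime_dvd_left ((orderOf_map_dvd φ _).trans (by rw [Subgroup.orderOf_mk]))) fun u hu => ?_
      rw [Fus.smallExp, if_neg hp2] at hu
      have hup : (u : G) ^ p = 1 := congrArg Subtype.val hu
      have h1 := hall _ (hU u.2) hup
      have h2 := hall _ (hU ((mem_normalizer_iff.mp hg u).mp u.2)) (conj_pow_eq_one hup g)
      exact Subtype.ext (hfuse _ h1 g h2)
    refine mem_centralizer_iff.mpr fun q hq => ?_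
    have h0 : φ ⟨g, hg⟩ ⟨q, hq⟩ = (⟨q, hq⟩ : U) := by rw [hfix]; rfl
    have h : g * q * g⁻¹ = q := congrArg Subtype.val h0
    calc q * g = (g * q * g⁻¹) * g := by rw [h]
      _ = g * q := by group
  -- fusion: the extraspecial configuration
  push Not at hwc
  obtain ⟨e, heA, g, hgP, hgA⟩ := hwc
  have hep : e ^ p = 1 := hAel.2 e heA
  have hea : e ∉ zpowers a := by
    intro he
    refine hgA ?_
    by_cases he1 : e = 1
    · simp [he1]
    obtain ⟨i, hi⟩ := mem_zpowers_iff.mp (mem_zpowers_of_mem_of_ne_one hap he he1)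
    have h1 : g * a * g⁻¹ ∈ (P : Subgroup G) := by
      rw [← hi, ← conj_zpow]
      exact zpow_mem hgP i
    obtain ⟨j, hj⟩ := mem_zpowers_iff.mp he
    rw [← hj, ← conj_zpow]
    exact zpow_mem (zpowers_le.mpr haA (hweak g h1)) j
  have hae : a * e = e * a := elemAb_comm hAel a haA e heA
  have hAeq : zpowers a ⊔ zpowers e = A := by
    refine eq_of_le_of_card_ge (sup_le (zpowers_le.mpr haA) (zpowers_le.mpr heA)) ?_
    obtain ⟨m, hm⟩ := IsPGroup.iff_card.mp ((elemAb_isPGroup hAel).to_le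
      (sup_le (zpowers_le.mpr haA) (zpowers_le.mpr heA) : zpowers a ⊔ zpowers e ≤ A))
    rw [hk, hm]
    refine Nat.pow_le_pow_right hp.out.pos ?_
    by_contra hlt
    refine hea ((eq_of_le_of_card_ge le_sup_left ?_).ge (mem_sup_right (mem_zpowers e)))
    rw [Nat.card_zpowers, hord, hm]
    exact (Nat.pow_le_pow_right hp.out.pos (by omega)).trans (pow_one p).le
  have hline : ∀ x ∈ (P : Subgroup G), ⁅x, e⁆ ∈ zpowers a := by
    intro x hx
    obtain ⟨j, hj⟩ := hP ⟨x, hx⟩
    exact commutator_mem_line hep hae hea (haP x hx) (congrArg Subtype.val hj)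
      (hAeq ▸ (mem_normalizer_iff.mp (hPA hx) e).mp heA)
  -- `x ↦ ⁅x, e⁆` is multiplicative on `P`
  have hhom : ∀ x ∈ (P : Subgroup G), ∀ y ∈ (P : Subgroup G), ⁅x * y, e⁆ = ⁅x, e⁆ * ⁅y, e⁆ := by
    intro x hx y hy
    rw [show ⁅x * y, e⁆ = (x * ⁅y, e⁆ * x⁻¹) * ⁅x, e⁆ by simp only [commutatorElement_def]; group,
      haPz _ (hline y hy) x hx, mul_inv_cancel_right]
    exact (haPz _ (hline x hx) _ (by
      rw [commutatorElement_def]
      exact mul_mem (mul_mem (mul_mem hy (hAP heA)) (inv_mem hy)) (inv_mem (hAP heA))))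
  let φ : (P : Subgroup G) →* G :=
    { toFun := fun x => ⁅(x : G), e⁆
      map_one' := commutatorElement_one_left e
      map_mul' := fun x y => hhom x x.2 y y.2 }
  have hCe : ∀ x ∈ (P : Subgroup G), x ^ p = 1 → x * e = e * x → x ∈ A := fun x hx hxp hc => by
    refine hmax x hx hxp fun y hy => ?_
    obtain ⟨l, i, rfl⟩ := exists_zpow_mul_zpow hae (hAeq.ge hy)
    exact (((show Commute x a from haP x hx).zpow_right l).mul_right
      ((show Commute x e from hc).zpow_right i)).eq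
  set x₀ := g * e * g⁻¹ with hx₀
  have hx₀p : x₀ ^ p = 1 := conj_pow_eq_one hep g
  have hx₀e : ⁅x₀, e⁆ ≠ 1 := fun h =>
    hgA (hCe x₀ hgP hx₀p (commutatorElement_eq_one_iff_mul_comm.mp h))
  have hadj : ∀ x ∈ (P : Subgroup G), ∃ i : ℤ, (x * x₀ ^ i) * e = e * (x * x₀ ^ i) := by
    intro x hx
    obtain ⟨i, hi⟩ := mem_zpowers_iff.mp (zpowers_le.mpr
      (mem_zpowers_of_mem_of_ne_one hap (hline x₀ hgP) hx₀e) (hline x hx))
    refine ⟨-i, commutatorElement_eq_one_iff_mul_comm.mp ?_⟩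
    show φ (⟨x, hx⟩ * ⟨x₀, hgP⟩ ^ (-i)) = 1
    rw [map_mul, map_zpow]
    show ⁅x, e⁆ * ⁅x₀, e⁆ ^ (-i) = 1
    rw [← hi, ← zpow_add, add_neg_cancel, zpow_zero]
  have hrank : Cfsg.PRankLE p 2 (P : Subgroup G) := by
    intro B hBc hBe
    rw [← Subgroup.card_map_of_injective (Subgroup.subtype_injective (P : Subgroup G))]
    have hBcomm : ∀ u ∈ B, ∀ v ∈ B, (u : G) * v = v * u := fun u hu v hv =>
      congrArg Subtype.val (congrArg Subtype.val (hBc.is_comm.comm (⟨u, hu⟩ : B) ⟨v, hv⟩))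
    have hBp : ∀ u ∈ B, (u : G) ^ p = 1 := fun u hu => congrArg Subtype.val (hBe u hu)
    by_cases hall : ∀ u ∈ B, (u : G) * e = e * u
    · refine (card_le_of_le ?_).trans hk.le
      rintro _ ⟨u, hu, rfl⟩
      exact hCe _ u.2 (hBp u hu) (hall u hu)
    push Not at hall
    obtain ⟨b₀, hb₀, hb₀e⟩ := hall
    have hb₀n : ⁅(b₀ : G), e⁆ ≠ 1 := fun h => hb₀e (commutatorElement_eq_one_iff_mul_comm.mp h)
    have hle : B.map (P : Subgroup G).subtype ≤ zpowers a ⊔ zpowers (b₀ : G) := by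
      rintro _ ⟨u, hu, rfl⟩
      obtain ⟨i, hi⟩ := mem_zpowers_iff.mp (zpowers_le.mpr
        (mem_zpowers_of_mem_of_ne_one hap (hline _ b₀.2) hb₀n) (hline _ u.2))
      set w := u * b₀ ^ (-i) with hw
      have hwB : w ∈ B := mul_mem hu (zpow_mem hb₀ _)
      have hwe : (w : G) * e = e * w := by
        refine commutatorElement_eq_one_iff_mul_comm.mp ?_
        show φ (u * b₀ ^ (-i)) = 1
        rw [map_mul, map_zpow]
        show ⁅(u : G), e⁆ * ⁅(b₀ : G), e⁆ ^ (-i) = 1
        rw [← hi, ← zpow_add, add_neg_cancel, zpow_zero]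
      obtain ⟨l, j, hlj⟩ := exists_zpow_mul_zpow hae (hAeq.ge (hCe _ w.2 (hBp w hwB) hwe))
      have hbj : Commute (b₀ : G) (e ^ j) := by
        have h0 : Commute (b₀ : G) (a ^ l * e ^ j) := hlj ▸ hBcomm b₀ hb₀ w hwB
        have h1 := ((show Commute (b₀ : G) a from haP _ b₀.2).zpow_right l).inv_right.mul_right h0
        rwa [inv_mul_cancel_left] at h1
      have hej : e ^ j = 1 := by
        by_contra hne
        obtain ⟨t, ht⟩ := mem_zpowers_iff.mp
          (mem_zpowers_of_mem_of_ne_one hep (zpow_mem (mem_zpowers e) j) hne)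
        exact hb₀e (ht ▸ hbj.zpow_right t).eq
      have hu' : (u : G) = a ^ l * (b₀ : G) ^ i := by
        have h2 : (w : G) = (u : G) * (b₀ : G) ^ (-i) := by simp [hw]
        rw [hej, mul_one] at hlj
        calc (u : G) = (w : G) * (b₀ : G) ^ i := by rw [h2]; group
          _ = _ := by rw [hlj]
      show (u : G) ∈ _
      rw [hu']
      exact mul_mem (mem_sup_left (zpow_mem (mem_zpowers a) l))
        (mem_sup_right (zpow_mem (mem_zpowers _) i))
    refine (card_le_of_le hle).trans ((card_sup_zpowers_le (haP _ b₀.2).symm).trans ?_)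
    rw [hord, sq]
    exact Nat.mul_le_mul_left p (orderOf_le_of_pow_eq_one hp.out.pos (hBp _ hb₀))
  let Q : Subgroup G :=
    { carrier := {x | x ∈ (P : Subgroup G) ∧ x ^ p = 1}
      one_mem' := ⟨one_mem _, one_pow _⟩
      mul_mem' := fun {x y} hx hy => ⟨mul_mem hx.1 hy.1, congrArg Subtype.val
        (Transfer.RankTwo.pow_mul_eq_one (show 3 < p by omega) hP hrank
          (x := ⟨x, hx.1⟩) (y := ⟨y, hy.1⟩) (Subtype.ext hx.2) (Subtype.ext hy.2))⟩
      inv_mem' := fun {x} hx => ⟨inv_mem hx.1, by rw [inv_pow, hx.2, inv_one]⟩ }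
  have hQP : Q ≤ (P : Subgroup G) := fun x hx => hx.1
  have hAQ : A ≤ Q := fun x hx => ⟨hAP hx, hAel.2 x hx⟩
  have hx₀Q : x₀ ∈ Q := ⟨hgP, hx₀p⟩
  have hQle : Q ≤ A ⊔ zpowers x₀ := by
    intro x hx
    obtain ⟨i, hi⟩ := hadj x hx.1
    have hm : x * x₀ ^ i ∈ Q := mul_mem hx (zpow_mem hx₀Q i)
    rw [show x = (x * x₀ ^ i) * (x₀ ^ i)⁻¹ by group]
    exact mul_mem (mem_sup_left (hCe _ hm.1 hm.2 hi)) (mem_sup_right (inv_mem (zpow_mem (mem_zpowers x₀) i)))
  have hcenQ : ∀ x ∈ Q, ∀ y ∈ Q, x ∉ zpowers a → x * y = y * x → y ∈ zpowers a ⊔ zpowers x := by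
    intro x hx y hy hxa hxy
    let K : Subgroup (P : Subgroup G) := closure ({⟨a, haPm⟩, ⟨x, hx.1⟩, ⟨y, hy.1⟩} : Set (P : Subgroup G))
    have hKc : IsMulCommutative K := by
      refine Subgroup.isMulCommutative_closure ?_
      rintro u (rfl | rfl | rfl) v (rfl | rfl | rfl) <;>
        first
          | rfl
          | exact Subtype.ext hxy
          | exact Subtype.ext hxy.symm
          | exact Subtype.ext (haP _ (Subtype.prop _))
          | exact Subtype.ext (haP _ (Subtype.prop _)).symm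
    have hKp : ∀ u ∈ K, u ^ p = 1 := by
      intro u hu
      induction hu using Subgroup.closure_induction with
      | mem u hu =>
        rcases hu with rfl | rfl | rfl <;> refine Subtype.ext ?_
        · exact hap
        · exact hx.2
        · exact hy.2
      | one => exact one_pow _
      | mul u v hu hv h1 h2 =>
        rw [(show Commute u v from congrArg Subtype.val (hKc.is_comm.comm (⟨u, hu⟩ : K) ⟨v, hv⟩)).mul_pow,
          h1, h2, mul_one]
      | inv u _ h1 => rw [inv_pow, h1, inv_one]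
    have hcardK := hrank K hKc hKp
    rw [← Subgroup.card_map_of_injective (Subgroup.subtype_injective (P : Subgroup G))] at hcardK
    have hle : zpowers a ⊔ zpowers x ≤ K.map (P : Subgroup G).subtype := sup_le
      (zpowers_le.mpr ⟨⟨a, haPm⟩, Subgroup.subset_closure (by simp), rfl⟩)
      (zpowers_le.mpr ⟨⟨x, hx.1⟩, Subgroup.subset_closure (by simp), rfl⟩)
    obtain ⟨m, hm⟩ := IsPGroup.iff_card.mp (hP.to_le (hle.trans (map_subtype_le K)))
    have h2 : 2 ≤ m := by
      by_contra hlt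
      refine hxa ((eq_of_le_of_card_ge le_sup_left ?_).ge (mem_sup_right (mem_zpowers x)))
      rw [Nat.card_zpowers, hord, hm]
      exact (Nat.pow_le_pow_right hp.out.pos (by omega)).trans (pow_one p).le
    exact (eq_of_le_of_card_ge hle (hcardK.trans (hm ▸ Nat.pow_le_pow_right hp.out.pos h2))).ge
      ⟨⟨y, hy.1⟩, Subgroup.subset_closure (by simp), rfl⟩
  -- realise the fusion in `N(Q)`
  obtain ⟨n, hn, hne⟩ := Invol.zjControl_of_stable h5 G hst P {e}
    (Set.singleton_subset_iff.mpr (hAP heA)) g (fun x hx => Set.mem_singleton_iff.mp hx ▸ hgP)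
  have hne' : n * e * n⁻¹ = x₀ := hne e rfl
  have hnN : n ∈ N := hn
  have hNne : N ≠ ⊤ := by
    intro h
    haveI := S.simple
    rcases (Subgroup.normalizer_eq_top_iff.mp h).eq_bot_or_eq_top with hb | ht
    · exact Invol.centerOmega_ne_bot (Or.inl rfl) hP hPne hb
    · exact S.notSolvable (Group.isSolvable_of_comm fun u v =>
        hcomm u (ht ▸ mem_top u) v (ht ▸ mem_top v))
  have hAup : A ≤ upper p N := fun c hc => hcup c hc N hNne hPN
  have hQup : Q ≤ upper p N := hQle.trans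
    (sup_le hAup (zpowers_le.mpr (hne' ▸ conj_mem_upper hnN (hAup heA))))
  obtain ⟨r, hr, T, hT, hQT, hBT⟩ := exists_core_conj_le (H := N) hQup
    (B := Q.map (MulAut.conj n).toMonoidHom)
    (by rintro _ ⟨q, hq, rfl⟩; exact conj_mem_upper hnN (hQup hq)) (hP.to_le hQP) ((hP.to_le hQP).map _)
  obtain ⟨c, hc⟩ := exists_conj_mem_sylow P hT
  have hcQ : c ∈ normalizer (Q : Set G) := mem_normalizer_fintype fun q hq =>
    ⟨hc q (hQT hq), conj_pow_eq_one hq.2 c⟩
  set n' := r * n with hn'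
  have hn'Q : n' ∈ normalizer (Q : Set G) := by
    refine mem_normalizer_fintype fun q hq => (mem_normalizer_iff.mp hcQ _).mpr ?_
    have h1 : r * (n * q * n⁻¹) * r⁻¹ ∈ T := hBT _ ⟨q, hq, rfl⟩
    rw [show n' * q * n'⁻¹ = r * (n * q * n⁻¹) * r⁻¹ by rw [hn']; group]
    exact ⟨hc _ h1, conj_pow_eq_one (conj_pow_eq_one (conj_pow_eq_one hq.2 n) r) c⟩
  have hn'e : n' * e * n'⁻¹ = x₀ := by
    have h1 : r * x₀ * r⁻¹ ∈ Q := by
      have h0 := (mem_normalizer_iff.mp hn'Q e).mp (hAQ heA)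
      rwa [show n' * e * n'⁻¹ = r * (n * e * n⁻¹) * r⁻¹ by rw [hn']; group, hne'] at h0
    rw [show n' * e * n'⁻¹ = r * (n * e * n⁻¹) * r⁻¹ by rw [hn']; group, hne']
    refine (inv_mul_eq_one.mp (eq_one_of_coprime_of_isPGroup (hP.to_le hQP)
      (mul_mem (inv_mem hx₀Q) h1) (orderOf_coprime_of_mem_core (H := N) ?_))).symm
    rw [show x₀⁻¹ * (r * x₀ * r⁻¹) = (x₀⁻¹ * r * x₀) * r⁻¹ by group]
    exact mul_mem (conj_mem_core' (upper_le N (hQup hx₀Q)) hr) (inv_mem hr)
  have hNQa : normalizer (Q : Set G) ≤ normalizer (zpowers a : Set G) := fun k hk =>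
    mem_normalizer_fintype fun x hx => by
      obtain ⟨i, rfl⟩ := mem_zpowers_iff.mp hx
      rw [← conj_zpow]
      exact zpow_mem (hweak k ((mem_normalizer_iff.mp hk a).mp (hAQ haA)).1) i
  have hPQ : (P : Subgroup G) ≤ normalizer (Q : Set G) := fun u hu => mem_normalizer_fintype fun q hq =>
    ⟨mul_mem (mul_mem hu hq.1) (inv_mem hu), conj_pow_eq_one hq.2 u⟩
  -- `P` acts trivially on `Q` modulo the line
  have hQA : ∀ u ∈ (P : Subgroup G), u * e = e * u → ∀ q ∈ Q, ⁅q, u⁆ ∈ A := by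
    intro u hu hue q hq
    have hmem : ⁅q, u⁆ ∈ Q := by
      rw [commutatorElement_def, show q * u * q⁻¹ * u⁻¹ = q * (u * q⁻¹ * u⁻¹) by group]
      exact mul_mem hq ((mem_normalizer_iff.mp (hPQ hu) _).mp (inv_mem hq))
    refine hCe _ hmem.1 hmem.2 (commutatorElement_eq_one_iff_mul_comm.mp ?_)
    show φ (⁅(⟨q, hq.1⟩ : (P : Subgroup G)), ⟨u, hu⟩⁆) = 1
    rw [map_commutatorElement]
    have : φ ⟨u, hu⟩ = 1 := commutatorElement_eq_one_iff_mul_comm.mpr hue
    rw [this, commutatorElement_one_right]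
  have hx₀line : ∀ u ∈ (P : Subgroup G), u * e = e * u → ⁅u, x₀⁆ ∈ zpowers a := by
    intro u hu hue
    set NQ := normalizer (Q : Set G)
    have hq1 : ⁅⁅Q, zpowers u⁆, zpowers u⁆ = ⊥ := by
      have hu' : ∀ w ∈ zpowers u, w ∈ (P : Subgroup G) ∧ w * e = e * w := by
        intro w hw
        obtain ⟨i, rfl⟩ := mem_zpowers_iff.mp hw
        exact ⟨zpow_mem hu i, ((show Commute u e from hue).zpow_left i).eq⟩
      refine le_bot_iff.mp (le_trans (commutator_mono (commutator_le.mpr fun q hq w hw =>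
        hQA w (hu' w hw).1 (hu' w hw).2 q hq) le_rfl) ?_)
      refine commutator_le.mpr fun y hy w hw => ?_
      obtain ⟨l, i, rfl⟩ := exists_zpow_mul_zpow hae (hAeq.ge hy)
      rw [mem_bot, commutatorElement_eq_one_iff_mul_comm]
      exact (((show Commute w a from haP w (hu' w hw).1).zpow_right l).mul_right
        ((show Commute w e from (hu' w hw).2).zpow_right i)).symm.eq
    have hst1 := hst Q (hP.to_le hQP) u (hPQ hu) hq1
    set C := (centralizer (Q : Set G)).subgroupOf NQ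
    haveI : (Cfsg.pCore p (NQ ⧸ C)).Normal := pCore_isNormal
    have hm : ((⟨n', hn'Q⟩⁻¹ * ⟨u, hPQ hu⟩ * ⟨n', hn'Q⟩ : NQ) : NQ ⧸ C) ∈ Cfsg.pCore p (NQ ⧸ C) := by
      have := (‹(Cfsg.pCore p (NQ ⧸ C)).Normal›).conj_mem _ hst1 ((⟨n', hn'Q⟩⁻¹ : NQ) : NQ ⧸ C)
      rw [← QuotientGroup.mk_inv, inv_inv, ← QuotientGroup.mk_mul, ← QuotientGroup.mk_mul] at this
      exact this
    obtain ⟨v, hv, hvm⟩ := Grp.pCore_le_sylow
      ((P.subtype hPQ).mapSurjective (QuotientGroup.mk'_surjective C)) hm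
    rw [Sylow.coe_subtype, SetLike.mem_coe, mem_subgroupOf] at hv
    have hc' : (v : G)⁻¹ * (n'⁻¹ * u * n') ∈ centralizer (Q : Set G) :=
      (QuotientGroup.eq (s := C)).mp
        (show ((v : NQ) : NQ ⧸ C) = ((⟨n', hn'Q⟩⁻¹ * ⟨u, hPQ hu⟩ * ⟨n', hn'Q⟩ : NQ) : NQ ⧸ C) from hvm)
    have h1 : (n'⁻¹ * u * n') * e * (n'⁻¹ * u * n')⁻¹ = v * e * (v : G)⁻¹ := by
      have h2 := mem_centralizer_iff.mp hc' e (hAQ heA)
      set w := (v : G)⁻¹ * (n'⁻¹ * u * n') with hw
      rw [show n'⁻¹ * u * n' = v * w by rw [hw]; group,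
        show v * w * e * (v * w)⁻¹ = v * (w * e) * w⁻¹ * (v : G)⁻¹ by group, ← h2]
      group
    have h3 : u * x₀ * u⁻¹ = n' * ⁅(v : G), e⁆ * n'⁻¹ * x₀ := by
      rw [← hn'e, show u * (n' * e * n'⁻¹) * u⁻¹ =
        n' * ((n'⁻¹ * u * n') * e * (n'⁻¹ * u * n')⁻¹) * n'⁻¹ by group, h1, commutatorElement_def]
      group
    rw [commutatorElement_def, h3, mul_inv_cancel_right]
    exact (mem_normalizer_iff.mp (hNQa hn'Q) _).mp (hline v hv)
  have hQZ : ∀ u ∈ (P : Subgroup G), ∀ q ∈ Q, ⁅u, q⁆ ∈ zpowers a := by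
    intro u hu q hq
    obtain ⟨i, hi⟩ := hadj u hu
    have hux : ⁅u, x₀⁆ ∈ zpowers a := by
      have h := hx₀line _ (mul_mem hu (zpow_mem hgP i)) hi
      rwa [show ⁅u * x₀ ^ i, x₀⁆ = ⁅u, x₀⁆ by simp only [commutatorElement_def]; group] at h
    let R : Subgroup G :=
      { carrier := {y | y ∈ (P : Subgroup G) ∧ ⁅u, y⁆ ∈ zpowers a}
        one_mem' := ⟨one_mem _, by simp⟩
        mul_mem' := fun {y z} hy hz => ⟨mul_mem hy.1 hz.1, by
          rw [show ⁅u, y * z⁆ = ⁅u, y⁆ * (y * ⁅u, z⁆ * y⁻¹) by simp only [commutatorElement_def]; group,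
            haPz _ hz.2 y hy.1, mul_inv_cancel_right]
          exact mul_mem hy.2 hz.2⟩
        inv_mem' := fun {y} hy => ⟨inv_mem hy.1, by
          rw [show ⁅u, y⁻¹⁆ = y⁻¹ * ⁅u, y⁆⁻¹ * y by simp only [commutatorElement_def]; group,
            mul_assoc, ← haPz _ (inv_mem hy.2) y hy.1, inv_mul_cancel_left]
          exact inv_mem hy.2⟩ }
    have hAR : A ⊔ zpowers x₀ ≤ R := by
      rw [← hAeq]
      refine sup_le (sup_le (zpowers_le.mpr ⟨haPm, ?_⟩) (zpowers_le.mpr ⟨hAP heA, hline u hu⟩))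
        (zpowers_le.mpr ⟨hgP, hux⟩)
      rw [commutatorElement_eq_one_iff_mul_comm.mpr (haP u hu)]
      exact one_mem _
    exact (hAR (hQle hq)).2
  refine S.false_of_extraspecial h5 P (a := a) (e := e) (n := n') ha1 (hAQ haA) hweak haP hQP
    (fun q hq => hq.2) (fun x hx hxp => ⟨hx, hxp⟩) hQZ hcenQ (hAQ heA) hea (hNQa hn'Q) ?_ ?_
  · rw [hn'e]; exact hx₀Q
  · rw [hn'e, hAeq]; exact hgA

end Cfsg.Agent.Grp.TwoGen
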