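import Cfsg.Agent.Lib.Grp.TwoGen.Upper

/-!
Congruence modulo cores gives every conjugate of an element of a weakly closed abelian group `A` a
well defined value in `A`; the elements keeping all values form a normal subgroup, so `A` has no fusion.
-/

set_option autoImplicit false

namespace Cfsg.Agent.Grp.TwoGen

open Subgroup

variable {G : Type*} [Group G] {p : ℕ} {A : Subgroup G}

/-- The conjugates of the nonidentity elements of `A`. -/
def Cls (A : Subgroup G) : Set G := {x | ∃ a ∈ A, a ≠ 1 ∧ ∃ g : G, g⁻¹ * a * g = x}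

theorem mem_cls {a : G} (ha : a ∈ A) (h1 : a ≠ 1) : a ∈ Cls A := ⟨a, ha, h1, 1, by simp⟩

theorem conj_mem_cls {x : G} (hx : x ∈ Cls A) (g : G) : g⁻¹ * x * g ∈ Cls A := by
  obtain ⟨a, ha, h1, k, rfl⟩ := hx
  exact ⟨a, ha, h1, k * g, by group⟩

theorem conj_mem_cls' {x : G} (hx : x ∈ Cls A) (g : G) : g * x * g⁻¹ ∈ Cls A := by
  simpa using conj_mem_cls hx g⁻¹

/-- The local hypotheses on `A`. -/
structure Closed (p : ℕ) (A : Subgroup G) : Prop where
  elem : Cfsg.IsElementaryAbelian p A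
  rank : p ^ 2 ≤ Nat.card A
  loc : ∀ H : Subgroup G, H ≠ ⊤ → ∀ x ∈ Cls A, x ∈ H → x ∈ upper p H
  base : ∀ e ∈ A, e ≠ 1 → ∀ x ∈ Cls A, IsPGroup p (closure ({e, x} : Set G)) →
    ∃ r ∈ theta p e, r * x * r⁻¹ ∈ A
  fusion : ∀ a ∈ A, a ≠ 1 → ∀ g : G, g⁻¹ * a * g ∈ A →
    g ∈ normalizer (A : Set G) ⊔ theta p (g⁻¹ * a * g)

/-- `z` and `b` are congruent modulo a core, next to `e`. -/
def Congr (p : ℕ) (e b z : G) : Prop :=
  ∃ H : Subgroup G, H ≠ ⊤ ∧ e ∈ H ∧ b ∈ H ∧ z ∈ H ∧ (orderOf (b⁻¹ * z)).Coprime p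

theorem Congr.conj {e b z : G} (h : Congr p e b z) (g : G) :
    Congr p (g⁻¹ * e * g) (g⁻¹ * b * g) (g⁻¹ * z * g) := by
  obtain ⟨H, hH, he, hb, hz, hc⟩ := h
  have hmem : ∀ {x : G}, x ∈ H → g⁻¹ * x * g ∈ H.map (MulAut.conj g⁻¹).toMonoidHom := fun hx =>
    ⟨_, hx, by simp [MulAut.conj_apply]⟩
  refine ⟨H.map (MulAut.conj g⁻¹).toMonoidHom, fun e' => hH ?_, hmem he, hmem hb, hmem hz, ?_⟩
  · exact Subgroup.map_injective (MulAut.conj g⁻¹).injective
      (e'.trans (Subgroup.map_top_of_surjective _ (MulAut.conj g⁻¹).surjective).symm)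
  · have : (g⁻¹ * b * g)⁻¹ * (g⁻¹ * z * g) = MulAut.conj g⁻¹ (b⁻¹ * z) := by
      simp [MulAut.conj_apply]; group
    rw [this, MulEquiv.orderOf_eq]
    exact hc

theorem theta_le_centralizer (e : G) : theta p e ≤ centralizer ({e} : Set G) := core_le _

theorem closure_pair_le_upper (C : Closed p A) {H : Subgroup G} (hH : H ≠ ⊤) {x y : G}
    (hx : x ∈ Cls A) (hy : y ∈ Cls A) (hxH : x ∈ H) (hyH : y ∈ H) :
    closure ({x, y} : Set G) ≤ upper p H :=
  mem_of_mem_closure_pair (C.loc H hH x hx hxH) (C.loc H hH y hy hyH)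

theorem Setting.centralizer_singleton_ne_top (S : Setting G) {e : G} (he : e ≠ 1) :
    centralizer ({e} : Set G) ≠ ⊤ := by
  intro h
  have hc : e ∈ center G := mem_center_iff.mpr fun g =>
    (mem_centralizer_singleton_iff.mp (h ▸ mem_top g : g ∈ centralizer ({e} : Set G)))
  haveI := S.simple
  rcases (inferInstance : (center G).Normal).eq_bot_or_eq_top with hb | ht
  · exact he (by simpa [hb] using hc)
  · exact S.notSolvable
      (Group.isSolvable_of_comm fun a b => (mem_center_iff.mp (ht ▸ mem_top b) a))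

theorem orderOf_eq_of_mem [hp : Fact p.Prime] (C : Closed p A) {e : G} (he : e ∈ A) (h1 : e ≠ 1) :
    orderOf e = p :=
  orderOf_eq_prime (C.elem.2 e he) h1

theorem cls_isPGroup [hp : Fact p.Prime] (C : Closed p A) {x : G} (hx : x ∈ Cls A) :
    IsPGroup p (zpowers x) := by
  obtain ⟨a, ha, h1, g, rfl⟩ := hx
  refine IsPGroup.of_card (n := 1) ?_
  rw [Nat.card_zpowers, pow_one, ← orderOf_eq_of_mem C ha h1,
    show g⁻¹ * a * g = MulAut.conj g⁻¹ a by simp [MulAut.conj_apply], MulEquiv.orderOf_eq]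

theorem eq_one_of_coprime_of_isPGroup [hp : Fact p.Prime] {K : Subgroup G} (hK : IsPGroup p K)
    {u : G} (hu : u ∈ K) (hc : (orderOf u).Coprime p) : u = 1 := by
  obtain ⟨k, hk⟩ := hK ⟨u, hu⟩
  exact orderOf_eq_one_iff.mp (Nat.eq_one_of_dvd_coprimes (Nat.Coprime.pow_right k hc) dvd_rfl
    (orderOf_dvd_of_pow_eq_one (congrArg Subtype.val hk)))

theorem conj_ne_one {x : G} (hx : x ≠ 1) (g : G) : g⁻¹ * x * g ≠ 1 := fun h => hx <| by
  calc x = g * (g⁻¹ * x * g) * g⁻¹ := by group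
    _ = 1 := by rw [h]; group

variable [Finite G] [hp : Fact p.Prime]

/-- A conjugate next to `e` is congruent to a member commuting with `e`. -/
theorem exists_near (S : Setting G) (C : Closed p A) {H : Subgroup G} (hH : H ≠ ⊤) {e z : G}
    (he : e ∈ A) (he1 : e ≠ 1) (hz : z ∈ Cls A) (heH : e ∈ H) (hzH : z ∈ H) :
    ∃ b₁ : G, b₁ ∈ closure ({e, z} : Set G) ∧ b₁ ∈ Cls A ∧
      b₁⁻¹ * z ∈ core p (closure ({e, z} : Set G)) ∧
      ∃ r ∈ theta p e, r * b₁ * r⁻¹ ∈ A ∧ b₁ ∈ centralizer ({e} : Set G) := by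
  set J := closure ({e, z} : Set G) with hJ
  have hJne : J ≠ ⊤ := fun h => hH (top_le_iff.mp (h ▸ mem_of_mem_closure_pair heH hzH))
  have heJ : e ∈ J := Subgroup.subset_closure (by simp)
  have hzJ : z ∈ J := Subgroup.subset_closure (by simp)
  obtain ⟨r, hr, hP⟩ := exists_core_conj (C.loc J hJne e (mem_cls he he1) heJ) (C.loc J hJne z hz hzJ)
    (cls_isPGroup C (mem_cls he he1)) (cls_isPGroup C hz)
  have hrJ : r ∈ J := core_le _ hr
  obtain ⟨r', hr', hA⟩ := C.base e he he1 _ (conj_mem_cls' hz r) hP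
  refine ⟨r * z * r⁻¹, mul_mem (mul_mem hrJ hzJ) (inv_mem hrJ), conj_mem_cls' hz r, ?_, r', hr', hA, ?_⟩
  · rw [show (r * z * r⁻¹)⁻¹ * z = r * (z⁻¹ * r⁻¹ * z) by group]
    exact mul_mem hr (by simpa using conj_mem_core (inv_mem hzJ) (inv_mem hr))
  · have hc := mem_centralizer_singleton_iff.mp (theta_le_centralizer e hr')
    have hca := elemAb_comm C.elem _ hA e he
    rw [mem_centralizer_singleton_iff]
    calc r * z * r⁻¹ * e = r'⁻¹ * ((r' * (r * z * r⁻¹) * r'⁻¹) * e) * r' := by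
          rw [mul_assoc _ r'⁻¹ e]
          rw [show r'⁻¹ * e = e * r'⁻¹ from (Commute.inv_left (show Commute r' e from hc)).eq]
          group
      _ = r'⁻¹ * (e * (r' * (r * z * r⁻¹) * r'⁻¹)) * r' := by rw [hca]
      _ = e * (r * z * r⁻¹) := by
          rw [← mul_assoc r'⁻¹ e,
            show r'⁻¹ * e = e * r'⁻¹ from (Commute.inv_left (show Commute r' e from hc)).eq]
          group

/-- Congruent members commuting with `e` differ by an element of `θ(e)`. -/
theorem congr_unique (S : Setting G) (C : Closed p A) {e b b' z : G} (he : e ∈ A) (he1 : e ≠ 1)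
    (hz : z ∈ Cls A) (hb : b ∈ Cls A) (hb' : b' ∈ Cls A) (hbe : b ∈ centralizer ({e} : Set G))
    (hbe' : b' ∈ centralizer ({e} : Set G)) (h : Congr p e b z) (h' : Congr p e b' z) :
    b⁻¹ * b' ∈ theta p e := by
  obtain ⟨H, hH, heH, hbH, hzH, hc⟩ := h
  obtain ⟨H', hH', heH', hbH', hzH', hc'⟩ := h'
  obtain ⟨b₁, hb₁J, hb₁, hb₁z, -, -, -, hb₁e⟩ := exists_near S C hH he he1 hz heH hzH
  have key : ∀ {K : Subgroup G} {c : G}, K ≠ ⊤ → e ∈ K → z ∈ K → c ∈ K → c ∈ Cls A →
      c ∈ centralizer ({e} : Set G) → (orderOf (c⁻¹ * z)).Coprime p → c⁻¹ * b₁ ∈ theta p e := by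
    intro K c hK heK hzK hcK hcC hce hcz
    have hJK := mem_of_mem_closure_pair heK hzK
    have hup : ∀ {x}, x ∈ Cls A → x ∈ K → x ∈ upper p K := fun hx hxK => C.loc K hK _ hx hxK
    have hm : c⁻¹ * b₁ ∈ core p K := by
      rw [show c⁻¹ * b₁ = (c⁻¹ * z) * (b₁⁻¹ * z)⁻¹ by group]
      exact mul_mem (mem_core_of_mem_upper (mul_mem (inv_mem (hup hcC hcK)) (hup hz hzK)) hcz)
        (inv_mem (mem_core_of_le (mul_mem (inv_mem (hup hb₁ (hJK hb₁J))) (hup hz hzK)) hb₁z))
    exact mem_core_of_le (mul_mem (inv_mem (C.loc _ (S.centralizer_singleton_ne_top he1) c hcC hce))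
      (C.loc _ (S.centralizer_singleton_ne_top he1) b₁ hb₁ hb₁e)) hm
  have h1 := key hH heH hzH hbH hb hbe hc
  have h2 := key hH' heH' hzH' hbH' hb' hbe' hc'
  simpa [mul_assoc] using mul_mem h1 (inv_mem h2)

theorem eq_of_mem_theta (C : Closed p A) {e b b' : G} (hb : b ∈ A) (hb' : b' ∈ A)
    (h : b⁻¹ * b' ∈ theta p e) : b = b' :=
  inv_mul_eq_one.mp (eq_one_of_coprime_of_isPGroup (elemAb_isPGroup C.elem)
    (mul_mem (inv_mem hb) hb') (orderOf_coprime_of_mem_core h))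

/-- Every member has a value in `A`, next to every element of `A`. -/
theorem exists_value (S : Setting G) (C : Closed p A) {z : G} (hz : z ∈ Cls A) :
    ∃ b ∈ A, b ≠ 1 ∧ ∃ j : G, z = j⁻¹ * b * j ∧ j ∈ core p (closure ({b, z} : Set G)) ∧
      ∀ e ∈ A, e ≠ 1 → Congr p e b z := by
  obtain ⟨e₀, he₀, he₀1⟩ : ∃ e ∈ A, e ≠ 1 := by
    obtain ⟨a, ha, h1, -⟩ := hz
    exact ⟨a, ha, h1⟩
  obtain ⟨b₁, hb₁J, hb₁, hb₁z, r', hr', hbA, hb₁e⟩ :=
    exists_near S C (S.pair e₀ z) he₀ he₀1 hz (Subgroup.subset_closure (by simp))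
      (Subgroup.subset_closure (by simp))
  set b := r' * b₁ * r'⁻¹ with hbdef
  have hbC : b ∈ Cls A := conj_mem_cls' hb₁ r'
  have hb1 : b ≠ 1 := by
    intro h
    obtain ⟨a, ha, h1, g, hg⟩ := hbC
    rw [h] at hg
    refine h1 ?_
    calc a = g * (g⁻¹ * a * g) * g⁻¹ := by group
      _ = 1 := by rw [hg]; group
  obtain ⟨H, hH, heH, hrH, hzH⟩ := S.root
    (show Commute e₀ r' from (mem_centralizer_singleton_iff.mp (theta_le_centralizer e₀ hr')).symm)
    (orderOf_eq_of_mem C he₀ he₀1 ▸ (orderOf_coprime_of_mem_core hr').symm) z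
  have hb₁H : b₁ ∈ H := mem_of_mem_closure_pair heH hzH hb₁J
  have hbH : b ∈ H := mul_mem (mul_mem hrH hb₁H) (inv_mem hrH)
  have hbb₁ : b⁻¹ * b₁ ∈ theta p e₀ := by
    rw [show b⁻¹ * b₁ = r' * (b₁⁻¹ * r'⁻¹ * b₁) by rw [hbdef]; group]
    exact mul_mem hr' (by simpa using conj_mem_core (inv_mem hb₁e) (inv_mem hr'))
  have hup : ∀ {x}, x ∈ Cls A → x ∈ H → x ∈ upper p H := fun hx hxH => C.loc H hH _ hx hxH
  have hbz : (orderOf (b⁻¹ * z)).Coprime p := by
    refine orderOf_coprime_of_mem_core (H := H) ?_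
    rw [show b⁻¹ * z = (b⁻¹ * b₁) * (b₁⁻¹ * z) by group]
    exact mul_mem (mem_core_of_le (mul_mem (inv_mem (hup hbC hbH)) (hup hb₁ hb₁H)) hbb₁)
      (mem_core_of_le (mul_mem (inv_mem (hup hb₁ hb₁H)) (hup hz hzH)) hb₁z)
  set J := closure ({b, z} : Set G) with hJ
  have hbJ : b ∈ J := Subgroup.subset_closure (by simp)
  have hzJ : z ∈ J := Subgroup.subset_closure (by simp)
  have hbup := C.loc J (S.pair b z) b hbC hbJ
  obtain ⟨j, hj, hP⟩ := exists_core_conj hbup (C.loc J (S.pair b z) z hz hzJ) (cls_isPGroup C hbC)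
    (cls_isPGroup C hz)
  have hjz : j * z * j⁻¹ = b := by
    refine (inv_mul_eq_one.mp (eq_one_of_coprime_of_isPGroup hP
      (mul_mem (inv_mem (Subgroup.subset_closure (by simp))) (Subgroup.subset_closure (by simp)))
      (orderOf_coprime_of_mem_core (H := J) ?_))).symm
    rw [show b⁻¹ * (j * z * j⁻¹) = (b⁻¹ * z) * ((z⁻¹ * j * z) * j⁻¹) by group]
    exact mul_mem (mem_core_of_mem_upper (mul_mem (inv_mem hbup) (C.loc J (S.pair b z) z hz hzJ)) hbz)
      (mul_mem (by simpa using conj_mem_core (inv_mem hzJ) hj) (inv_mem hj))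
  refine ⟨b, hbA, hb1, j, by rw [← hjz]; group, hj, fun e he he1 => ?_⟩
  by_cases heb : e ∈ zpowers b
  · exact ⟨J, S.pair b z, zpowers_le.mpr hbJ heb, hbJ, hzJ, hbz⟩
  have hej : (e * j)⁻¹ * b * (e * j) = z := by
    rw [show (e * j)⁻¹ * b * (e * j) = j⁻¹ * (e⁻¹ * (b * e)) * j by group,
      elemAb_comm C.elem b hbA e he, ← hjz]
    group
  obtain ⟨K, hK, hbK, heK, hjK⟩ := S.slot b (m := e) (j := j) (by rw [hej]; exact core_le _ hj)
  refine ⟨K, hK, heK, hbK, ?_, hbz⟩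
  rw [← hej]
  exact mul_mem (mul_mem (inv_mem (mul_mem heK hjK)) hbK) (mul_mem heK hjK)

/-- An elementary abelian noncyclic weakly closed subgroup has no fusion at all. -/
theorem Setting.conj_eq_self (S : Setting G) (C : Closed p A) {a g : G} (ha : a ∈ A) (ha1 : a ≠ 1)
    (hg : g⁻¹ * a * g ∈ A) : g⁻¹ * a * g = a := by
  classical
  choose β hβA hβ1 j hjz hj hcong using fun (z : G) (hz : z ∈ Cls A) => exists_value S C hz
  have hA' : ∀ {x}, x ∈ A → ∀ {e}, e ∈ A → x ∈ centralizer ({e} : Set G) := fun {x} hx {e} he =>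
    mem_centralizer_singleton_iff.mpr (elemAb_comm C.elem x hx e he)
  have huniq : ∀ (z : G) (hz : z ∈ Cls A) (e : G), e ∈ A → e ≠ 1 → ∀ b ∈ A, b ≠ 1 →
      Congr p e b z → β z hz = b := fun z hz e he he1 b hb hb1 h =>
    eq_of_mem_theta C (hβA z hz) hb (congr_unique S C he he1 hz (mem_cls (hβA z hz) (hβ1 z hz))
      (mem_cls hb hb1) (hA' (hβA z hz) he) (hA' hb he) (hcong z hz e he he1) h)
  let K : Subgroup G :=
    { carrier := {k | ∀ (z : G) (hz : z ∈ Cls A), β (k⁻¹ * z * k) (conj_mem_cls hz k) = β z hz}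
      one_mem' := fun z hz => by congr 1; group
      mul_mem' := fun {k l} hk hl z hz => by
        refine Eq.trans ?_ ((hl (k⁻¹ * z * k) (conj_mem_cls hz k)).trans (hk z hz))
        congr 1; group
      inv_mem' := fun {k} hk z hz => by
        refine (hk _ (conj_mem_cls hz k⁻¹)).symm.trans ?_
        congr 1; group }
  have hequiv : ∀ n ∈ normalizer (A : Set G), ∀ (z : G) (hz : z ∈ Cls A),
      β (n⁻¹ * z * n) (conj_mem_cls hz n) = n⁻¹ * β z hz * n := by
    intro n hn z hz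
    have hnA : n⁻¹ * β z hz * n ∈ A := mem_conj_normalizer' hn (hβA z hz)
    refine huniq _ _ (n⁻¹ * a * n) (mem_conj_normalizer' hn ha) ?_ _ hnA ?_
      ((hcong z hz a ha ha1).conj n)
    · exact conj_ne_one ha1 n
    · exact conj_ne_one (hβ1 z hz) n
  have hθK : ∀ e ∈ A, e ≠ 1 → theta p e ≤ K := by
    intro e he he1 t ht z hz
    have htC := theta_le_centralizer e ht
    have hte : t⁻¹ * e * t = e := by
      rw [mul_assoc, ← mem_centralizer_singleton_iff.mp htC]; group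
    set b := β z hz
    have hbe : b ∈ centralizer ({e} : Set G) := hA' (hβA z hz) he
    have hbt : t⁻¹ * b * t ∈ centralizer ({e} : Set G) := mul_mem (mul_mem (inv_mem htC) hbe) htC
    have h2 := congr_unique S C he he1 (conj_mem_cls hz t)
      (conj_mem_cls (mem_cls (hβA z hz) (hβ1 z hz)) t)
      (mem_cls (hβA _ (conj_mem_cls hz t)) (hβ1 _ _)) hbt (hA' (hβA _ _) he)
      (by simpa only [hte] using (hcong z hz e he he1).conj t) (hcong _ (conj_mem_cls hz t) e he he1)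
    refine (eq_of_mem_theta (e := e) C (hβA z hz) (hβA _ _) ?_).symm
    have h1 : b⁻¹ * (t⁻¹ * b * t) ∈ theta p e := by
      rw [show b⁻¹ * (t⁻¹ * b * t) = (b⁻¹ * t⁻¹ * b) * t by group]
      exact mul_mem (by simpa using conj_mem_core (inv_mem hbe) (inv_mem ht)) ht
    have h12 := mul_mem h1 h2
    rwa [show b⁻¹ * (t⁻¹ * b * t) * ((t⁻¹ * b * t)⁻¹ * β (t⁻¹ * z * t) (conj_mem_cls hz t)) =
      b⁻¹ * β (t⁻¹ * z * t) (conj_mem_cls hz t) by group] at h12
  have hAK : A ≤ K := fun x hx z hz => by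
    rw [hequiv x (le_normalizer hx) z hz, mul_assoc, elemAb_comm C.elem _ (hβA z hz) x hx]
    group
  have hNK : normalizer (A : Set G) ≤ normalizer (K : Set G) := by
    refine invariant_iff.mp fun n hn k hk z hz => ?_
    have h1 := hequiv n⁻¹ (inv_mem hn)
    have h2 := hk (n⁻¹ * z * n) (conj_mem_cls hz n)
    rw [hequiv n hn z hz] at h2
    have h3 := h1 _ (conj_mem_cls (conj_mem_cls hz n) k)
    rw [h2] at h3
    refine Eq.trans ?_ (h3.trans (by group))
    congr 1; group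
  set U := normalizer (A : Set G) ⊔ K with hU
  have hθU : ∀ e ∈ A, e ≠ 1 → theta p e ≤ U := fun e he he1 => (hθK e he he1).trans le_sup_right
  have hfus : ∀ x ∈ A, x ≠ 1 → ∀ k : G, k⁻¹ * x * k ∈ A → k ∈ U := fun x hx hx1 k hk =>
    sup_le le_sup_left (hθU _ hk (conj_ne_one hx1 k))
      (C.fusion x hx hx1 k hk)
  have htop : U = ⊤ := by
    refine (eq_top_iff' U).mpr fun k => ?_
    have hz : k⁻¹ * a * k ∈ Cls A := conj_mem_cls (mem_cls ha ha1) k
    set z := k⁻¹ * a * k with hzdef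
    set b := β z hz
    have hb : b ∈ A := hβA z hz
    have hb1 : b ≠ 1 := hβ1 z hz
    obtain ⟨f, hf, hfb⟩ : ∃ f ∈ A, f ∉ zpowers b := by
      by_contra h
      push Not at h
      have := (Subgroup.card_le_of_le (fun x hx => h x hx : A ≤ zpowers b))
      rw [Nat.card_zpowers, orderOf_eq_of_mem C hb hb1] at this
      exact absurd (C.rank.trans this) (not_le.mpr (lt_self_pow₀ hp.out.one_lt (by norm_num)))
    have hf1 : f ≠ 1 := fun h => hfb (h ▸ one_mem _)
    obtain ⟨H, hH, hfH, hbH, hzH, -⟩ := hcong z hz f hf hf1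
    have hJH : closure ({b, z} : Set G) ≤ upper p H :=
      closure_pair_le_upper C hH (mem_cls hb hb1) hz hbH hzH
    have hjH : j z hz ∈ core p H := mem_core_of_le (hJH (core_le _ (hj z hz))) (hj z hz)
    set E := closure ({b, f} : Set G) with hE
    have hEA : E ≤ A := mem_of_mem_closure_pair hb hf
    have hEH : E ≤ normalizer (core p H : Set G) :=
      (mem_of_mem_closure_pair hbH hfH).trans (le_normalizer_core H)
    have hEne : E ≠ ⊥ := fun h => hb1 ((Subgroup.eq_bot_iff_forall E).mp h b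
      (Subgroup.subset_closure (by simp)))
    have hEcard : p ^ 2 ≤ Nat.card E := by
      obtain ⟨n, hn⟩ := IsPGroup.iff_card.mp ((elemAb_isPGroup C.elem).to_le hEA)
      rw [hn]
      refine Nat.pow_le_pow_right hp.out.pos ?_
      by_contra hlt
      have hle : Nat.card E ≤ Nat.card (zpowers b) := by
        rw [Nat.card_zpowers, orderOf_eq_of_mem C hb hb1, hn]
        exact (Nat.pow_le_pow_right hp.out.pos (Nat.le_of_lt_succ (not_le.mp hlt))).trans (pow_one p).le
      exact hfb (Subgroup.eq_of_le_of_card_ge (zpowers_le.mpr (Subgroup.subset_closure (by simp))) hle ▸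
        Subgroup.subset_closure (by simp))
    have hcore : core p H ≤ U := le_of_hyperplanes (elemAb_mono C.elem hEA) hEne _ (core_not_dvd H) hEH
      fun D hD hi => by
        obtain ⟨d, hd, hd1⟩ := (D.ne_bot_iff_exists_ne_one).mp (ne_bot_of_relIndex hEcard hi) |>
          fun ⟨d, hd⟩ => (⟨d.1, d.2, fun h => hd (Subtype.ext h)⟩ : ∃ d ∈ D, d ≠ 1)
        intro c hc
        refine hfus d (hEA (hD hd)) hd1 c ?_
        rw [mul_assoc, mem_centralizer_iff.mp hc.2 d hd, inv_mul_cancel_left]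
        exact hEA (hD hd)
    have h1 : k * (j z hz)⁻¹ ∈ U := by
      refine hfus a ha ha1 _ ?_
      have e2 : j z hz * z * (j z hz)⁻¹ = b := by
        have h0 := hjz z hz
        generalize hv : j z hz = w at h0
        rw [h0]
        group
        rfl
      have : (k * (j z hz)⁻¹)⁻¹ * a * (k * (j z hz)⁻¹) = b := by
        rw [← e2]
        generalize j z hz = w
        simp only [hzdef]
        group
      rw [this]
      exact hb
    simpa using mul_mem h1 (hcore hjH)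
  haveI : K.Normal := Subgroup.normalizer_eq_top_iff.mp
    (eq_top_iff.mpr (htop ▸ sup_le hNK le_normalizer))
  haveI := S.simple
  rcases (inferInstance : K.Normal).eq_bot_or_eq_top with hb | ht
  · exact absurd ((Subgroup.eq_bot_iff_forall K).mp hb a (hAK ha)) ha1
  have hself : ∀ x (hx : x ∈ A) (hx1 : x ≠ 1), β x (mem_cls hx hx1) = x := fun x hx hx1 =>
    huniq x _ a ha ha1 x hx hx1 ⟨A, fun h => S.notSolvable ?_, ha, hx, hx, by simp⟩
  · have hg1 : g⁻¹ * a * g ≠ 1 := conj_ne_one ha1 g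
    have := (ht ▸ mem_top g : g ∈ K) a (mem_cls ha ha1)
    rw [hself _ hg hg1, hself a ha ha1] at this
    exact this
  · exact Group.isSolvable_of_comm fun x y =>
      elemAb_comm C.elem x (h ▸ mem_top x) y (h ▸ mem_top y)

end Cfsg.Agent.Grp.TwoGen
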