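import Mathlib
import Cfsg.Agent.Lib.Grp.Cores

/-!
An element of prime order acting faithfully on a line `⟨a⟩` modulo a solvable `p'`-group `R`
normalises a line conjugate to `⟨a⟩` under `R`.
-/

set_option autoImplicit false

namespace Cfsg.Agent.Grp.TwoGen

open Subgroup

universe u

variable {p : ℕ} [hp : Fact p.Prime]

/-- Powers with exponents in `ZMod p`. -/
def pw {G : Type*} [Monoid G] (x : G) (i : ZMod p) : G := x ^ i.val

theorem pw_natCast {G : Type*} [Monoid G] {x : G} (hx : x ^ p = 1) (n : ℕ) :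
    pw x (n : ZMod p) = x ^ n := by
  haveI : NeZero p := ⟨hp.out.ne_zero⟩
  rw [pw, ZMod.val_natCast, ← pow_eq_pow_mod n hx]

theorem pw_zero {G : Type*} [Monoid G] (x : G) : pw x (0 : ZMod p) = 1 := by
  rw [pw, ZMod.val_zero, pow_zero]

theorem pw_one {G : Type*} [Monoid G] (x : G) : pw x (1 : ZMod p) = x := by
  rw [pw, ZMod.val_one, pow_one]

theorem pw_pw {G : Type*} [Monoid G] {x : G} (hx : x ^ p = 1) (i j : ZMod p) :
    pw (pw x i) j = pw x (i * j) := by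
  haveI : NeZero p := ⟨hp.out.ne_zero⟩
  rw [pw, pw, pw, ← pow_mul, ZMod.val_mul, ← pow_eq_pow_mod _ hx]

theorem pw_add {G : Type*} [Monoid G] {x : G} (hx : x ^ p = 1) (i j : ZMod p) :
    pw x (i + j) = pw x i * pw x j := by
  haveI : NeZero p := ⟨hp.out.ne_zero⟩
  rw [pw, pw, pw, ← pow_add, ZMod.val_add, ← pow_eq_pow_mod _ hx]

theorem pw_pow_prime {G : Type*} [Monoid G] {x : G} (hx : x ^ p = 1) (i : ZMod p) :
    (pw x i) ^ p = 1 := by
  rw [pw, ← pow_mul, mul_comm, pow_mul, hx, one_pow]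

theorem map_pw {G H : Type*} [Monoid G] [Monoid H] (f : G →* H) (x : G) (i : ZMod p) :
    f (pw x i) = pw (f x) i := map_pow f x _

theorem conj_pw {G : Type*} [Group G] (x y : G) (i : ZMod p) :
    y⁻¹ * pw x i * y = pw (y⁻¹ * x * y) i := by
  have h := conj_pow (a := y⁻¹) (b := x) (i := i.val)
  simp only [inv_inv] at h
  exact h.symm

section Abelian

variable {G : Type u} [Group G] [Finite G]

/-- Two elements of order dividing `p` in one coset of a normal abelian `p'`-group are conjugate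
by it; the root argument also computes the conjugating element. -/
theorem exists_conj_of_coset {Z : Subgroup G} [hZn : Z.Normal]
    (hZc : ∀ u ∈ Z, ∀ v ∈ Z, u * v = v * u) (hZp : ¬ p ∣ Nat.card Z) {a x : G} (ha : a ^ p = 1)
    (hx : x ^ p = 1) (hxa : x * a⁻¹ ∈ Z) : ∃ v ∈ Z, x = v * a * v⁻¹ := by
  letI : CommGroup ↥Z := { Z.toGroup with mul_comm := fun u v => Subtype.ext (hZc _ u.2 _ v.2) }
  have hcoe : ∀ u v : ↥Z, ((u * v : ↥Z) : G) = (u : G) * v := fun _ _ => rfl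
  have hmem : ∀ k : ℕ, x ^ k * (a ^ k)⁻¹ ∈ Z := by
    intro k
    induction k with
    | zero => simp
    | succ k ih =>
      have := Z.mul_mem ih (hZn.conj_mem _ hxa (a ^ k))
      rwa [show x ^ k * (a ^ k)⁻¹ * (a ^ k * (x * a⁻¹) * (a ^ k)⁻¹) =
        x ^ (k + 1) * (a ^ (k + 1))⁻¹ by rw [pow_succ, pow_succ]; group] at this
  let F : ℕ → ↥Z := fun k => ⟨x ^ k * (a ^ k)⁻¹, hmem k⟩
  set P := ∏ k ∈ Finset.range p, F k
  have hco : (Nat.card ↥Z).Coprime p := (hp.out.coprime_iff_not_dvd.2 hZp).symm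
  obtain ⟨v, hv⟩ := (Nat.Coprime.pow_left_bijective hco).2 P
  simp only at hv
  let ca : ↥Z →* ↥Z :=
    { toFun := fun u => ⟨a * u * a⁻¹, hZn.conj_mem _ u.2 a⟩
      map_one' := Subtype.ext (by show a * (1 : G) * a⁻¹ = 1; group)
      map_mul' := fun u w => Subtype.ext (by
        show a * ((u * w : ↥Z) : G) * a⁻¹ = _
        rw [hcoe, hcoe]; group) }
  have hstep : ∀ k, ca (F k) = ⟨a * x⁻¹, by simpa using Z.inv_mem hxa⟩ * F (k + 1) := fun k =>
    Subtype.ext (by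
      rw [hcoe]
      show a * (x ^ k * (a ^ k)⁻¹) * a⁻¹ = a * x⁻¹ * (x ^ (k + 1) * (a ^ (k + 1))⁻¹)
      rw [pow_succ' x, pow_succ' a]; group)
  have hshift : ∏ k ∈ Finset.range p, F (k + 1) = P := by
    have h0 : F 0 = F p := Subtype.ext (by
      show x ^ 0 * (a ^ 0)⁻¹ = x ^ p * (a ^ p)⁻¹
      rw [hx, ha, pow_zero, pow_zero])
    have h1 := Finset.prod_range_succ' F p
    rw [Finset.prod_range_succ, h0] at h1
    exact (mul_right_cancel h1).symm
  have hca : ca P = ⟨a * x⁻¹, by simpa using Z.inv_mem hxa⟩ ^ p * P := by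
    rw [map_prod, Finset.prod_congr rfl (fun k _ => hstep k), Finset.prod_mul_distrib, hshift,
      Finset.prod_const, Finset.card_range]
  have hcv : ca v = ⟨a * x⁻¹, by simpa using Z.inv_mem hxa⟩ * v :=
    (Nat.Coprime.pow_left_bijective hco).1 (by
      show (ca v) ^ p = (_ * v) ^ p
      rw [← map_pow, mul_pow, hv, hca])
  have hcv' : a * (v : G) * a⁻¹ = a * x⁻¹ * v := by
    have := congrArg Subtype.val hcv
    rwa [hcoe] at this
  refine ⟨v, v.2, ?_⟩
  have h2 : a * x⁻¹ = a * (v : G) * a⁻¹ * (v : G)⁻¹ := eq_mul_inv_of_mul_eq hcv'.symm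
  have h3 : x⁻¹ = (v : G) * a⁻¹ * (v : G)⁻¹ := by
    have := congrArg (a⁻¹ * ·) h2
    simpa [mul_assoc] using this
  rw [← inv_inv x, h3]; group

/-- The abelian case. -/
theorem exists_line_abelian {Z : Subgroup G} [hZn : Z.Normal] (hZc : ∀ u ∈ Z, ∀ v ∈ Z, u * v = v * u)
    (hZp : ¬ p ∣ Nat.card Z) {s : ℕ} (hs : s.Prime) {a y : G} (ha : a ^ p = 1) (hy : y ^ s = 1)
    {l : (ZMod p)ˣ} (hl : l ≠ 1) (hls : l ^ s = 1)
    (hay : y⁻¹ * a * y * (pw a (l : ZMod p))⁻¹ ∈ Z) :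
    ∃ r ∈ Z, y⁻¹ * (r * a * r⁻¹) * y = pw (r * a * r⁻¹) (l : ZMod p) := by
  classical
  haveI : NeZero p := ⟨hp.out.ne_zero⟩
  letI : CommGroup ↥Z := { Z.toGroup with mul_comm := fun u v => Subtype.ext (hZc _ u.2 _ v.2) }
  set π := QuotientGroup.mk' Z with hπ
  have hπ1 : ∀ {g : G}, π g = 1 ↔ g ∈ Z := fun {g} => QuotientGroup.eq_one_iff g
  have hπc : ∀ {g h : G}, π g = π h ↔ g * h⁻¹ ∈ Z := fun {g h} => by
    rw [← hπ1, map_mul, map_inv, mul_inv_eq_one]
  have hπy : (π y)⁻¹ * π a * π y = pw (π a) (l : ZMod p) := by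
    rw [← map_inv, ← map_mul, ← map_mul, ← map_pw, hπc]; exact hay
  have hπa : (π a) ^ p = 1 := by rw [← map_pow, ha, map_one]
  -- an equivariant section
  have hπyn : ∀ (n : ℕ) (i : ZMod p),
      ((π y) ^ n)⁻¹ * pw (π a) i * (π y) ^ n = pw (π a) (i * (l : ZMod p) ^ n) := by
    intro n i
    induction n with
    | zero => simp
    | succ n ih =>
      rw [pow_succ (π y), pow_succ (l : ZMod p),
        show ((π y) ^ n * π y)⁻¹ * pw (π a) i * ((π y) ^ n * π y) =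
          (π y)⁻¹ * (((π y) ^ n)⁻¹ * pw (π a) i * (π y) ^ n) * π y by group,
        ih, conj_pw, hπy, pw_pw hπa]
      congr 1; ring
  have hord : orderOf l = s := by
    rcases (Nat.dvd_prime hs).1 (orderOf_dvd_of_pow_eq_one hls) with h | h
    · exact absurd (orderOf_eq_one_iff.1 h) hl
    · exact h
  let rep : (ZMod p)ˣ → (ZMod p)ˣ := fun i => Quotient.out (i : (ZMod p)ˣ ⧸ zpowers l)
  have hrep : ∀ i, ∃ j : ℕ, rep i * l ^ j = i := fun i => by
    have h : ((rep i : (ZMod p)ˣ) : (ZMod p)ˣ ⧸ zpowers l) = i := Quotient.out_eq _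
    rw [QuotientGroup.eq, ← mem_powers_iff_mem_zpowers, Submonoid.mem_powers_iff] at h
    obtain ⟨j, hj⟩ := h
    exact ⟨j, by rw [hj, mul_inv_cancel_left]⟩
  choose dlog hdlog using hrep
  let g : (ZMod p)ˣ → G := fun i => (y ^ dlog i)⁻¹ * pw a (rep i : ZMod p) * y ^ dlog i
  have hgmem : ∀ i, g i * (pw a (i : ZMod p))⁻¹ ∈ Z := fun i => by
    rw [← hπc, map_mul, map_mul, map_inv, map_pow, map_pw, map_pw, hπyn]
    congr 1
    rw [← Units.val_pow_eq_pow_val, ← Units.val_mul, hdlog]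
  have hgeq : ∀ i, y⁻¹ * g i * y = g (l * i) := by
    intro i
    have hr : rep (l * i) = rep i := by
      refine congrArg Quotient.out (?_ : ((l * i : (ZMod p)ˣ) : (ZMod p)ˣ ⧸ zpowers l) = i)
      rw [QuotientGroup.eq, show (l * i)⁻¹ * i = l⁻¹ by rw [mul_inv]; exact inv_mul_cancel_right _ _]
      exact inv_mem (mem_zpowers l)
    have hj : l ^ (dlog i + 1) = l ^ dlog (l * i) := by
      have h1 := hdlog (l * i)
      rw [hr] at h1
      refine mul_left_cancel (a := rep i) ?_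
      rw [pow_succ, ← mul_assoc, hdlog i, h1, mul_comm]
    have hy' : y ^ (dlog i + 1) = y ^ dlog (l * i) := by
      rw [pow_inj_mod, hord] at hj
      rw [pow_eq_pow_mod _ hy, hj, ← pow_eq_pow_mod _ hy]
    show y⁻¹ * ((y ^ dlog i)⁻¹ * pw a (rep i : ZMod p) * y ^ dlog i) * y = _
    rw [show g (l * i) = (y ^ dlog (l * i))⁻¹ * pw a (rep (l * i) : ZMod p) * y ^ dlog (l * i) from rfl,
      hr, ← hy', pow_succ]
    group
  -- the average of a base point `x`
  have hpwmem : ∀ {x : G}, x * a⁻¹ ∈ Z → ∀ i : ZMod p, pw x i * (pw a i)⁻¹ ∈ Z := fun {x} hx i => by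
    rw [← hπc, map_pw, map_pw, hπc.2 hx]
  let term : ∀ (x : G), x * a⁻¹ ∈ Z → (ZMod p)ˣ → ↥Z := fun x hx i =>
    ⟨g i * (pw x (i : ZMod p))⁻¹, by
      have := Z.mul_mem (hgmem i) (Z.inv_mem (hpwmem hx (i : ZMod p)))
      rwa [show g i * (pw a (i : ZMod p))⁻¹ * (pw x (i : ZMod p) * (pw a (i : ZMod p))⁻¹)⁻¹ =
        g i * (pw x (i : ZMod p))⁻¹ by group] at this⟩
  let P : ∀ (x : G), x * a⁻¹ ∈ Z → ↥Z := fun x hx => ∏ i, term x hx i
  -- conjugation of `Z`
  let cj : G → ↥Z →* ↥Z := fun c =>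
    { toFun := fun u => ⟨c * u * c⁻¹, hZn.conj_mem _ u.2 c⟩
      map_one' := Subtype.ext (by show c * ((1 : G)) * c⁻¹ = 1; group)
      map_mul' := fun u w => Subtype.ext (by
        show c * ((u : G) * w) * c⁻¹ = (c * u * c⁻¹) * (c * w * c⁻¹); group) }
  have hcj : ∀ {x : G}, x * a⁻¹ ∈ Z → ∀ (i : ZMod p) (u : ↥Z), cj (pw x i) u = cj (pw a i) u := by
    intro x hx i u
    refine Subtype.ext ?_
    show pw x i * u * (pw x i)⁻¹ = pw a i * u * (pw a i)⁻¹
    set w := pw x i * (pw a i)⁻¹ with hw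
    have hwZ : w ∈ Z := hpwmem hx i
    have hau := hZn.conj_mem _ u.2 (pw a i)
    calc pw x i * u * (pw x i)⁻¹ = w * (pw a i * u * (pw a i)⁻¹) * w⁻¹ := by rw [hw]; group
      _ = _ := by rw [hZc w hwZ _ hau, mul_inv_cancel_right]
  let N : ↥Z → ↥Z := fun u => ∏ i : ZMod p, cj (pw a i) u
  have hNfix : ∀ u, cj a (N u) = N u := fun u => by
    show cj a (∏ i : ZMod p, cj (pw a i) u) = ∏ i : ZMod p, cj (pw a i) u
    rw [map_prod]
    refine Fintype.prod_equiv (Equiv.addLeft (1 : ZMod p)) _ _ fun i => Subtype.ext ?_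
    show a * (pw a i * u * (pw a i)⁻¹) * a⁻¹ = pw a (1 + i) * u * (pw a (1 + i))⁻¹
    rw [pw_add ha, pw_one]; group
  have hNval : ∀ v : ↥Z, (∏ i : (ZMod p)ˣ, cj (pw a (i : ZMod p)) v) * v = N v := fun v => by
    show _ = ∏ i : ZMod p, cj (pw a i) v
    rw [← Finset.mul_prod_erase Finset.univ _ (Finset.mem_univ (0 : ZMod p)), mul_comm]
    congr 1
    · exact Subtype.ext (show (v : G) = pw a (0 : ZMod p) * v * (pw a (0 : ZMod p))⁻¹ by
        rw [pw_zero]; group)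
    · refine Finset.prod_nbij (fun i : (ZMod p)ˣ => (i : ZMod p)) (fun i _ => ?_)
        (fun i _ j _ h => Units.ext h) (fun i hi => ?_) (fun i _ => rfl)
      · exact Finset.mem_erase.2 ⟨i.ne_zero, Finset.mem_univ _⟩
      · exact ⟨Units.mk0 i (Finset.ne_of_mem_erase hi), Finset.mem_coe.2 (Finset.mem_univ _), rfl⟩
  -- moving the base point
  have hP : ∀ (x : G) (hx : x * a⁻¹ ∈ Z) (v : ↥Z) (hvx : (v : G) * x * (v : G)⁻¹ * a⁻¹ ∈ Z),
      P ((v : G) * x * (v : G)⁻¹) hvx * v ^ p = P x hx * N v := by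
    intro x hx v hvx
    have e : ∀ i, term ((v : G) * x * (v : G)⁻¹) hvx i =
        term x hx i * (cj (pw a (i : ZMod p)) v * v⁻¹) := fun i => by
      rw [← hcj hx]
      refine Subtype.ext ?_
      show g i * (pw ((v : G) * x * (v : G)⁻¹) (i : ZMod p))⁻¹ =
        g i * (pw x (i : ZMod p))⁻¹ * (pw x (i : ZMod p) * v * (pw x (i : ZMod p))⁻¹ * (v : G)⁻¹)
      rw [show pw ((v : G) * x * (v : G)⁻¹) (i : ZMod p) = v * pw x (i : ZMod p) * (v : G)⁻¹ from
        conj_pow]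
      group
    show (∏ i, term ((v : G) * x * (v : G)⁻¹) hvx i) * v ^ p = (∏ i, term x hx i) * N v
    rw [Finset.prod_congr rfl fun i _ => e i, Finset.prod_mul_distrib, Finset.prod_mul_distrib,
      Finset.prod_const, Finset.card_univ, ZMod.card_units, ← hNval, mul_assoc (∏ i, term x hx i)]
    congr 1
    rw [mul_assoc]
    congr 1
    obtain ⟨m, hm⟩ := Nat.exists_eq_succ_of_ne_zero hp.out.ne_zero
    rw [hm, Nat.succ_sub_one, pow_succ, inv_pow, inv_mul_cancel_left]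
  have hco : (Nat.card ↥Z).Coprime p := (hp.out.coprime_iff_not_dvd.2 hZp).symm
  have hroot := (Nat.Coprime.pow_left_bijective hco)
  have ha0 : a * a⁻¹ ∈ Z := by simp
  obtain ⟨r, hr⟩ := hroot.2 (P a ha0)
  simp only at hr
  set b := (r : G) * a * (r : G)⁻¹ with hb
  have hbZ : b * a⁻¹ ∈ Z := by
    have := Z.mul_mem r.2 (hZn.conj_mem _ (Z.inv_mem r.2) a)
    rwa [show (r : G) * (a * (r : G)⁻¹ * a⁻¹) = b * a⁻¹ by rw [hb]; group] at this
  have hbp : b ^ p = 1 := by rw [hb, conj_pow, ha]; group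
  have hPb : P b hbZ = N r := by
    have := hP a ha0 r hbZ
    rwa [← hr, mul_comm _ (r ^ p), mul_right_inj] at this
  -- the transported base point
  set b' := pw (y⁻¹ * b * y) ((l⁻¹ : (ZMod p)ˣ) : ZMod p) with hb'
  have hyb : (y⁻¹ * b * y) ^ p = 1 := by
    have := conj_pow (a := y⁻¹) (b := b) (i := p)
    rw [inv_inv] at this
    rw [this, hbp]; group
  have hb'p : b' ^ p = 1 := pw_pow_prime hyb _
  have hπb : π b = π a := hπc.2 hbZ
  have hb'Z : b' * a⁻¹ ∈ Z := by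
    rw [← hπc, hb', map_pw, map_mul, map_mul, map_inv, hπb, hπy, pw_pw hπa, ← Units.val_mul,
      mul_inv_cancel, Units.val_one, pw_one]
  have hPb' : ((P b' hb'Z : ↥Z) : G) = y⁻¹ * (P b hbZ : ↥Z) * y := by
    have e : ∀ i, term b' hb'Z (l * i) = cj y⁻¹ (term b hbZ i) := fun i => Subtype.ext (by
      show g (l * i) * (pw b' ((l * i : (ZMod p)ˣ) : ZMod p))⁻¹ =
        y⁻¹ * (g i * (pw b (i : ZMod p))⁻¹) * y⁻¹⁻¹
      rw [← hgeq, hb', pw_pw hyb, ← Units.val_mul, inv_mul_cancel_left, ← conj_pw]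
      group)
    have h1 : P b' hb'Z = cj y⁻¹ (P b hbZ) := by
      show ∏ i, term b' hb'Z i = cj y⁻¹ (∏ i, term b hbZ i)
      rw [map_prod, ← Equiv.prod_comp (Equiv.mulLeft l) (fun i => term b' hb'Z i)]
      exact Finset.prod_congr rfl fun i _ => e i
    rw [h1]
    show y⁻¹ * _ * y⁻¹⁻¹ = _
    rw [inv_inv]
  have hcom : ∀ {x : G}, x * a⁻¹ ∈ Z → ∀ u : ↥Z, cj a u = u → (u : G) * x = x * u := fun {x} hx u hu => by
    have h := hcj hx 1 u
    rw [pw_one, pw_one, hu] at h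
    have h' : x * (u : G) * x⁻¹ = u := congrArg Subtype.val h
    exact (mul_inv_eq_iff_eq_mul.1 h').symm
  have hfix' : cj a (P b' hb'Z) = P b' hb'Z := by
    rw [← pw_one (p := p) a, ← hcj hb'Z, pw_one]
    refine Subtype.ext ?_
    show b' * (P b' hb'Z : ↥Z) * b'⁻¹ = _
    rw [hPb', hPb]
    have h1 := hcom hbZ (N r) (hNfix r)
    have h2 : Commute (y⁻¹ * (N r : ↥Z) * y : G) (y⁻¹ * b * y) :=
      calc y⁻¹ * (N r : ↥Z) * y * (y⁻¹ * b * y) = y⁻¹ * ((N r : ↥Z) * b) * y := by group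
        _ = y⁻¹ * (b * (N r : ↥Z)) * y := by rw [h1]
        _ = _ := by group
    rw [hb', pw, ← (h2.pow_right _).eq, mul_inv_cancel_right]
  obtain ⟨v, hvZ, hv⟩ := exists_conj_of_coset hZc hZp hbp hb'p
    (by
      have := Z.mul_mem hb'Z (Z.inv_mem hbZ)
      rwa [show b' * a⁻¹ * (b * a⁻¹)⁻¹ = b' * b⁻¹ by group] at this)
  have hvb' : v * b * v⁻¹ * a⁻¹ ∈ Z := hv ▸ hb'Z
  have hPcongr : ∀ (x x' : G) (hx : x * a⁻¹ ∈ Z) (hx' : x' * a⁻¹ ∈ Z), x = x' → P x hx = P x' hx' := by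
    intro x x' hx hx' e
    subst e
    rfl
  have hPv : P b' hb'Z * (⟨v, hvZ⟩ : ↥Z) ^ p = P b hbZ * N ⟨v, hvZ⟩ := by
    rw [hPcongr b' _ hb'Z hvb' hv]
    exact hP b hbZ ⟨v, hvZ⟩ hvb'
  have hvfix : cj a ⟨v, hvZ⟩ = ⟨v, hvZ⟩ := hroot.1 (by
    show (cj a ⟨v, hvZ⟩) ^ p = (⟨v, hvZ⟩ : ↥Z) ^ p
    rw [← map_pow]
    have e : (⟨v, hvZ⟩ : ↥Z) ^ p = (P b' hb'Z)⁻¹ * (N r * N ⟨v, hvZ⟩) := by
      rw [← hPb, ← hPv, inv_mul_cancel_left]
    rw [e, map_mul, map_mul, map_inv, hfix', hNfix, hNfix])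
  have hvb := hcom hbZ _ hvfix
  have hbb : b' = b := by rw [hv, show v * b = b * v from hvb, mul_inv_cancel_right]
  refine ⟨r, r.2, ?_⟩
  show y⁻¹ * b * y = pw b (l : ZMod p)
  conv_rhs => rw [← hbb, hb']
  rw [pw_pw hyb, ← Units.val_mul, inv_mul_cancel, Units.val_one, pw_one]

end Abelian

/-- The solvable case. -/
theorem exists_line : ∀ (n : ℕ) {G : Type u} [Group G] [Finite G] (R : Subgroup G),
    Nat.card R = n → Group.IsSolvable ↥R → ¬ p ∣ Nat.card R → ∀ {s : ℕ}, s.Prime → ∀ {a y : G},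
    a ∈ normalizer (R : Set G) → y ∈ normalizer (R : Set G) → a ^ p = 1 → y ^ s = 1 →
    ∀ {l : (ZMod p)ˣ}, l ≠ 1 → l ^ s = 1 → y⁻¹ * a * y * (pw a (l : ZMod p))⁻¹ ∈ R →
    ∃ r ∈ R, y⁻¹ * (r * a * r⁻¹) * y = pw (r * a * r⁻¹) (l : ZMod p) := by
  intro n
  induction n using Nat.strong_induction_on with
  | _ n ih =>
  intro G _ _ R hn hsol hpR s hs a y haN hyN ha hy l hl hls hay
  rcases eq_or_ne R ⊥ with hR | hR
  · refine ⟨1, one_mem R, ?_⟩
    rw [hR, mem_bot, mul_inv_eq_one] at hay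
    simpa using hay
  haveI : Nontrivial ↥R := R.nontrivial_iff_ne_bot.2 hR
  set R' := (commutator ↥R).map R.subtype with hR'
  have hR'R : R' ≤ R := map_subtype_le _
  have hlt : R' < R := by
    refine lt_of_le_of_ne hR'R fun e => ?_
    refine (IsSolvable.commutator_lt_top_of_nontrivial (G := ↥R)).ne
      (Subgroup.map_injective R.subtype_injective ?_)
    rw [← hR', e, ← MonoidHom.range_eq_map, range_subtype]
  have hR'eq : R' = ⁅R, R⁆ := by
    rw [hR', commutator_def, Subgroup.map_commutator, ← MonoidHom.range_eq_map, range_subtype]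
  set M := normalizer (R : Set G) with hM
  have hR'n : M ≤ normalizer (R' : Set G) := by
    have key : ∀ g ∈ M, ∀ x ∈ R', g * x * g⁻¹ ∈ R' := by
      intro g hg x hx
      have hmap : R.map (MulAut.conj g).toMonoidHom = R := by
        ext z
        constructor
        · rintro ⟨w, hw, rfl⟩
          exact (mem_normalizer_iff.1 hg w).1 hw
        · intro hz
          exact ⟨g⁻¹ * z * g, (mem_normalizer_iff''.1 hg z).1 hz, by simp [mul_assoc]⟩
      have := Subgroup.mem_map_of_mem (MulAut.conj g).toMonoidHom hx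
      rw [hR'eq, Subgroup.map_commutator, hmap, ← hR'eq] at this
      exact this
    intro g hg
    refine mem_normalizer_iff.2 fun x => ⟨key g hg x, fun hx => ?_⟩
    have := key g⁻¹ (inv_mem hg) _ hx
    simpa [mul_assoc] using this
  haveI : (R'.subgroupOf M).Normal :=
    Subgroup.normal_subgroupOf_of_le_normalizer hR'n
  haveI : (R.subgroupOf M).Normal := Subgroup.normal_subgroupOf_of_le_normalizer le_rfl
  set π := QuotientGroup.mk' (R'.subgroupOf M) with hπ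
  have hRM : R ≤ M := le_normalizer
  set Z := (R.subgroupOf M).map π with hZ
  haveI : Z.Normal := Subgroup.Normal.map inferInstance π (QuotientGroup.mk'_surjective _)
  have hZc : ∀ u ∈ Z, ∀ v ∈ Z, u * v = v * u := by
    rintro _ ⟨u, hu, rfl⟩ _ ⟨v, hv, rfl⟩
    rw [← map_mul, ← map_mul]
    refine QuotientGroup.eq.2 ?_
    rw [mem_subgroupOf, hR'eq]
    have := commutator_mem_commutator (R.inv_mem hv) (R.inv_mem hu)
    simpa [commutatorElement_def, mul_assoc] using this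
  have hZp : ¬ p ∣ Nat.card Z := fun h => hpR (h.trans ((card_map_dvd _ π).trans
    (Nat.card_congr (subgroupOfEquivOfLe hRM).toEquiv).dvd))
  let am : ↥M := ⟨a, haN⟩
  let ym : ↥M := ⟨y, hyN⟩
  obtain ⟨_, ⟨r, hrR, rfl⟩, hr⟩ := exists_line_abelian hZc hZp hs (a := π am) (y := π ym)
    (by rw [← map_pow, show am ^ p = 1 from Subtype.ext ha, map_one])
    (by rw [← map_pow, show ym ^ s = 1 from Subtype.ext hy, map_one]) hl hls
    (by
      rw [← map_pw, ← map_inv, ← map_inv, ← map_mul, ← map_mul, ← map_mul]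
      exact ⟨_, hay, rfl⟩)
  rw [← map_inv, ← map_inv, ← map_mul, ← map_mul, ← map_mul, ← map_mul, ← map_pw] at hr
  have hr' : y⁻¹ * ((r : G) * a * (r : G)⁻¹) * y *
      (pw ((r : G) * a * (r : G)⁻¹) (l : ZMod p))⁻¹ ∈ R' := by
    have h1 : ym⁻¹ * (r * am * r⁻¹) * ym * (pw (r * am * r⁻¹) (l : ZMod p))⁻¹ ∈ R'.subgroupOf M := by
      refine (QuotientGroup.eq_one_iff _).1 ?_
      show π (_ * _⁻¹) = 1
      rw [map_mul, map_inv, hr, mul_inv_cancel]
    exact h1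
  have hrN : (r : G) * a * (r : G)⁻¹ ∈ normalizer (R' : Set G) :=
    mul_mem (mul_mem (hR'n r.2) (hR'n haN)) (inv_mem (hR'n r.2))
  obtain ⟨r', hr'R, hr'e⟩ := ih (Nat.card R') (by
      rw [← hn]
      exact lt_of_le_of_ne (card_le_of_le hR'R) fun e =>
        hlt.ne (eq_of_le_of_card_ge hR'R e.ge)) R' rfl
    (Grp.isSolvable_of_le hR'R hsol)
    (fun h => hpR (h.trans (card_dvd_of_le hR'R))) hs hrN (hR'n hyN)
    (by rw [conj_pow, ha]; group) hy hl hls hr'
  refine ⟨r' * r, mul_mem (hR'R hr'R) hrR, ?_⟩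
  rw [show r' * (r : G) * a * (r' * (r : G))⁻¹ = r' * ((r : G) * a * (r : G)⁻¹) * r'⁻¹ by group]
  exact hr'e

end Cfsg.Agent.Grp.TwoGen
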