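import Cfsg.Agent.Lib.Grp.TwoGen.Upper
import Cfsg.Agent.Lib.Grp.TwoGen.LineFix
import Cfsg.Agent.Lib.Grp.SignalizerTransitive
import Cfsg.Agent.Lib.Grp.PComponents
import Cfsg.Agent.Lib.Grp.Solvable
import Cfsg.Agent.Lib.Invol.Closed

/-!
Flavell's two-generator theorem: no prime with a cyclic Sylow subgroup.

For `a` of order `p` every element of a proper subgroup `H` containing `a` acts on `⟨a⟩` modulo
`O_{p'}(H)` with some eigenvalue, independent of `H`, and equal to every eigenvalue on a line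
it normalises.  Transfer from a suitable `H` into the units of `ZMod p` gives the contradiction.
-/

set_option autoImplicit false
set_option linter.style.haveILetI false

namespace Cfsg.Agent.Grp.TwoGen

open Subgroup

universe u

attribute [local instance] Cfsg.Agent.Grp.pPrimeCore_isNormal

section Local

variable {G : Type u} [Group G] [Finite G] {p : ℕ} [hp : Fact p.Prime]

/-- Every `p`-subgroup is cyclic. -/
def CyclicP (p : ℕ) (G : Type*) [Group G] : Prop :=
  ∀ K : Subgroup G, IsPGroup p K → IsCyclic K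

theorem cyclicP_of_sylow (P : Sylow p G) [IsCyclic (P : Subgroup G)] : CyclicP p G := fun K hK => by
  obtain ⟨Q, hQ⟩ := hK.exists_le_sylow
  haveI : IsCyclic (Q : Subgroup G) := isCyclic_of_surjective _ (P.equiv Q).surjective
  exact isCyclic_of_injective (Subgroup.inclusion hQ) (Subgroup.inclusion_injective hQ)

theorem pw_ne_one {H : Type*} [Group H] {x : H} (hx : orderOf x = p) {i : ZMod p} (hi : i ≠ 0) :
    pw x i ≠ 1 := by
  haveI : NeZero p := ⟨hp.out.ne_zero⟩
  exact pow_ne_one_of_lt_orderOf (fun h => hi ((ZMod.val_eq_zero i).1 h)) (hx ▸ ZMod.val_lt i)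

theorem pow_prime_of_orderOf {H : Type*} [Group H] {x : H} (hx : orderOf x = p) : x ^ p = 1 :=
  hx ▸ pow_orderOf_eq_one x

theorem orderOf_pw {H : Type*} [Group H] {x : H} (hx : orderOf x = p) {i : ZMod p} (hi : i ≠ 0) :
    orderOf (pw x i) = p :=
  orderOf_eq_prime (pw_pow_prime (pow_prime_of_orderOf hx) i) (pw_ne_one hx hi)

theorem pw_mem {H : Type*} [Group H] {K : Subgroup H} {x : H} (hx : x ∈ K) (i : ZMod p) :
    pw x i ∈ K := K.pow_mem hx _

theorem pw_injective {H : Type*} [Group H] {x : H} (hx : orderOf x = p) {i j : ZMod p}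
    (h : pw x i = pw x j) : i = j := by
  haveI : NeZero p := ⟨hp.out.ne_zero⟩
  rw [pw, pw, pow_inj_mod, hx, Nat.mod_eq_of_lt (ZMod.val_lt i), Nat.mod_eq_of_lt (ZMod.val_lt j)] at h
  exact ZMod.val_injective p h

theorem exists_pw_of_mem_zpowers {H : Type*} [Group H] [Finite H] {x z : H} (hx : orderOf x = p)
    (hz : z ∈ zpowers x) : ∃ i : ZMod p, z = pw x i := by
  obtain ⟨n, rfl⟩ := (mem_powers_iff_mem_zpowers.2 hz : z ∈ Submonoid.powers x)
  exact ⟨n, (pw_natCast (pow_prime_of_orderOf hx) n).symm⟩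

theorem mem_zpowers_of_orderOf_eq (hc : CyclicP p G) {K : Subgroup G} (hK : IsPGroup p K) {x y : G}
    (hx : x ∈ K) (hxo : orderOf x = p) (hy : y ∈ K) (hyo : y ^ p = 1) : y ∈ zpowers x := by
  haveI := hc K hK
  letI : CommGroup ↥K := IsCyclic.commGroup
  set T := (powMonoidHom p : ↥K →* ↥K).ker with hT
  have hxT : zpowers (⟨x, hx⟩ : ↥K) ≤ T := zpowers_le.2 (MonoidHom.mem_ker.2
    (Subtype.ext (show x ^ p = 1 from pow_prime_of_orderOf hxo)))
  have hcard : Nat.card T ≤ Nat.card (zpowers (⟨x, hx⟩ : ↥K)) := by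
    rw [Nat.card_zpowers, orderOf_mk, hxo, hT, IsCyclic.card_powMonoidHom_ker]
    exact Nat.gcd_le_right _ hp.out.pos
  have hy' : (⟨y, hy⟩ : ↥K) ∈ T := MonoidHom.mem_ker.2 (Subtype.ext (show y ^ p = 1 from hyo))
  rw [← eq_of_le_of_card_ge hxT hcard] at hy'
  obtain ⟨i, hi⟩ := mem_zpowers_iff.1 hy'
  exact mem_zpowers_iff.2 ⟨i, congrArg Subtype.val hi⟩

/-- The quotient of `H` by its `p'`-core. -/
abbrev qc (p : ℕ) (H : Subgroup G) : ↥H →* ↥H ⧸ Cfsg.pPrimeCore p ↥H :=
  QuotientGroup.mk' _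

theorem qc_eq_one {H : Subgroup G} {u : ↥H} : qc p H u = 1 ↔ (u : G) ∈ core p H := by
  refine (QuotientGroup.eq_one_iff u).trans ⟨fun h => ⟨u, h, rfl⟩, ?_⟩
  rintro ⟨v, hv, e⟩
  rwa [← show v = u from Subtype.ext e]

theorem orderOf_qc {H : Subgroup G} {u : ↥H} (hu : orderOf (u : G) = p) :
    orderOf (qc p H u) = p := by
  refine orderOf_eq_prime ?_ fun h => ?_
  · rw [← map_pow, show u ^ p = 1 from Subtype.ext (pow_prime_of_orderOf hu), map_one]
  · have := orderOf_coprime_of_mem_core (qc_eq_one.1 h)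
    rw [hu, Nat.coprime_self] at this
    exact hp.out.ne_one this

theorem core_eq_bot_quotient (H : Subgroup G) :
    Cfsg.pPrimeCore p (↥H ⧸ Cfsg.pPrimeCore p ↥H) = ⊥ := Grp.pPrimeCore_quotient_bot

theorem qc_mem_pCore_iff {H : Subgroup G} {u : ↥H} :
    qc p H u ∈ Cfsg.pCore p (↥H ⧸ Cfsg.pPrimeCore p ↥H) ↔ (u : G) ∈ upper p H := by
  refine ⟨fun h => ⟨u, h, rfl⟩, ?_⟩
  rintro ⟨v, hv, e⟩
  rw [← show v = u from Subtype.ext e]
  exact hv

/-- Elements of order `p` lie in `O_{p',p}` of every proper subgroup. -/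
theorem mem_upper (S : Setting G) (hc : CyclicP p G) {H : Subgroup G} (hH : H ≠ ⊤) {x : G}
    (hx : x ∈ H) (hxo : orderOf x = p) : x ∈ upper p H := by
  haveI := S.proper H hH
  haveI : Group.IsSolvable (↥H ⧸ Cfsg.pPrimeCore p ↥H) :=
    Group.isSolvable_of_surjective (f := qc p H) (QuotientGroup.mk'_surjective _)
  rw [show x = ((⟨x, hx⟩ : ↥H) : G) from rfl, ← qc_mem_pCore_iff]
  set O := Cfsg.pCore p (↥H ⧸ Cfsg.pPrimeCore p ↥H) with hO
  obtain ⟨Q, hQ⟩ := (IsPGroup.of_card (n := 1) (by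
    rw [Nat.card_zpowers, orderOf_mk, hxo, pow_one]) :
    IsPGroup p (zpowers (⟨x, hx⟩ : ↥H))).exists_le_sylow
  have hcyc : IsCyclic ((Q : Subgroup ↥H).map H.subtype) := hc _ (Q.isPGroup'.map _)
  haveI : IsCyclic (Q : Subgroup ↥H) := isCyclic_of_surjective _
    ((Q : Subgroup ↥H).equivMapOfInjective H.subtype H.subtype_injective).symm.surjective
  refine Grp.centralizer_pCore_le (core_eq_bot_quotient H) ?_
  rw [mem_centralizer_iff]
  intro w hw
  have hle : O ≤ (Q : Subgroup ↥H).map (qc p H) := by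
    have := Grp.pCore_le_sylow (Q.mapSurjective (f := qc p H) (QuotientGroup.mk'_surjective _))
    rwa [Sylow.coe_mapSurjective] at this
  obtain ⟨v, hv, rfl⟩ := hle hw
  letI : CommGroup ↥(Q : Subgroup ↥H) := IsCyclic.commGroup
  have hh := mul_comm (⟨v, hv⟩ : ↥(Q : Subgroup ↥H)) ⟨⟨x, hx⟩, hQ (mem_zpowers _)⟩
  rw [← map_mul, ← map_mul]
  exact congrArg (qc p H) (congrArg Subtype.val hh)

/-- In a proper subgroup every element of order `p` is congruent to a power of `a`. -/
theorem exists_rel (S : Setting G) (hc : CyclicP p G) {H : Subgroup G} (hH : H ≠ ⊤) {a z : G}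
    (ha : a ∈ H) (hao : orderOf a = p) (hz : z ∈ H) (hzo : orderOf z = p) :
    ∃ r ∈ core p H, ∃ i : ZMod p, i ≠ 0 ∧ z = r⁻¹ * pw a i * r := by
  have hpg : ∀ {x : G}, orderOf x = p → IsPGroup p (zpowers x) := fun {x} h =>
    IsPGroup.of_card (n := 1) (by rw [Nat.card_zpowers, h, pow_one])
  obtain ⟨r, hr, hK⟩ := exists_core_conj (mem_upper S hc hH ha hao) (mem_upper S hc hH hz hzo)
    (hpg hao) (hpg hzo)
  have hzo' : orderOf (r * z * r⁻¹) = p := by
    rw [show r * z * r⁻¹ = MulAut.conj r z from rfl, MulEquiv.orderOf_eq, hzo]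
  obtain ⟨i, hi⟩ := exists_pw_of_mem_zpowers hao (mem_zpowers_of_orderOf_eq hc hK
    (Subgroup.subset_closure (by simp)) hao (Subgroup.subset_closure (by simp))
    (pow_prime_of_orderOf hzo') : r * z * r⁻¹ ∈ zpowers a)
  refine ⟨r, hr, i, fun h => ?_, by rw [← hi]; group⟩
  rw [hi, h, pw_zero, orderOf_one] at hzo'
  exact hp.out.ne_one hzo'.symm

/-- `y` acts on `⟨a⟩` with eigenvalue `l` modulo a core. -/
def Chi (p : ℕ) (a y : G) (l : ZMod p) : Prop :=
  ∃ H : Subgroup G, H ≠ ⊤ ∧ a ∈ H ∧ y ∈ H ∧ y⁻¹ * a * y * (pw a l)⁻¹ ∈ core p H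

theorem Chi.mem_core (S : Setting G) (hc : CyclicP p G) {a y : G} (hao : orderOf a = p) {l : ZMod p}
    (h : Chi p a y l) {H : Subgroup G} (hH : H ≠ ⊤) (ha : a ∈ H) (hy : y ∈ H) :
    y⁻¹ * a * y * (pw a l)⁻¹ ∈ core p H := by
  obtain ⟨K, hK, haK, hyK, hmem⟩ := h
  have hao' : orderOf (y⁻¹ * a * y) = p := by
    rw [show y⁻¹ * a * y = MulAut.conj y⁻¹ a by simp [MulAut.conj_apply], MulEquiv.orderOf_eq, hao]
  exact mem_core_of_le (mul_mem (mem_upper S hc hH (mul_mem (mul_mem (inv_mem hy) ha) hy) hao')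
    (inv_mem (pw_mem (mem_upper S hc hH ha hao) l))) hmem

theorem chi_iff (S : Setting G) (hc : CyclicP p G) {H : Subgroup G} (hH : H ≠ ⊤) {a y : G}
    (ha : a ∈ H) (hao : orderOf a = p) (hy : y ∈ H) (l : ZMod p) :
    Chi p a y l ↔
      (qc p H ⟨y, hy⟩)⁻¹ * qc p H ⟨a, ha⟩ * qc p H ⟨y, hy⟩ = pw (qc p H ⟨a, ha⟩) l := by
  rw [← map_inv, ← map_mul, ← map_mul, ← map_pw, ← mul_inv_eq_one, ← map_inv, ← map_mul, qc_eq_one]
  exact ⟨fun h => h.mem_core S hc hao hH ha hy, fun h => ⟨H, hH, ha, hy, h⟩⟩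

theorem Chi.unique (S : Setting G) (hc : CyclicP p G) {a y : G} (hao : orderOf a = p) {l m : ZMod p}
    (h : Chi p a y l) (h' : Chi p a y m) : l = m := by
  have h0 := h'
  obtain ⟨H, hH, ha, hy, -⟩ := h'
  rw [chi_iff S hc hH ha hao hy] at h h0
  exact pw_injective (orderOf_qc (u := ⟨a, ha⟩) hao) (h.symm.trans h0)

theorem exists_chi (S : Setting G) (hc : CyclicP p G) {H : Subgroup G} (hH : H ≠ ⊤) {a : G}
    (ha : a ∈ H) (hao : orderOf a = p) {y : G} (hy : y ∈ H) : ∃ l : ZMod p, Chi p a y l := by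
  have hao' : orderOf (y⁻¹ * a * y) = p := by
    rw [show y⁻¹ * a * y = MulAut.conj y⁻¹ a by simp [MulAut.conj_apply], MulEquiv.orderOf_eq, hao]
  obtain ⟨r, hr, i, -, he⟩ := exists_rel S hc hH ha hao (mul_mem (mul_mem (inv_mem hy) ha) hy) hao'
  refine ⟨i, H, hH, ha, hy, ?_⟩
  rw [he, show r⁻¹ * pw a i * r * (pw a i)⁻¹ = r⁻¹ * (pw a i * r * (pw a i)⁻¹) by group]
  exact mul_mem (inv_mem hr) (conj_mem_core (pw_mem ha i) hr)

/-- The eigenvalue as a character of `H`. -/
theorem exists_chiHom (S : Setting G) (hc : CyclicP p G) {H : Subgroup G} (hH : H ≠ ⊤) {a : G}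
    (ha : a ∈ H) (hao : orderOf a = p) :
    ∃ χ : ↥H →* (ZMod p)ˣ, ∀ h : ↥H, Chi p a (h : G) (χ h : ZMod p) := by
  choose f hf using fun h : ↥H => exists_chi S hc hH ha hao h.2
  have hq := orderOf_qc (u := (⟨a, ha⟩ : ↥H)) hao
  have e : ∀ h : ↥H,
      (qc p H h)⁻¹ * qc p H ⟨a, ha⟩ * qc p H h = pw (qc p H ⟨a, ha⟩) (f h) :=
    fun h => (chi_iff S hc hH ha hao h.2 _).1 (hf h)
  let f' : ↥H →* ZMod p :=
    { toFun := f
      map_one' := pw_injective hq (by rw [← e 1, pw_one, map_one]; group)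
      map_mul' := fun h k => pw_injective hq (by
        rw [← e (h * k), map_mul, show (qc p H h * qc p H k)⁻¹ * qc p H ⟨a, ha⟩ *
          (qc p H h * qc p H k) = (qc p H k)⁻¹ * ((qc p H h)⁻¹ * qc p H ⟨a, ha⟩ * qc p H h) *
            qc p H k by group, e h, conj_pw, e k, pw_pw (pow_prime_of_orderOf hq), mul_comm]) }
  exact ⟨f'.toHomUnits, fun h => hf h⟩

/-- The eigenvalue on any normalised line is the eigenvalue of the character. -/
theorem Chi.eq_of_line (S : Setting G) (hc : CyclicP p G) {a y z : G} (hao : orderOf a = p)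
    (hzo : orderOf z = p) {l m : ZMod p} (h : Chi p a y m) (hzy : y⁻¹ * z * y = pw z l) : m = l := by
  obtain ⟨H, hH, ha, hy, hmem⟩ := h
  obtain ⟨j, hj, i, hi, hze⟩ := exists_rel S hc (S.pair a z)
    (Subgroup.subset_closure (by simp)) hao (Subgroup.subset_closure (by simp)) hzo
  set b := pw a i with hb
  have hbo : orderOf b = p := orderOf_pw hao hi
  set K := closure ({b, j * y} : Set G) with hK
  have hKne : K ≠ ⊤ := S.pair _ _
  have hbK : b ∈ K := Subgroup.subset_closure (by simp)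
  have hjyK : j * y ∈ K := Subgroup.subset_closure (by simp)
  have hl : l ≠ 0 := fun e => by
    rw [e, pw_zero, mul_assoc, inv_mul_eq_one, eq_comm, mul_eq_right] at hzy
    rw [hzy, orderOf_one] at hzo
    exact hp.out.ne_one hzo.symm
  have hzK : z ∈ K := by
    have h1 : pw z l ∈ K := by
      rw [← hzy, hze, show y⁻¹ * (j⁻¹ * b * j) * y = (j * y)⁻¹ * b * (j * y) by group]
      exact mul_mem (mul_mem (inv_mem hjyK) hbK) hjyK
    have h2 : zpowers (pw z l) = zpowers z := by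
      refine eq_of_le_of_card_ge (zpowers_le.2 (pw_mem (mem_zpowers z) l)) ?_
      rw [Nat.card_zpowers, Nat.card_zpowers, hzo, orderOf_pw hzo hl]
    exact (zpowers_le.2 h1) (h2.ge (mem_zpowers z))
  have haK : a ∈ K := by
    have h2 : zpowers b = zpowers a := by
      refine eq_of_le_of_card_ge (zpowers_le.2 (pw_mem (mem_zpowers a) i)) ?_
      rw [Nat.card_zpowers, Nat.card_zpowers, hao, hbo]
    exact (zpowers_le.2 hbK) (h2.ge (mem_zpowers a))
  set J := closure ({a, z} : Set G) with hJ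
  have hJu : J ≤ upper p K := mem_of_mem_closure_pair (mem_upper S hc hKne haK hao)
    (mem_upper S hc hKne hzK hzo)
  have hjK : j ∈ core p K := mem_core_of_le (hJu (core_le _ hj)) hj
  have hyK : y ∈ K := by
    have := mul_mem (inv_mem (core_le _ hjK)) hjyK
    rwa [inv_mul_cancel_left] at this
  have hzb : qc p K ⟨z, hzK⟩ = qc p K ⟨b, hbK⟩ := by
    rw [show (⟨z, hzK⟩ : ↥K) = ⟨j, core_le _ hjK⟩⁻¹ * ⟨b, hbK⟩ * ⟨j, core_le _ hjK⟩ from
      Subtype.ext hze, map_mul, map_mul, map_inv, (qc_eq_one (u := ⟨j, core_le _ hjK⟩)).2 hjK]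
    group
  have h1 : Chi p b y l := by
    rw [chi_iff S hc hKne hbK hbo hyK, ← hzb, ← map_inv, ← map_mul, ← map_mul, ← map_pw]
    exact congrArg (qc p K) (Subtype.ext hzy)
  have h2 : Chi p b y m := by
    have h' := (chi_iff S hc hH ha hao hy m).1 ⟨H, hH, ha, hy, hmem⟩
    rw [chi_iff S hc hH (pw_mem ha i) hbo hy,
      show (⟨b, pw_mem ha i⟩ : ↥H) = pw (⟨a, ha⟩ : ↥H) i from Subtype.ext rfl, map_pw, conj_pw, h',
      pw_pw (pow_prime_of_orderOf (orderOf_qc (u := ⟨a, ha⟩) hao)),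
      pw_pw (pow_prime_of_orderOf (orderOf_qc (u := ⟨a, ha⟩) hao)), mul_comm]
  exact h2.unique S hc hbo h1

/-- A `p'`-element with eigenvalue one lies in the core. -/
theorem mem_core_of_chi_one (S : Setting G) (hc : CyclicP p G) {H : Subgroup G} (hH : H ≠ ⊤) {a y : G}
    (ha : a ∈ H) (hao : orderOf a = p) (hy : y ∈ H) (hyo : (orderOf y).Coprime p)
    (h : Chi p a y 1) : y ∈ core p H := by
  haveI := S.proper H hH
  haveI : Group.IsSolvable (↥H ⧸ Cfsg.pPrimeCore p ↥H) :=
    Group.isSolvable_of_surjective (f := qc p H) (QuotientGroup.mk'_surjective _)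
  rw [chi_iff S hc hH ha hao hy, pw_one] at h
  set Y := qc p H ⟨y, hy⟩ with hY
  set A := qc p H ⟨a, ha⟩ with hA
  have hYo : (orderOf Y).Coprime p := hyo.coprime_dvd_left
    ((orderOf_map_dvd _ _).trans (orderOf_mk y hy).dvd)
  set O := Cfsg.pCore p (↥H ⧸ Cfsg.pPrimeCore p ↥H) with hO
  haveI hOn : O.Normal := Grp.pCore_isNormal
  have hOp : IsPGroup p O := Grp.pCore_isPGroup
  obtain ⟨Q, hQ⟩ := (IsPGroup.of_card (n := 1) (by
    rw [Nat.card_zpowers, orderOf_mk, hao, pow_one]) :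
    IsPGroup p (zpowers (⟨a, ha⟩ : ↥H))).exists_le_sylow
  have hle : O ≤ (Q : Subgroup ↥H).map (qc p H) := by
    have := Grp.pCore_le_sylow (Q.mapSurjective (f := qc p H) (QuotientGroup.mk'_surjective _))
    rwa [Sylow.coe_mapSurjective] at this
  haveI : IsCyclic ((Q : Subgroup ↥H).map H.subtype) := hc _ (Q.isPGroup'.map _)
  haveI : IsCyclic (Q : Subgroup ↥H) := isCyclic_of_surjective _
    ((Q : Subgroup ↥H).equivMapOfInjective H.subtype H.subtype_injective).symm.surjective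
  haveI : IsCyclic ((Q : Subgroup ↥H).map (qc p H)) :=
    isCyclic_of_surjective _ ((qc p H).subgroupMap_surjective (Q : Subgroup ↥H))
  haveI : IsCyclic O := isCyclic_of_injective (Subgroup.inclusion hle) (Subgroup.inclusion_injective hle)
  letI : CommGroup ↥O := IsCyclic.commGroup
  have hAO : A ∈ O := qc_mem_pCore_iff.2 (mem_upper S hc hH ha hao)
  -- `u ↦ Y⁻¹uYu⁻¹` on the abelian group `O`
  let σ : ↥O →* ↥O :=
    { toFun := fun u => ⟨Y⁻¹ * u * Y, by simpa using hOn.conj_mem _ u.2 Y⁻¹⟩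
      map_one' := Subtype.ext (by show Y⁻¹ * 1 * Y = 1; group)
      map_mul' := fun u v => Subtype.ext (by
        show Y⁻¹ * ((u : ↥H ⧸ Cfsg.pPrimeCore p ↥H) * v) * Y = Y⁻¹ * u * Y * (Y⁻¹ * v * Y); group) }
  have hfix : ∀ (u w : ↥O), σ u = w * u → σ w = w → w = 1 := by
    intro u w hu hw
    have hiter : ∀ k : ℕ, ((Y ^ k)⁻¹ * (u : ↥H ⧸ Cfsg.pPrimeCore p ↥H) * Y ^ k) = (w ^ k * u : ↥O) := by
      intro k
      induction k with
      | zero => simp
      | succ k ih =>
        have : σ (w ^ k * u) = w ^ (k + 1) * u := by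
          rw [map_mul, map_pow, hw, hu, pow_succ, mul_assoc]
        rw [← this, pow_succ]
        show _ = Y⁻¹ * ((w ^ k * u : ↥O) : ↥H ⧸ Cfsg.pPrimeCore p ↥H) * Y
        rw [← ih]; group
    have h1 := hiter (orderOf Y)
    rw [pow_orderOf_eq_one, inv_one, one_mul, mul_one] at h1
    have h2 : w ^ orderOf Y = 1 := mul_eq_right.1 (Subtype.ext h1.symm : w ^ orderOf Y * u = u)
    obtain ⟨k, hk⟩ := hOp w
    exact orderOf_eq_one_iff.1 (Nat.eq_one_of_dvd_coprimes (hYo.pow_right k)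
      (orderOf_dvd_of_pow_eq_one h2) (orderOf_dvd_of_pow_eq_one hk))
  have hσA : σ ⟨A, hAO⟩ = ⟨A, hAO⟩ := Subtype.ext h
  have hord : orderOf (⟨A, hAO⟩ : ↥O) = p := by
    rw [orderOf_mk]; exact orderOf_qc (u := ⟨a, ha⟩) hao
  have hall : ∀ u : ↥O, σ u = u := by
    intro u
    by_contra hne
    set w := σ u * u⁻¹ with hw
    have hw1 : w ≠ 1 := fun e => hne (mul_inv_eq_one.1 e)
    obtain ⟨k, hk⟩ := IsPGroup.iff_card.1 (hOp.to_subgroup (zpowers w))
    rw [Nat.card_zpowers] at hk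
    obtain ⟨k, rfl⟩ : ∃ k', k = k' + 1 := Nat.exists_eq_succ_of_ne_zero fun e => hw1 (by
      rw [← orderOf_eq_one_iff, hk, e, pow_zero])
    have hvo : orderOf (w ^ p ^ k) = p := by
      rw [orderOf_pow' _ (pow_ne_zero _ hp.out.ne_zero), hk,
        Nat.gcd_eq_right (pow_dvd_pow p (Nat.le_succ k)), pow_succ,
        Nat.mul_div_cancel_left _ (pow_pos hp.out.pos k)]
    have hvA : w ^ p ^ k ∈ zpowers (⟨A, hAO⟩ : ↥O) := by
      set T := (powMonoidHom p : ↥O →* ↥O).ker with hT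
      have h1 : zpowers (⟨A, hAO⟩ : ↥O) ≤ T :=
        zpowers_le.2 (MonoidHom.mem_ker.2 (pow_prime_of_orderOf hord))
      rw [eq_of_le_of_card_ge h1 (by
        rw [Nat.card_zpowers, hord, hT, IsCyclic.card_powMonoidHom_ker]
        exact Nat.gcd_le_right _ hp.out.pos)]
      exact MonoidHom.mem_ker.2 (pow_prime_of_orderOf hvo)
    obtain ⟨i, hi⟩ := mem_zpowers_iff.1 hvA
    have := hfix (u ^ p ^ k) (w ^ p ^ k)
      (by rw [map_pow, ← mul_pow, hw, inv_mul_cancel_right])
      (by rw [← hi, map_zpow, hσA])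
    rw [this, orderOf_one] at hvo
    exact hp.out.ne_one hvo.symm
  have hYc : Y ∈ centralizer (O : Set (↥H ⧸ Cfsg.pPrimeCore p ↥H)) := mem_centralizer_iff.2 fun u hu => by
    have h1 : Y⁻¹ * u * Y = u := congrArg Subtype.val (hall ⟨u, hu⟩)
    calc u * Y = Y * (Y⁻¹ * u * Y) := by group
      _ = Y * u := by rw [h1]
  have hYO : Y ∈ O := Grp.centralizer_pCore_le (core_eq_bot_quotient H) hYc
  exact mem_core_of_mem_upper (u := y) (qc_mem_pCore_iff.1 hYO) hyo

/-- An element of prime order with eigenvalue different from one normalises a line. -/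
theorem exists_line_of_chi (S : Setting G) (hc : CyclicP p G) {H : Subgroup G} (hH : H ≠ ⊤)
    {a : G} (ha : a ∈ H) (hao : orderOf a = p) (χ : ↥H →* (ZMod p)ˣ)
    (hχ : ∀ h : ↥H, Chi p a (h : G) (χ h : ZMod p)) {y : ↥H} {s : ℕ} (hs : s.Prime)
    (hy : (y : G) ^ s = 1) (hne : χ y ≠ 1) :
    ∃ z : G, orderOf z = p ∧ (y : G)⁻¹ * z * y = pw z (χ y : ZMod p) := by
  have hls : χ y ^ s = 1 := by
    rw [← map_pow, show y ^ s = 1 from Subtype.ext hy, map_one]
  obtain ⟨r, -, hr⟩ := exists_line _ (core p H) rfl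
    (Grp.isSolvable_of_le (core_le H) (S.proper H hH)) (core_not_dvd H) hs
    (le_normalizer_core H ha) (le_normalizer_core H y.2) (pow_prime_of_orderOf hao) hy hne hls
    ((hχ y).mem_core S hc hao hH ha y.2)
  exact ⟨_, by rw [show r * a * r⁻¹ = MulAut.conj r a from rfl, MulEquiv.orderOf_eq, hao], hr⟩

end Local

section Global

variable {G : Type u} [Group G] [Finite G] {p : ℕ} [hp : Fact p.Prime]

theorem Setting.hom_trivial (S : Setting G) {A : Type*} [CommGroup A] (f : G →* A) (x : G) :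
    f x = 1 := by
  haveI := S.simple
  rcases (inferInstance : f.ker.Normal).eq_bot_or_eq_top with e | e
  · exact absurd (Group.isSolvable_of_comm fun a b : G =>
      (f.ker_eq_bot_iff.1 e) (by rw [map_mul, map_mul, mul_comm])) S.notSolvable
  · exact MonoidHom.mem_ker.1 (e.ge (mem_top x))

/-- Burnside: some element acts nontrivially on `⟨a⟩`. -/
theorem exists_auto (S : Setting G) (hc : CyclicP p G) {a : G} (hao : orderOf a = p) :
    ∃ (n : G) (l : (ZMod p)ˣ), l ≠ 1 ∧ n⁻¹ * a * n = pw a (l : ZMod p) := by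
  by_contra hcon
  push Not at hcon
  obtain ⟨P, hP⟩ := (IsPGroup.of_card (n := 1) (by rw [Nat.card_zpowers, hao, pow_one]) :
    IsPGroup p (zpowers a)).exists_le_sylow
  have haP : a ∈ (P : Subgroup G) := hP (mem_zpowers a)
  haveI : IsCyclic (P : Subgroup G) := hc _ P.isPGroup'
  letI : CommGroup ↥(P : Subgroup G) := IsCyclic.commGroup
  have ha1 : a ≠ 1 := fun e => hp.out.ne_one (by rw [← hao, e, orderOf_one])
  have key : ∀ (k : ℕ) (g₀ : G), g₀⁻¹ * a ^ k * g₀ ∈ (P : Subgroup G) → g₀⁻¹ * a ^ k * g₀ = a ^ k := by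
    intro k g₀ hk
    rcases eq_or_ne (a ^ k) 1 with h1 | h1
    · simp [h1]
    have hbo : orderOf (a ^ k) = p :=
      orderOf_eq_prime (by rw [← pow_mul, mul_comm, pow_mul, pow_prime_of_orderOf hao, one_pow]) h1
    have hco : orderOf (g₀⁻¹ * a ^ k * g₀) = p := by
      rw [show g₀⁻¹ * a ^ k * g₀ = MulAut.conj g₀⁻¹ (a ^ k) by simp [MulAut.conj_apply],
        MulEquiv.orderOf_eq, hbo]
    have hab : a ∈ zpowers (a ^ k) := by
      have : zpowers (a ^ k) = zpowers a := by
        refine eq_of_le_of_card_ge (zpowers_le.2 (pow_mem (mem_zpowers a) k)) ?_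
        rw [Nat.card_zpowers, Nat.card_zpowers, hao, hbo]
      exact this.ge (mem_zpowers a)
    obtain ⟨j, hj⟩ := exists_pw_of_mem_zpowers hbo hab
    obtain ⟨i, hi⟩ := exists_pw_of_mem_zpowers hbo
      (mem_zpowers_of_orderOf_eq hc P.isPGroup' (pow_mem haP k) hbo hk (pow_prime_of_orderOf hco))
    have hi0 : i ≠ 0 := fun e => by
      rw [hi, e, pw_zero, orderOf_one] at hco
      exact hp.out.ne_one hco.symm
    have hg : g₀⁻¹ * a * g₀ = pw a i := by
      rw [hj, conj_pw, hi, pw_pw (pow_prime_of_orderOf hbo), pw_pw (pow_prime_of_orderOf hbo), mul_comm]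
    rcases eq_or_ne (Units.mk0 i hi0) 1 with e | e
    · have : i = 1 := congrArg Units.val e
      rw [hi, this, pw_one]
    · exact absurd hg (hcon g₀ _ e)
  have h := MonoidHom.transfer_eq_pow (MonoidHom.id ↥(P : Subgroup G)) a key
  rw [S.hom_trivial, MonoidHom.id_apply] at h
  have h2 : a ^ (P : Subgroup G).index = 1 := congrArg Subtype.val h.symm
  exact ha1 (orderOf_eq_one_iff.1 (Nat.eq_one_of_dvd_coprimes
    ((hp.out.coprime_iff_not_dvd.2 P.not_dvd_index)) (hao.dvd) (orderOf_dvd_of_pow_eq_one h2)))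

/-- Every element of `H` is congruent modulo the core to one normalising `⟨a⟩`. -/
theorem exists_core_mul_normalizer (S : Setting G) (hc : CyclicP p G) {H : Subgroup G} (hH : H ≠ ⊤)
    {a : G} (ha : a ∈ H) (hao : orderOf a = p) {h : G} (hh : h ∈ H) :
    ∃ r ∈ core p H, ∃ i : ZMod p, (h * r)⁻¹ * a * (h * r) = pw a i := by
  have hao' : orderOf (h⁻¹ * a * h) = p := by
    rw [show h⁻¹ * a * h = MulAut.conj h⁻¹ a by simp [MulAut.conj_apply], MulEquiv.orderOf_eq, hao]
  obtain ⟨r, hr, i, -, he⟩ := exists_rel S hc hH ha hao (mul_mem (mul_mem (inv_mem hh) ha) hh) hao'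
  refine ⟨r⁻¹, inv_mem hr, i, ?_⟩
  calc (h * r⁻¹)⁻¹ * a * (h * r⁻¹) = r * (h⁻¹ * a * h) * r⁻¹ := by group
    _ = pw a i := by rw [he]; group

theorem sCard_le {s : ℕ} [Fact s.Prime] {H K : Subgroup G} (hK : IsPGroup s K) (hKH : K ≤ H) :
    Nat.card K ≤ s ^ (Nat.card H).factorization s := by
  obtain ⟨k, hk⟩ := IsPGroup.iff_card.1 hK
  rw [hk]
  refine Nat.pow_le_pow_right (Fact.out : s.Prime).pos ?_
  exact ((Fact.out : s.Prime).pow_dvd_iff_le_factorization Nat.card_pos.ne').1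
    (hk ▸ card_dvd_of_le hKH)

/-- The proper subgroups containing `a` and an `s`-element moving it. -/
def Moving (p s : ℕ) (a : G) (H : Subgroup G) : Prop :=
  H ≠ ⊤ ∧ a ∈ H ∧ ∃ x ∈ H, ∃ e : ℕ, orderOf x = s ^ e ∧ ∃ l : ZMod p, l ≠ 1 ∧ Chi p a x l

/-- A maximal such subgroup contains a Sylow `s`-subgroup. -/
theorem not_dvd_index_of_moving (S : Setting G) (hc : CyclicP p G) {s : ℕ} [hs : Fact s.Prime]
    (hsp : s ≠ p) {a : G} (hao : orderOf a = p) {H : Subgroup G} (hM : Moving p s a H)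
    (hmax : ∀ K, Moving p s a K →
      (Nat.card K).factorization s ≤ (Nat.card H).factorization s) :
    ¬ s ∣ H.index := by
  classical
  obtain ⟨hH, ha, x₀, hx₀, e₀, hx₀o, l₀, hl₀, hchi₀⟩ := hM
  obtain ⟨χ, hχ⟩ := exists_chiHom S hc hH ha hao
  have hχu : ∀ (h : ↥H) (l : ZMod p), Chi p a (h : G) l → (χ h : ZMod p) = l :=
    fun h l hl => (hχ h).unique S hc hao hl
  have hχcore : ∀ h : ↥H, (h : G) ∈ core p H → χ h = 1 := fun h hh => by
    refine Units.ext (hχu h 1 ?_)
    rw [chi_iff S hc hH ha hao h.2, qc_eq_one.2 hh, pw_one]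
    group
  have hsc : ∀ {x : G} {e : ℕ}, orderOf x = s ^ e → (orderOf x).Coprime p := fun {x e} h => by
    rw [h]; exact ((Nat.coprime_primes hs.out hp.out).2 hsp).pow_left e
  set n := (Nat.card H).factorization s with hn
  intro hdvd
  -- it suffices to enlarge an s-subgroup
  have big : ∀ P : Subgroup G, IsPGroup s P → Nat.card P = s ^ n →
      ∃ T : Subgroup G, P < T ∧ IsPGroup s T ∧ T ≤ normalizer (P : Set G) := by
    intro P hP hPc
    obtain ⟨T, hT⟩ := hP.exists_le_sylow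
    have hne : P < (T : Subgroup G) := by
      refine lt_of_le_of_ne hT fun e => ?_
      have hc1 := T.card_eq_multiplicity
      rw [← e, hPc] at hc1
      have hfac : (Nat.card G).factorization s = n + H.index.factorization s := by
        rw [← H.card_mul_index, Nat.factorization_mul Nat.card_pos.ne' H.index_ne_zero_of_finite]
        rfl
      have := Nat.pow_right_injective hs.out.two_le hc1
      rw [hfac] at this
      have := hs.out.factorization_pos_of_dvd H.index_ne_zero_of_finite hdvd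
      omega
    exact ⟨(T : Subgroup G) ⊓ normalizer (P : Set G), Grp.lt_inf_normalizer T.isPGroup'.isNilpotent hne,
      T.isPGroup'.to_le inf_le_left, inf_le_right⟩
  have contra : ∀ (K T P : Subgroup G), Moving p s a K → IsPGroup s T → T ≤ K → P < T →
      Nat.card P = s ^ n → False := by
    intro K T P hK hT hTK hPT hPc
    have h1 := (sCard_le hT hTK).trans (Nat.pow_le_pow_right hs.out.pos (hmax K hK))
    have h2 : Nat.card P < Nat.card T := lt_of_le_of_ne (card_le_of_le hPT.le) fun e =>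
      hPT.ne (eq_of_le_of_card_ge hPT.le e.ge)
    omega
  set C := Cfsg.pPrimeCore p ↥H with hC
  by_cases hscore : s ∣ Nat.card C
  · -- the core meets a Sylow `s`-subgroup
    obtain ⟨Q⟩ : Nonempty (Sylow s ↥C) := inferInstance
    set Q' := (Q : Subgroup ↥C).map C.subtype with hQ'
    obtain ⟨PH, hQP⟩ := (Q.isPGroup'.map C.subtype : IsPGroup s Q').exists_le_sylow
    set P := (PH : Subgroup ↥H).map H.subtype with hP
    have hPp : IsPGroup s P := PH.isPGroup'.map _
    have hPc : Nat.card P = s ^ n := by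
      rw [hP, card_map_of_injective H.subtype_injective, PH.card_eq_multiplicity]
    obtain ⟨T, hPT, hT, hTN⟩ := big P hPp hPc
    set X : Subgroup G := closure {y : G | y ∈ P ∧ y ∈ core p H ∧ y ^ s = 1} with hX
    have hinv : ∀ g ∈ normalizer (P : Set G), ∀ y : G, y ∈ P → y ∈ core p H → y ^ s = 1 →
        g * y * g⁻¹ ∈ core p H := by
      intro g hg y hyP hyC hys
      have hy' : g * y * g⁻¹ ∈ P := (mem_normalizer_iff.1 hg y).1 hyP
      have hy'H : g * y * g⁻¹ ∈ H := map_subtype_le _ hy'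
      have hy's : (g * y * g⁻¹) ^ s = 1 := by rw [conj_pow, hys]; group
      by_contra hnot
      have hne : χ ⟨_, hy'H⟩ ≠ 1 := fun e => hnot (by
        refine mem_core_of_chi_one S hc hH ha hao hy'H ?_ ?_
        · exact Nat.Coprime.coprime_dvd_left (orderOf_dvd_of_pow_eq_one hy's)
            ((Nat.coprime_primes hs.out hp.out).2 hsp)
        · have h1 := hχ ⟨_, hy'H⟩
          rw [e, Units.val_one] at h1
          exact h1)
      obtain ⟨z, hzo, hz⟩ := exists_line_of_chi S hc hH ha hao χ hχ hs.out (y := ⟨_, hy'H⟩) hy's hne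
      have hy1 : χ ⟨y, core_le _ hyC⟩ = 1 := hχcore _ hyC
      have h2 := (hχ ⟨y, core_le _ hyC⟩).eq_of_line S hc hao (z := g⁻¹ * z * g)
        (l := (χ ⟨_, hy'H⟩ : ZMod p))
        (by rw [show g⁻¹ * z * g = MulAut.conj g⁻¹ z by simp [MulAut.conj_apply],
          MulEquiv.orderOf_eq, hzo])
        (by
          show y⁻¹ * (g⁻¹ * z * g) * y = _
          rw [← conj_pw, ← hz]
          group)
      rw [hy1, Units.val_one] at h2
      exact hne (Units.ext h2.symm)
    have hNX : ∀ g : G, g ∈ normalizer (P : Set G) → g ∈ normalizer (X : Set G) := by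
      have key : ∀ g ∈ normalizer (P : Set G), ∀ u ∈ X, g * u * g⁻¹ ∈ X := by
        intro g hg u hu
        induction hu using Subgroup.closure_induction with
        | mem y hy => exact Subgroup.subset_closure ⟨(mem_normalizer_iff.1 hg y).1 hy.1,
            hinv g hg y hy.1 hy.2.1 hy.2.2, by rw [conj_pow, hy.2.2]; group⟩
        | one => simp
        | mul u v _ _ hu hv =>
          rw [show g * (u * v) * g⁻¹ = g * u * g⁻¹ * (g * v * g⁻¹) by group]
          exact mul_mem hu hv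
        | inv u _ hu =>
          rw [show g * u⁻¹ * g⁻¹ = (g * u * g⁻¹)⁻¹ by group]
          exact inv_mem hu
      exact fun g hg => mem_normalizer_iff.2 fun u => ⟨key g hg u, fun h => by
        have := key g⁻¹ (inv_mem hg) _ h
        simpa [mul_assoc] using this⟩
    have hXne : X ≠ ⊥ := by
      obtain ⟨c, hco⟩ := exists_prime_orderOf_dvd_card' (G := ↥C) s hscore
      obtain ⟨d, hd⟩ := (IsPGroup.of_card (n := 1) (by rw [Nat.card_zpowers, hco, pow_one]) :
        IsPGroup s (zpowers c)).exists_le_sylow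
      obtain ⟨u, hu⟩ := MulAction.exists_smul_eq ↥C d Q
      have hc' : u * c * u⁻¹ ∈ (Q : Subgroup ↥C) := by
        rw [← hu, Sylow.coe_subgroup_smul]
        exact smul_mem_pointwise_smul c (MulAut.conj u) _ (hd (mem_zpowers c))
      intro hbot
      have hmem : (((u * c * u⁻¹ : ↥C) : ↥H) : G) ∈ X := Subgroup.subset_closure
        ⟨⟨_, hQP ⟨_, hc', rfl⟩, rfl⟩, ⟨_, (u * c * u⁻¹).2, rfl⟩, by
          have h1 : (u * c * u⁻¹) ^ s = 1 := by rw [conj_pow, ← hco, pow_orderOf_eq_one]; group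
          exact congrArg (fun w : ↥C => ((w : ↥H) : G)) h1⟩
      rw [hbot, mem_bot] at hmem
      have h2 : u * c * u⁻¹ = 1 := Subtype.ext (Subtype.ext hmem)
      rw [conj_eq_one_iff] at h2
      rw [h2, orderOf_one] at hco
      exact hs.out.ne_one hco.symm
    have hXp : IsPGroup s X := hPp.to_le ((closure_le _).2 fun y hy => hy.1)
    have hXtop : normalizer (X : Set G) ≠ ⊤ := fun e => by
      haveI := S.simple
      rcases (normalizer_eq_top_iff.1 e).eq_bot_or_eq_top with b | b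
      · exact hXne b
      · haveI := hXp.isNilpotent
        exact S.notSolvable (Group.isSolvable_of_surjective (G := ↥X) (f := X.subtype)
          fun g => ⟨⟨g, b.ge (mem_top g)⟩, rfl⟩)
    -- a conjugate of `a` normalises `X`
    have hNQ : ∀ g : ↥H, g ∈ normalizer (Q' : Set ↥H) → (g : G) ∈ normalizer (X : Set G) := by
      have hgen : ∀ y : G, y ∈ P → y ∈ core p H → ∃ w ∈ Q', (w : G) = y := by
        rintro _ ⟨w, hw, rfl⟩ ⟨v, hv, hvw⟩
        obtain rfl : v = w := Subtype.ext hvw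
        have hmax' : (PH : Subgroup ↥H).subgroupOf C = Q :=
          Q.is_maximal' (PH.isPGroup'.comap_subtype) fun q hq => hQP ⟨q, hq, rfl⟩
        exact ⟨v, ⟨⟨v, hv⟩, hmax'.le hw, rfl⟩, rfl⟩
      have key : ∀ g : ↥H, g ∈ normalizer (Q' : Set ↥H) → ∀ u ∈ X, (g : G) * u * (g : G)⁻¹ ∈ X := by
        intro g hg u hu
        induction hu using Subgroup.closure_induction with
        | mem y hy =>
          obtain ⟨w, hw, rfl⟩ := hgen y hy.1 hy.2.1
          have hgw := (mem_normalizer_iff.1 hg w).1 hw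
          exact Subgroup.subset_closure ⟨⟨_, hQP hgw, rfl⟩, conj_mem_core g.2 hy.2.1,
            by rw [conj_pow, hy.2.2]; group⟩
        | one => simp
        | mul u v _ _ hu hv =>
          rw [show (g : G) * (u * v) * (g : G)⁻¹ = g * u * (g : G)⁻¹ * (g * v * (g : G)⁻¹) by group]
          exact mul_mem hu hv
        | inv u _ hu =>
          rw [show (g : G) * u⁻¹ * (g : G)⁻¹ = ((g : G) * u * (g : G)⁻¹)⁻¹ by group]
          exact inv_mem hu
      exact fun g hg => mem_normalizer_iff.2 fun u => ⟨key g hg u, fun h => by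
        have := key g⁻¹ (inv_mem hg) _ h
        simpa [mul_assoc] using this⟩
    have hpN : p ∣ Nat.card (normalizer (Q' : Set ↥H)) := by
      have hsup : normalizer (Q' : Set ↥H) ⊔ C = ⊤ := Sylow.normalizer_sup_eq_top Q
      have hq : (normalizer (Q' : Set ↥H)).map (qc p H) = ⊤ := by
        have h0 : C.map (qc p H) = ⊥ := by
          rw [Subgroup.map_eq_bot_iff, QuotientGroup.ker_mk']
        have h1 := congrArg (fun K : Subgroup ↥H => K.map (qc p H)) hsup
        simp only [Subgroup.map_sup, h0, sup_bot_eq,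
          Subgroup.map_top_of_surjective _ (QuotientGroup.mk'_surjective _)] at h1
        exact h1
      have h2 := card_map_dvd (normalizer (Q' : Set ↥H)) (qc p H)
      rw [hq, card_top] at h2
      have h3 := orderOf_dvd_natCard (qc p H ⟨a, ha⟩)
      rw [orderOf_qc (u := ⟨a, ha⟩) hao] at h3
      exact h3.trans h2
    obtain ⟨a', ha'o⟩ := exists_prime_orderOf_dvd_card' (G := normalizer (Q' : Set ↥H)) p hpN
    have ha'X : ((a' : ↥H) : G) ∈ normalizer (X : Set G) := hNQ _ a'.2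
    obtain ⟨r, hr, i, hi, hre⟩ := exists_rel S hc hH ha hao (a' : ↥H).2
      (by rw [Subgroup.orderOf_coe, Subgroup.orderOf_coe, ha'o])
    set K := (normalizer (X : Set G)).map (MulAut.conj r).toMonoidHom with hK
    have hmemK : ∀ {u : G}, u ∈ normalizer (X : Set G) → r * u * r⁻¹ ∈ K := fun hu => ⟨_, hu, rfl⟩
    have haK : a ∈ K := by
      have h1 := hmemK ha'X
      rw [hre, show r * (r⁻¹ * pw a i * r) * r⁻¹ = pw a i by group] at h1
      have h2 : zpowers (pw a i) = zpowers a := by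
        refine eq_of_le_of_card_ge (zpowers_le.2 (pw_mem (mem_zpowers a) i)) ?_
        rw [Nat.card_zpowers, Nat.card_zpowers, hao, orderOf_pw hao hi]
      exact (zpowers_le.2 h1) (h2.ge (mem_zpowers a))
    have hKtop : K ≠ ⊤ := fun e => hXtop (Subgroup.map_injective (MulAut.conj r).injective
      (e.trans (Subgroup.map_top_of_surjective _ (MulAut.conj r).surjective).symm))
    obtain ⟨hh, hhP⟩ : ∃ g : ↥H, g * ⟨x₀, hx₀⟩ * g⁻¹ ∈ (PH : Subgroup ↥H) := by
      obtain ⟨d, hd⟩ := (IsPGroup.of_card (n := e₀) (by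
        rw [Nat.card_zpowers, orderOf_mk, hx₀o]) :
        IsPGroup s (zpowers (⟨x₀, hx₀⟩ : ↥H))).exists_le_sylow
      obtain ⟨u, hu⟩ := MulAction.exists_smul_eq ↥H d PH
      refine ⟨u, ?_⟩
      rw [← hu, Sylow.coe_subgroup_smul]
      exact smul_mem_pointwise_smul _ (MulAut.conj u) _ (hd (mem_zpowers _))
    let rH : ↥H := ⟨r, core_le _ hr⟩
    have hmov : Moving p s a K := by
      refine ⟨hKtop, haK, ((rH * (hh * ⟨x₀, hx₀⟩ * hh⁻¹) * rH⁻¹ : ↥H) : G),
        hmemK (hNX _ (le_normalizer ⟨_, hhP, rfl⟩)), e₀, ?_, l₀, hl₀, ?_⟩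
      · rw [Subgroup.orderOf_coe, ← MulAut.conj_apply, MulEquiv.orderOf_eq, ← MulAut.conj_apply,
          MulEquiv.orderOf_eq, orderOf_mk, hx₀o]
      · have hcc : χ (rH * (hh * ⟨x₀, hx₀⟩ * hh⁻¹) * rH⁻¹) = χ ⟨x₀, hx₀⟩ := by
          simp only [map_mul, map_inv]
          rw [mul_inv_cancel_comm, mul_inv_cancel_comm]
        rw [← hχu ⟨x₀, hx₀⟩ l₀ hchi₀, ← hcc]
        exact hχ _
    refine contra K (T.map (MulAut.conj r).toMonoidHom) (P.map (MulAut.conj r).toMonoidHom) hmov
      (hT.map _) (map_mono fun t ht => hNX t (hTN ht)) ?_ ?_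
    · refine lt_of_le_of_ne (map_mono hPT.le) fun e => ?_
      exact hPT.ne (Subgroup.map_injective (MulAut.conj r).injective e)
    · rw [← hPc]; exact card_map_of_injective (MulAut.conj r).injective
  · -- `P` may be taken normalising the line
    set N := (normalizer (zpowers a : Set G)).subgroupOf H with hN
    have hNtop : N.map (qc p H) = ⊤ := by
      refine eq_top_iff.2 fun q _ => ?_
      obtain ⟨h, rfl⟩ := QuotientGroup.mk'_surjective C q
      obtain ⟨r, hr, i, hi⟩ := exists_core_mul_normalizer S hc hH ha hao h.2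
      refine ⟨h * ⟨r, core_le _ hr⟩, ?_, by
        rw [map_mul, (qc_eq_one (u := ⟨r, core_le _ hr⟩)).2 hr, mul_one]⟩
      have hi0 : i ≠ 0 := fun e => by
        rw [e, pw_zero, mul_assoc, inv_mul_eq_one, eq_comm, mul_eq_right] at hi
        rw [hi, orderOf_one] at hao
        exact hp.out.ne_one hao.symm
      have hmap : (zpowers a).map (MulAut.conj ((h : G) * r)⁻¹).toMonoidHom = zpowers a := by
        rw [MonoidHom.map_zpowers]
        refine eq_of_le_of_card_ge (zpowers_le.2 ?_) ?_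
        · simp only [MulEquiv.coe_toMonoidHom, MulAut.conj_apply, inv_inv]
          rw [hi]; exact pw_mem (mem_zpowers a) i
        · rw [Nat.card_zpowers, Nat.card_zpowers, MulEquiv.coe_toMonoidHom, MulEquiv.orderOf_eq]
      have : ((h : G) * r)⁻¹ ∈ normalizer (zpowers a : Set G) :=
        Invol.mem_normalizer_of_map_eq hmap
      exact inv_mem_iff.1 this
    obtain ⟨PN⟩ : Nonempty (Sylow s ↥N) := inferInstance
    set PH := (PN : Subgroup ↥N).map N.subtype with hPH
    set P := PH.map H.subtype with hP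
    have hPp : IsPGroup s P := (PN.isPGroup'.map _).map _
    have hPc : Nat.card P = s ^ n := by
      refine le_antisymm (sCard_le hPp (map_subtype_le _)) ?_
      rw [hP, card_map_of_injective H.subtype_injective, hPH,
        card_map_of_injective N.subtype_injective, PN.card_eq_multiplicity]
      refine Nat.pow_le_pow_right hs.out.pos ?_
      have h1 := card_map_dvd N (qc p H)
      rw [hNtop, card_top] at h1
      have h2 := Subgroup.card_eq_card_quotient_mul_card_subgroup C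
      rw [hn, show Nat.card ↥H = _ from h2,
        Nat.factorization_mul Nat.card_pos.ne' Nat.card_pos.ne', Finsupp.add_apply,
        Nat.factorization_eq_zero_of_not_dvd hscore, add_zero]
      exact (Nat.factorization_le_iff_dvd Nat.card_pos.ne' Nat.card_pos.ne').2 h1 s
    have hP1 : P ≠ ⊥ := fun e => by
      rw [e, card_bot] at hPc
      have hn0 : n = 0 := by
        rcases Nat.eq_zero_or_pos n with h | h
        · exact h
        · exact absurd hPc.symm (Nat.one_lt_pow h.ne' hs.out.one_lt).ne'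
      have hd : s ^ e₀ ∣ Nat.card ↥H := by
        rw [← hx₀o, ← Subgroup.orderOf_mk x₀ hx₀]; exact orderOf_dvd_natCard _
      have := (hs.out.pow_dvd_iff_le_factorization Nat.card_pos.ne').1 hd
      rw [← hn, hn0, Nat.le_zero] at this
      rw [this, pow_zero, orderOf_eq_one_iff] at hx₀o
      refine hl₀ (hchi₀.eq_of_line S hc hao hao ?_)
      rw [hx₀o, pw_one]; group
    let χP : ↥P →* (ZMod p)ˣ := χ.comp (Subgroup.inclusion (map_subtype_le PH : P ≤ H))
    have hinj : Function.Injective χP := (injective_iff_map_eq_one χP).2 fun y hy => by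
      obtain ⟨k, hk⟩ := IsPGroup.iff_orderOf.1 hPp y
      have hyo : orderOf (y : G) = s ^ k := by rw [Subgroup.orderOf_coe, hk]
      have hyH : (y : G) ∈ H := map_subtype_le PH y.2
      have hyC := mem_core_of_chi_one S hc hH ha hao hyH (hsc hyo) (by
        have h1 := hχ ⟨y, hyH⟩
        rwa [show χ ⟨y, hyH⟩ = 1 from hy, Units.val_one] at h1)
      rcases k with _ | k
      · exact Subtype.ext (orderOf_eq_one_iff.1 (by rw [hyo, pow_zero]))
      · exfalso
        refine hscore (dvd_trans (dvd_pow_self s (Nat.succ_ne_zero k)) ?_)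
        obtain ⟨w, hw, hwy⟩ := hyC
        rw [← hyo, ← hwy, show H.subtype w = (w : G) from rfl, Subgroup.orderOf_coe,
          ← Subgroup.orderOf_mk w hw]
        exact orderOf_dvd_natCard _
    haveI : IsCyclic ↥P := isCyclic_of_injective χP hinj
    obtain ⟨x, hxgen⟩ := IsCyclic.exists_generator (α := ↥P)
    obtain ⟨T, hPT, hT, hTN⟩ := big P hPp hPc
    obtain ⟨g, hgT, hgP⟩ := SetLike.exists_of_lt hPT
    set K := closure ({(x : G), g * a} : Set G) with hK
    have hxK : (x : G) ∈ K := Subgroup.subset_closure (by simp)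
    have hgaK : g * a ∈ K := Subgroup.subset_closure (by simp)
    have hPK : P ≤ K := fun y hy => by
      obtain ⟨i, hi⟩ := mem_zpowers_iff.1 (hxgen ⟨y, hy⟩)
      have h1 : (x : G) ^ i = y := congrArg Subtype.val hi
      exact h1 ▸ zpow_mem hxK i
    set x' := g⁻¹ * (x : G) * g with hx'
    have hx'P : x' ∈ P := (mem_normalizer_iff''.1 (hTN hgT) x).1 x.2
    have hx1 : (x : G) ≠ 1 := fun e => hP1 ((eq_bot_iff_forall P).2 fun y hy => by
      obtain ⟨i, hi⟩ := mem_zpowers_iff.1 (hxgen ⟨y, hy⟩)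
      rw [← show (x : G) ^ i = y from congrArg Subtype.val hi, e, one_zpow])
    obtain ⟨w, hw, hwx⟩ := hx'P
    obtain ⟨v, hv, hvw⟩ := hw
    have hwN : (w : G) ∈ normalizer (zpowers a : Set G) := by rw [← hvw]; exact v.2
    have hwx' : (w : G) = x' := hwx
    rw [hwx'] at hwN
    have hx'P : x' ∈ P := ⟨w, ⟨v, hv, hvw⟩, hwx⟩
    obtain ⟨c, hce⟩ := exists_pw_of_mem_zpowers hao
      ((mem_normalizer_iff''.1 hwN a).1 (mem_zpowers a))
    have hc1 : c ≠ 1 := fun e => by
      have h1 : χP ⟨x', hx'P⟩ = 1 := Units.ext (hχu ⟨x', map_subtype_le PH hx'P⟩ 1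
        ⟨H, hH, ha, map_subtype_le PH hx'P, by
          show x'⁻¹ * a * x' * (pw a (1 : ZMod p))⁻¹ ∈ core p H
          rw [hce, e, mul_inv_cancel]; exact one_mem _⟩)
      have h2 : x' = 1 := congrArg Subtype.val (hinj (h1.trans (map_one χP).symm))
      exact hx1 (by
        calc (x : G) = g * x' * g⁻¹ := by rw [hx']; group
          _ = 1 := by rw [h2]; group)
    have haK : a ∈ K := by
      have h1 : pw a (1 - c) ∈ K := by
        have hk : x'⁻¹ * (a⁻¹ * x' * a) ∈ K := mul_mem (inv_mem (hPK hx'P)) (by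
          rw [hx', show a⁻¹ * (g⁻¹ * (x : G) * g) * a = (g * a)⁻¹ * x * (g * a) by group]
          exact mul_mem (mul_mem (inv_mem hgaK) hxK) hgaK)
        have he : x'⁻¹ * (a⁻¹ * x' * a) = (pw a c)⁻¹ * a := by rw [← hce]; group
        rw [he] at hk
        have e2 : pw a (1 - c) = (pw a c)⁻¹ * a := by
          rw [eq_inv_mul_iff_mul_eq, ← pw_add (pow_prime_of_orderOf hao),
            show c + (1 - c) = 1 by ring, pw_one]
        rwa [e2]
      have h2 : zpowers (pw a (1 - c)) = zpowers a := by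
        refine eq_of_le_of_card_ge (zpowers_le.2 (pw_mem (mem_zpowers a) _)) ?_
        rw [Nat.card_zpowers, Nat.card_zpowers, hao, orderOf_pw hao (sub_ne_zero.2 (Ne.symm hc1))]
      exact (zpowers_le.2 h1) (h2.ge (mem_zpowers a))
    have hgK : g ∈ K := by simpa using mul_mem hgaK (inv_mem haK)
    have hmov : Moving p s a K := by
      obtain ⟨k, hk⟩ := IsPGroup.iff_orderOf.1 hPp x
      refine ⟨S.pair _ _, haK, x, hxK, k, by rw [Subgroup.orderOf_coe, hk],
        (χ ⟨x, map_subtype_le PH x.2⟩ : ZMod p), fun e => ?_, hχ ⟨x, map_subtype_le PH x.2⟩⟩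
      have h1 : χP x = 1 := Units.ext e
      exact hx1 (congrArg Subtype.val (hinj (h1.trans (map_one χP).symm)))
    have hle : P ⊔ zpowers g ≤ T := sup_le hPT.le (zpowers_le.2 hgT)
    exact contra K (P ⊔ zpowers g) P hmov (hT.to_le hle) (sup_le hPK (zpowers_le.2 hgK))
      (lt_of_le_of_ne le_sup_left fun e => hgP (e.ge (mem_sup_right (mem_zpowers g)))) hPc

/-- (cyclic case) No prime with a cyclic Sylow subgroup. -/
theorem Setting.false_of_cyclic (S : Setting G) (hpG : p ∣ Nat.card G) (P : Sylow p G)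
    [IsCyclic (P : Subgroup G)] : False := by
  classical
  have hc : CyclicP p G := cyclicP_of_sylow P
  obtain ⟨a, hao⟩ := exists_prime_orderOf_dvd_card' (G := G) p hpG
  obtain ⟨n₀, l₁, hl₁, hn₀⟩ := exists_auto S hc hao
  obtain ⟨s, hs, hsl⟩ := Nat.exists_prime_and_dvd (mt orderOf_eq_one_iff.1 hl₁)
  haveI : Fact s.Prime := ⟨hs⟩
  have hsp : s ≠ p := fun e => by
    have h1 : orderOf l₁ ≤ p - 1 := Nat.le_of_dvd (by have := hp.out.two_le; omega)
      (ZMod.card_units p ▸ (orderOf_dvd_card : orderOf l₁ ∣ Fintype.card (ZMod p)ˣ))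
    have h2 : s ≤ orderOf l₁ := Nat.le_of_dvd (orderOf_pos _) hsl
    have := hp.out.two_le
    omega
  have hconj : ∀ {n : G} {l : ZMod p}, n⁻¹ * a * n = pw a l → ∀ k : ℕ,
      (n ^ k)⁻¹ * a * n ^ k = pw a (l ^ k) := by
    intro n l h k
    induction k with
    | zero => simp [pw_one]
    | succ k ih =>
      rw [pow_succ, show (n ^ k * n)⁻¹ * a * (n ^ k * n) = n⁻¹ * ((n ^ k)⁻¹ * a * n ^ k) * n by group,
        ih, conj_pw, h, pw_pw (pow_prime_of_orderOf hao), pow_succ, mul_comm]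
  -- a starting subgroup
  obtain ⟨e, m, hm, hem⟩ : ∃ e m, ¬ s ∣ m ∧ orderOf n₀ = s ^ e * m := by
    obtain ⟨e, m, hm, h⟩ := Nat.exists_eq_pow_mul_and_not_dvd (orderOf_pos n₀).ne' s hs.ne_one
    exact ⟨e, m, hm, h⟩
  have hm0 : m ≠ 0 := fun h => hm (h ▸ dvd_zero s)
  have hx₀o : orderOf (n₀ ^ m) = s ^ e := by
    rw [orderOf_pow' _ hm0, hem, Nat.gcd_eq_right (dvd_mul_left m _),
      Nat.mul_div_cancel _ (Nat.pos_of_ne_zero hm0)]
  have hstart : Moving p s a (closure ({a, n₀ ^ m} : Set G)) := by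
    refine ⟨S.pair _ _, Subgroup.subset_closure (by simp), n₀ ^ m, Subgroup.subset_closure (by simp),
      e, hx₀o, (l₁ : ZMod p) ^ m, fun h => ?_, ⟨_, S.pair a (n₀ ^ m), Subgroup.subset_closure (by simp),
        Subgroup.subset_closure (by simp), ?_⟩⟩
    · rw [← Units.val_pow_eq_pow_val, Units.val_eq_one] at h
      exact hm (hsl.trans (orderOf_dvd_of_pow_eq_one h))
    · rw [hconj hn₀ m, mul_inv_cancel]; exact one_mem _
  obtain ⟨H, hHM, hmax⟩ := Set.exists_max_image {H : Subgroup G | Moving p s a H}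
    (fun H => (Nat.card H).factorization s) (Set.toFinite _) ⟨_, hstart⟩
  have hidx := not_dvd_index_of_moving S hc hsp hao hHM hmax
  obtain ⟨hH, ha, x, hxH, k, hxo, l, hl, hchi⟩ := hHM
  obtain ⟨χ, hχ⟩ := exists_chiHom S hc hH ha hao
  have hχl : (χ ⟨x, hxH⟩ : ZMod p) = l := (hχ ⟨x, hxH⟩).unique S hc hao hchi
  -- an element normalising `⟨a⟩` with the same eigenvalue
  obtain ⟨r, hr, i, hi⟩ := exists_core_mul_normalizer S hc hH ha hao hxH
  set n := x * r with hn
  have hnH : n ∈ H := mul_mem hxH (core_le _ hr)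
  have hil : i = l := by
    refine Chi.unique S hc hao (y := n) ⟨H, hH, ha, hnH, by rw [hi, mul_inv_cancel]; exact one_mem _⟩ ?_
    have := (chi_iff S hc hH ha hao hxH l).1 hchi
    rw [chi_iff S hc hH ha hao hnH,
      show (⟨n, hnH⟩ : ↥H) = ⟨x, hxH⟩ * ⟨r, core_le _ hr⟩ from rfl, map_mul,
      (qc_eq_one (u := ⟨r, core_le _ hr⟩)).2 hr, mul_one]
    exact this
  rw [hil] at hi
  -- transfer
  haveI : Fintype (Quotient (MulAction.orbitRel (zpowers n) (G ⧸ H))) := Fintype.ofFinite _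
  have htr := MonoidHom.transfer_eq_prod_quotient_orbitRel_zpowers_quot χ n
  rw [S.hom_trivial] at htr
  have hterm : ∀ q : Quotient (MulAction.orbitRel (zpowers n) (G ⧸ H)),
      χ ⟨q.out.out⁻¹ * n ^ Function.minimalPeriod (n • ·) q.out * q.out.out,
        QuotientGroup.out_conj_pow_minimalPeriod_mem H n q.out⟩ =
      χ ⟨x, hxH⟩ ^ Function.minimalPeriod (n • ·) q.out := by
    intro q
    set g₀ := q.out.out
    set per := Function.minimalPeriod (n • ·) q.out
    refine Units.ext ?_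
    rw [Units.val_pow_eq_pow_val, hχl]
    refine (hχ _).eq_of_line S hc hao (z := g₀⁻¹ * a * g₀) ?_ ?_
    · rw [show g₀⁻¹ * a * g₀ = MulAut.conj g₀⁻¹ a by simp [MulAut.conj_apply], MulEquiv.orderOf_eq, hao]
    · show (g₀⁻¹ * n ^ per * g₀)⁻¹ * (g₀⁻¹ * a * g₀) * (g₀⁻¹ * n ^ per * g₀) = _
      rw [← conj_pw, ← hconj hi per]
      group
  rw [Finset.prod_congr rfl fun q _ => hterm q, Finset.prod_pow_eq_pow_sum,
    ← Subgroup.index_eq_sum_minimalPeriod H n] at htr
  have h1 : orderOf (χ ⟨x, hxH⟩) ∣ s ^ k :=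
    (orderOf_map_dvd χ _).trans (by rw [orderOf_mk, hxo])
  have h2 : orderOf (χ ⟨x, hxH⟩) ∣ H.index := orderOf_dvd_of_pow_eq_one htr.symm
  have h3 := Nat.eq_one_of_dvd_coprimes ((hs.coprime_iff_not_dvd.2 hidx).pow_left k) h1 h2
  rw [orderOf_eq_one_iff] at h3
  rw [h3, Units.val_one] at hχl
  exact hl hχl.symm

end Global

end Cfsg.Agent.Grp.TwoGen
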