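import Cfsg.Agent.Lib.Grp.TwoGen.Congruence
import Cfsg.Agent.Lib.Transfer.PStableFree
import Cfsg.Agent.Lib.Grp.QuadraticGroup
import Cfsg.Agent.Lib.Grp.PSolvable
import Cfsg.Agent.Lib.Fus.TransitivityOdd
import Cfsg.Agent.Lib.Invol.StableControl

/-!
Local facts for a prime `p ≥ 5` in a smallest counterexample to Flavell's theorem: stability, control of
fusion by the normalizer of `Z(J(S))`, and the weakly closed elementary abelian subgroups.
-/

set_option autoImplicit false

namespace Cfsg.Agent.Grp.TwoGen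

open Subgroup
open scoped commutatorElement

set_option linter.style.haveILetI false

universe u

variable {G : Type u} [Group G] [Finite G] {p : ℕ} [hp : Fact p.Prime]

theorem not_involves_qd_of_solvable (h5 : 5 ≤ p) {X : Type u} [Group X] [Finite X]
    (hX : Group.IsSolvable X) : ¬ Cfsg.Involves ↥(Cfsg.qd p) X :=
  Transfer.qdFree_of_isPSolvable h5 (Fus.TransOdd.isPSolvable_of_solvable hp.out _ X rfl hX)

theorem Setting.qdFree (S : Setting G) (h5 : 5 ≤ p) : ¬ Cfsg.Involves ↥(Cfsg.qd p) G := by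
  intro h
  obtain ⟨H, f, hf⟩ := Transfer.exists_sl_section_of_qd h
  by_cases hH : H = ⊤
  · subst hH
    haveI := S.simple
    haveI : IsSimpleGroup (⊤ : Subgroup G) := IsSimpleGroup.isSimpleGroup_of_surjective
      (Subgroup.topEquiv (G := G)).symm.toMonoidHom (Subgroup.topEquiv (G := G)).symm.surjective
    let neg : Matrix.SpecialLinearGroup (Fin 2) (ZMod p) := ⟨-1, by simp [Matrix.det_neg]⟩
    have h2 : (1 : ZMod p) ≠ -1 := by
      intro e
      have : ((2 : ℕ) : ZMod p) = 0 := by push_cast; linear_combination e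
      exact absurd (Nat.le_of_dvd (by norm_num) ((ZMod.natCast_eq_zero_iff 2 p).mp this)) (by omega)
    rcases (inferInstance : f.ker.Normal).eq_bot_or_eq_top with hb | ht
    · have hinj : Function.Injective f := (MonoidHom.ker_eq_bot_iff f).mp hb
      obtain ⟨z, hz⟩ := hf neg
      have hzc : z ∈ center (⊤ : Subgroup G) := mem_center_iff.mpr fun g => hinj (Subtype.ext (by
        rw [map_mul, map_mul, hz, Matrix.SpecialLinearGroup.coe_mul, Matrix.SpecialLinearGroup.coe_mul]
        exact (mul_neg_one _).trans (neg_one_mul _).symm))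
      rcases (inferInstance : (center (⊤ : Subgroup G)).Normal).eq_bot_or_eq_top with hb' | ht'
      · rw [hb', mem_bot] at hzc
        refine h2 ?_
        have := congrArg (fun m : Matrix.SpecialLinearGroup (Fin 2) (ZMod p) => m.1 0 0) hz
        simpa [hzc, neg] using this
      · exact S.notSolvable (Group.isSolvable_of_comm fun a b => congrArg Subtype.val
          (mem_center_iff.mp (ht' ▸ mem_top (⟨b, mem_top b⟩ : (⊤ : Subgroup G))) ⟨a, mem_top a⟩))
    · obtain ⟨z, hz⟩ := hf neg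
      refine h2 ?_
      rw [MonoidHom.mem_ker.mp (ht ▸ mem_top z)] at hz
      simpa [neg] using congrArg (fun m : Matrix.SpecialLinearGroup (Fin 2) (ZMod p) => m.1 0 0) hz
  · haveI := S.proper H hH
    have h3 := Grp.Quad.three_of_isPSolvable (show p ≠ 2 by omega)
      (Fus.TransOdd.isPSolvable_of_solvable hp.out _ H rfl (S.proper H hH)) (H := ⊤)
      (f.comp (Subgroup.topEquiv (G := H)).toMonoidHom)
      (hf.comp (Subgroup.topEquiv (G := H)).surjective)
    omega

/-- An element acting quadratically on one Sylow subgroup of `H` containing it lies in `O_{p',p}`. -/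
theorem Setting.mem_upper_of_quadratic_sylow (S : Setting G) (h5 : 5 ≤ p) {H : Subgroup G} (hH : H ≠ ⊤)
    {x : G} (hxH : x ∈ H) (T : Sylow p H) (hxT : (⟨x, hxH⟩ : H) ∈ (T : Subgroup H))
    (hq : ∀ u ∈ (T : Subgroup H), ⁅⁅u, (⟨x, hxH⟩ : H)⁆, (⟨x, hxH⟩ : H)⁆ = 1) :
    x ∈ upper p H := by
  haveI := S.proper H hH
  haveI : (Cfsg.pPrimeCore p H).Normal := pPrimeCore_isNormal
  set K := H ⧸ Cfsg.pPrimeCore p H
  set π : H →* K := QuotientGroup.mk' _
  haveI : Group.IsSolvable K := Group.isSolvable_of_surjective (QuotientGroup.mk'_surjective (Cfsg.pPrimeCore p H))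
  set P := Cfsg.pCore p K
  haveI : P.Normal := pCore_isNormal
  set y : K := π ⟨x, hxH⟩
  have hTmap : P ≤ (T : Subgroup H).map π :=
    Grp.pCore_le_sylow (T.mapSurjective (QuotientGroup.mk'_surjective _))
  have hquad : ∀ u ∈ P, ⁅⁅u, y⁆, y⁆ = 1 := by
    intro u hu
    obtain ⟨v, hv, rfl⟩ := hTmap hu
    have h1 : ⁅⁅v, (⟨x, hxH⟩ : H)⁆, (⟨x, hxH⟩ : H)⁆ = 1 := hq v hv
    rw [← map_commutatorElement, ← map_commutatorElement, h1, map_one]
  have hPq : ⁅⁅P, zpowers y⁆, zpowers y⁆ = ⊥ := by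
    have hc : ⁅P, zpowers y⁆ ≤ centralizer ({y} : Set K) := by
      refine Subgroup.commutator_le.mpr fun u hu w hw => ?_
      obtain ⟨n, rfl⟩ := mem_zpowers_iff.mp hw
      induction n using Int.induction_on with
      | zero => simp
      | succ i ih =>
        rw [zpow_add_one, show ⁅u, y ^ (i : ℤ) * y⁆ = ⁅u, y ^ (i : ℤ)⁆ *
          (y ^ (i : ℤ) * ⁅u, y⁆ * (y ^ (i : ℤ))⁻¹) by simp only [commutatorElement_def]; group]
        refine mul_mem (ih (zpow_mem (mem_zpowers y) _)) ?_
        rw [mem_centralizer_singleton_iff]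
        have h2 := commutatorElement_eq_one_iff_mul_comm.mp (hquad u hu)
        have h3 : y ^ (i : ℤ) * ⁅u, y⁆ * (y ^ (i : ℤ))⁻¹ = ⁅u, y⁆ := by
          rw [← ((show Commute ⁅u, y⁆ y from h2).zpow_right _).eq]; group
        rw [h3]; exact h2
      | pred i ih =>
        rw [zpow_sub_one, show ⁅u, y ^ (-(i : ℤ)) * y⁻¹⁆ = ⁅u, y ^ (-(i : ℤ))⁆ *
          (y ^ (-(i : ℤ)) * (y⁻¹ * ⁅u, y⁆⁻¹ * y) * (y ^ (-(i : ℤ)))⁻¹) by
            simp only [commutatorElement_def]; group]
        refine mul_mem (ih (zpow_mem (mem_zpowers y) _)) ?_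
        rw [mem_centralizer_singleton_iff]
        have h2 : Commute ⁅u, y⁆⁻¹ y :=
          (show Commute ⁅u, y⁆ y from commutatorElement_eq_one_iff_mul_comm.mp (hquad u hu)).inv_left
        have h3 : y⁻¹ * ⁅u, y⁆⁻¹ * y = ⁅u, y⁆⁻¹ := by rw [mul_assoc, h2.eq]; group
        rw [h3, ← (h2.zpow_right _).eq, mul_inv_cancel_right]
        exact h2
    rw [Subgroup.commutator_eq_bot_iff_le_centralizer]
    intro w hw
    exact mem_centralizer_iff.mpr fun v hv => by
      obtain ⟨n, rfl⟩ := mem_zpowers_iff.mp hv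
      exact ((show Commute w y from mem_centralizer_singleton_iff.mp (hc hw)).zpow_right n).eq.symm
  have hyN : y ∈ normalizer (P : Set K) := by rw [Subgroup.normalizer_eq_top]; exact mem_top _
  have h1 := Grp.Quad.isNormalizerPStable_of_free (show p ≠ 2 by omega)
    (not_involves_qd_of_solvable h5 (inferInstance : Group.IsSolvable K)) P pCore_isPGroup y hyN hPq
  -- the centralizer of `P` is inside `P`
  have hC : centralizer (P : Set K) ≤ P :=
    Grp.centralizer_pCore_le_of_pSolvable (Fus.TransOdd.isPSolvable_of_solvable hp.out _ K rfl inferInstance)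
      (Grp.pPrimeCore_quotient_bot)
  set N := normalizer (P : Set K)
  set C := (centralizer (P : Set K)).subgroupOf N
  set M := ((Cfsg.pCore p (N ⧸ C)).comap (QuotientGroup.mk' C)).map N.subtype
  haveI : (Cfsg.pCore p (N ⧸ C)).Normal := pCore_isNormal
  have hM : M.Normal := by
    have hN : N = ⊤ := Subgroup.normalizer_eq_top_iff.mpr inferInstance
    exact Subgroup.Normal.map inferInstance _ fun k => ⟨⟨k, hN ▸ mem_top k⟩, rfl⟩
  have hMp : IsPGroup p M := by
    refine (IsPGroup.comap_of_ker_isPGroup pCore_isPGroup _ ?_).map _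
    rw [QuotientGroup.ker_mk']
    exact (pCore_isPGroup.to_le hC).comap_of_injective _ N.subtype_injective
  have : y ∈ P := le_pCore hM hMp ⟨⟨y, hyN⟩, h1, rfl⟩
  exact ⟨⟨x, hxH⟩, this, rfl⟩

/-- An element acting quadratically on every `p`-group around it lies in `O_{p',p}`. -/
theorem Setting.mem_upper_of_quadratic (S : Setting G) (h5 : 5 ≤ p) {H : Subgroup G} (hH : H ≠ ⊤)
    {x : G} (hxH : x ∈ H) (hxp : IsPGroup p (zpowers x))
    (hq : ∀ T : Subgroup G, IsPGroup p T → x ∈ T → ∀ u ∈ T, ⁅⁅u, x⁆, x⁆ = 1) :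
    x ∈ upper p H := by
  obtain ⟨T, hT⟩ := (hxp.comap_subtype (K := H)).exists_le_sylow
  have hxT : (⟨x, hxH⟩ : H) ∈ (T : Subgroup H) := hT (mem_zpowers x)
  refine S.mem_upper_of_quadratic_sylow h5 hH hxH T hxT fun v hv => H.subtype_injective ?_
  rw [map_one, map_commutatorElement, map_commutatorElement]
  exact hq _ (T.isPGroup'.map H.subtype) ⟨_, hxT, rfl⟩ v ⟨v, hv, rfl⟩

/-- A weakly closed elementary abelian subgroup, normal in a Sylow subgroup, meets the hypotheses of the
congruence theorem. -/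
theorem Setting.closed_of_weaklyClosed (S : Setting G) (h5 : 5 ≤ p) (P : Sylow p G) {A : Subgroup G}
    (hA : Cfsg.IsElementaryAbelian p A) (hr : p ^ 2 ≤ Nat.card A)
    (hwc : ∀ x ∈ A, ∀ g : G, g * x * g⁻¹ ∈ (P : Subgroup G) → g * x * g⁻¹ ∈ A)
    (hPN : (P : Subgroup G) ≤ normalizer (A : Set G)) : Closed p A := by
  have hcls : ∀ x ∈ Cls A, ∀ k : G, k * x * k⁻¹ ∈ (P : Subgroup G) → k * x * k⁻¹ ∈ A := by
    rintro x ⟨a, ha, -, g, rfl⟩ k hk
    have e : k * (g⁻¹ * a * g) * k⁻¹ = (k * g⁻¹) * a * (k * g⁻¹)⁻¹ := by group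
    rw [e] at hk ⊢
    exact hwc a ha _ hk
  have hmove : ∀ T : Subgroup G, IsPGroup p T → ∃ k : G, ∀ x ∈ T, k * x * k⁻¹ ∈ (P : Subgroup G) := by
    intro T hT
    obtain ⟨Q, hQ⟩ := hT.exists_le_sylow
    obtain ⟨k, rfl⟩ := MulAction.exists_smul_eq G P Q
    refine ⟨k⁻¹, fun x hx => ?_⟩
    have := hQ hx
    rw [Sylow.coe_subgroup_smul, Subgroup.mem_pointwise_smul_iff_inv_smul_mem] at this
    simpa [MulAut.smul_def] using this
  have hloc : ∀ H : Subgroup G, H ≠ ⊤ → ∀ x ∈ Cls A, x ∈ H → x ∈ upper p H := by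
    intro H hH x hx hxH
    have hxp : IsPGroup p (zpowers x) := by
      obtain ⟨a, ha, h1, g, rfl⟩ := hx
      refine IsPGroup.of_card (n := 1) ?_
      rw [Nat.card_zpowers, pow_one, show g⁻¹ * a * g = MulAut.conj g⁻¹ a by simp [MulAut.conj_apply],
        MulEquiv.orderOf_eq, orderOf_eq_prime (hA.2 a ha) h1]
    refine S.mem_upper_of_quadratic h5 hH hxH hxp fun T hT hxT u hu => ?_
    obtain ⟨k, hk⟩ := hmove T hT
    have h1 := hcls x hx k (hk x hxT)
    have h2 : ⁅k * u * k⁻¹, k * x * k⁻¹⁆ ∈ A := by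
      rw [commutatorElement_def]
      exact mul_mem (mem_conj_normalizer (hPN (hk u hu)) h1) (inv_mem h1)
    have h3 := commutatorElement_eq_one_iff_mul_comm.mpr (elemAb_comm hA _ h2 _ h1)
    refine (MulAut.conj k).injective ?_
    rw [map_one, map_commutatorElement, map_commutatorElement]
    simpa [MulAut.conj_apply] using h3
  have hmain : ∀ a ∈ A, a ≠ 1 → ∀ g : G, g⁻¹ * a * g ∈ A →
      ∃ n ∈ normalizer (A : Set G), ∃ t ∈ theta p (g⁻¹ * a * g), g = n * t := by
    intro a ha ha1 g hg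
    set e := g⁻¹ * a * g with he
    have he1 : e ≠ 1 := conj_ne_one ha1 g
    have hC := S.centralizer_singleton_ne_top he1
    set B := A.map (MulAut.conj g⁻¹).toMonoidHom
    have hAC : A ≤ centralizer ({e} : Set G) := fun x hx =>
      mem_centralizer_singleton_iff.mpr (elemAb_comm hA x hx e hg)
    have hBC : B ≤ centralizer ({e} : Set G) := by
      rintro _ ⟨x, hx, rfl⟩
      rw [mem_centralizer_singleton_iff]
      have := congrArg (MulAut.conj g⁻¹) (elemAb_comm hA x hx a ha)
      simpa [MulAut.conj_apply, he, mul_assoc] using this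
    have hAp := elemAb_isPGroup hA
    obtain ⟨t, ht, T, hT, hAT, hBT⟩ := exists_core_conj_le (A := A) (B := B)
      (fun x hx => by
        rcases eq_or_ne x 1 with rfl | h1
        · exact one_mem _
        · exact hloc _ hC x (mem_cls hx h1) (hAC hx))
      (fun y hy => by
        rcases eq_or_ne y 1 with rfl | h1
        · exact one_mem _
        obtain ⟨x, hx, rfl⟩ := hy
        have hx1 : x ≠ 1 := fun h => h1 (by simp [h])
        exact hloc _ hC _ ⟨x, hx, hx1, g, by simp [MulAut.conj_apply]⟩ (hBC ⟨x, hx, rfl⟩))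
      hAp (hAp.map _)
    obtain ⟨k, hk⟩ := hmove T hT
    have hkA : k ∈ normalizer (A : Set G) := by
      refine Subgroup.mem_normalizer_fintype fun x hx => ?_
      rcases eq_or_ne x 1 with rfl | h1
      · simp
      exact hcls x (mem_cls hx h1) k (hk x (hAT hx))
    have hn : k * t * g⁻¹ ∈ normalizer (A : Set G) := by
      refine Subgroup.mem_normalizer_fintype fun x hx => ?_
      rcases eq_or_ne x 1 with rfl | h1
      · simp
      have hy : t * (g⁻¹ * x * g) * t⁻¹ ∈ T := hBT _ ⟨x, hx, by simp [MulAut.conj_apply]⟩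
      have := hcls _ (conj_mem_cls' (conj_mem_cls (mem_cls hx h1) g) t) k (hk _ hy)
      rw [show k * t * g⁻¹ * x * (k * t * g⁻¹)⁻¹ = k * (t * (g⁻¹ * x * g) * t⁻¹) * k⁻¹ by group]
      exact this
    exact ⟨g * t⁻¹, by simpa [mul_assoc] using mul_mem (inv_mem hn) hkA, t, ht, by group⟩
  refine ⟨hA, hr, hloc, fun e he he1 x hx hpg => ?_, fun a ha ha1 g hg => ?_⟩
  · obtain ⟨k, hk⟩ := hmove _ hpg
    have he' : k * e * k⁻¹ ∈ A := hcls e (mem_cls he he1) k (hk e (Subgroup.subset_closure (by simp)))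
    have hx' : k * x * k⁻¹ ∈ A := hcls x hx k (hk x (Subgroup.subset_closure (by simp)))
    have hee : k⁻¹ * (k * e * k⁻¹) * k = e := by group
    obtain ⟨n, hn, t, ht, hk'⟩ := hmain _ he' (fun h => he1 (by rw [← hee, h]; group)) k (hee.symm ▸ he)
    refine ⟨t, hee ▸ ht, ?_⟩
    have ex : t * x * t⁻¹ = n⁻¹ * (k * x * k⁻¹) * n := by rw [hk']; group
    rw [ex]
    exact mem_conj_normalizer' hn hx'
  · obtain ⟨n, hn, t, ht, rfl⟩ := hmain a ha ha1 g hg
    exact mul_mem (Subgroup.mem_sup_left hn) (Subgroup.mem_sup_right ht)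

/-- An elementary abelian subgroup of a Sylow subgroup, invariant under the normalizer of `Z(J(S))`,
meets the hypotheses of the congruence theorem. -/
theorem Setting.closed_of_invariant (S : Setting G) (h5 : 5 ≤ p) (P : Sylow p G) {A : Subgroup G}
    (hA : Cfsg.IsElementaryAbelian p A) (hr : p ^ 2 ≤ Nat.card A) (hAP : A ≤ (P : Subgroup G))
    (hN : normalizer (Invol.centerOmega 0 (P : Subgroup G) : Set G) ≤ normalizer (A : Set G)) :
    Closed p A := by
  have hst := Grp.Quad.isNormalizerPStable_of_free (show p ≠ 2 by omega) (S.qdFree h5)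
  have hwc : ∀ x ∈ A, ∀ g : G, g * x * g⁻¹ ∈ (P : Subgroup G) → g * x * g⁻¹ ∈ A := by
    intro x hx g hg
    obtain ⟨n, hn, he⟩ := Invol.zjControl_of_stable h5 G hst P {x}
      (Set.singleton_subset_iff.mpr (hAP hx)) g (fun a ha => Set.mem_singleton_iff.mp ha ▸ hg)
    rw [← he x rfl]
    exact mem_conj_normalizer (hN hn) hx
  refine S.closed_of_weaklyClosed h5 P hA hr hwc ?_
  refine le_trans ?_ hN
  exact le_trans le_normalizer (Invol.normalizer_le_centerOmega (P : Subgroup G))

end Cfsg.Agent.Grp.TwoGen
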