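import Cfsg.Agent.Lib.Grp.TwoGen.CaseSplit
import Cfsg.Agent.S0144

/-!
Flavell's theorem: a group in which every two elements generate a solvable subgroup is solvable.
-/

set_option autoImplicit false

namespace Cfsg.Agent.Grp.TwoGen

open Subgroup

universe u

variable {G : Type u} [Group G]

/-- A solvable subgroup with solvable quotient makes the group solvable. -/
theorem isSolvable_of_normal (N : Subgroup G) [N.Normal] (hN : Group.IsSolvable N)
    (hq : Group.IsSolvable (G ⧸ N)) : Group.IsSolvable G :=
  Group.isSolvable_of_ker_le_range N.subtype (QuotientGroup.mk' N) (by simp)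

/-- No smallest counterexample. -/
theorem Setting.false [Finite G] (S : Setting G) : False := by
  have hex : ∃ p : ℕ, p.Prime ∧ 5 ≤ p ∧ p ∣ Nat.card G := by
    by_contra h
    push Not at h
    refine S.notSolvable (Cfsg.Agent.S0144.result 2 3 ((Nat.card G).factorization 2)
      ((Nat.card G).factorization 3) Nat.prime_two Nat.prime_three ?_)
    refine Nat.eq_of_factorization_eq Nat.card_pos.ne' (by positivity) fun q => ?_
    rw [Nat.factorization_mul (by positivity) (by positivity), Nat.prime_two.factorization_pow,
      Nat.prime_three.factorization_pow]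
    simp only [Finsupp.coe_add, Pi.add_apply, Finsupp.single_apply]
    by_cases h2 : q = 2
    · subst h2; simp
    by_cases h3 : q = 3
    · subst h3; simp
    rw [if_neg (Ne.symm h2), if_neg (Ne.symm h3)]
    by_contra hne
    have hq := Nat.prime_of_mem_primeFactors (n := Nat.card G) (p := q) (by
      rw [← Nat.support_factorization, Finsupp.mem_support_iff]; simpa using hne)
    have hdvd := Nat.dvd_of_factorization_pos (n := Nat.card G) (p := q) (by simpa using hne)
    have : q < 5 := by
      by_contra hge
      exact h q hq (not_lt.mp hge) hdvd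
    have := hq.two_le
    have h4 : q = 4 := by omega
    exact absurd hq (h4 ▸ by norm_num)
  obtain ⟨p, hp, h5, hd⟩ := hex
  haveI := Fact.mk hp
  exact S.false_of_prime h5 hd

/-- Flavell's theorem. -/
theorem isSolvable_of_pairs : ∀ (n : ℕ) (X : Type u) [Group X] [Finite X], Nat.card X = n →
    (∀ a b : X, Group.IsSolvable (closure ({a, b} : Set X))) → Group.IsSolvable X := by
  intro n
  induction n using Nat.strong_induction_on with
  | _ n ih =>
  intro X _ _ hn h
  by_contra hns
  haveI : Nontrivial X := by
    by_contra htriv
    haveI := not_nontrivial_iff_subsingleton.mp htriv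
    exact hns (Group.isSolvable_of_comm fun a b => Subsingleton.elim _ _)
  have hproper : ∀ H : Subgroup X, H ≠ ⊤ → Group.IsSolvable H := by
    intro H hH
    refine ih (Nat.card H) ?_ H rfl fun a b => ?_
    · rw [← hn]
      exact lt_of_le_of_ne (Nat.le_of_dvd Nat.card_pos (card_subgroup_dvd_card H))
        fun e => hH (eq_top_of_card_eq H e)
    · have hab := h (a : X) (b : X)
      have e : (closure ({a, b} : Set H)).map H.subtype = closure ({(a : X), (b : X)} : Set X) := by
        rw [MonoidHom.map_closure, Set.image_pair]
        rfl
      rw [← e] at hab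
      haveI := hab
      exact Group.isSolvable_of_surjective
        (f := ((closure ({a, b} : Set H)).equivMapOfInjective H.subtype H.subtype_injective).symm.toMonoidHom)
        (MulEquiv.surjective _)
  have hsimple : IsSimpleGroup X := by
    refine ⟨fun N hN => ?_⟩
    by_contra hcon
    push Not at hcon
    haveI := hN
    refine hns (isSolvable_of_normal N (hproper N hcon.2) (ih _ ?_ (X ⧸ N) rfl fun a b => ?_))
    · rw [← hn, card_eq_card_quotient_mul_card_subgroup N]
      refine lt_mul_of_one_lt_right Nat.card_pos ?_
      exact (Subgroup.one_lt_card_iff_ne_bot N).mpr hcon.1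
    · obtain ⟨x, rfl⟩ := QuotientGroup.mk'_surjective N a
      obtain ⟨y, rfl⟩ := QuotientGroup.mk'_surjective N b
      haveI := h x y
      have e : closure ({QuotientGroup.mk' N x, QuotientGroup.mk' N y} : Set (X ⧸ N)) =
          (closure ({x, y} : Set X)).map (QuotientGroup.mk' N) := by
        rw [MonoidHom.map_closure, Set.image_pair]
      rw [e]
      exact Group.isSolvable_of_surjective ((QuotientGroup.mk' N).subgroupMap_surjective (closure ({x, y} : Set X)))
  refine Setting.false (⟨hsimple, hns, hproper, fun a b e => hns ?_⟩ : Setting X)
  haveI := h a b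
  exact Group.isSolvable_of_surjective (f := (closure ({a, b} : Set X)).subtype)
    fun x => ⟨⟨x, e ▸ mem_top x⟩, rfl⟩

end Cfsg.Agent.Grp.TwoGen
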