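import Mathlib
import Cfsg.Agent.Lib.Invol.Dihedral
import Cfsg.Agent.S0205

/-!
A finite group whose solubilizers are subgroups is solvable, given the two-generator criterion.
-/

set_option autoImplicit false

namespace Cfsg.Agent.Grp.TwoGen

open Subgroup

universe u

theorem dihedral_isSolvable (n : ℕ) : Group.IsSolvable (DihedralGroup n) := by
  let f : Multiplicative (ZMod n) →* DihedralGroup n :=
    MonoidHom.mk' (fun i => DihedralGroup.r i.toAdd) (fun a b => by simp)
  let d : DihedralGroup n →* ℤˣ :=
    { toFun := fun x => match x with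
        | .r _ => 1
        | .sr _ => -1
      map_one' := rfl
      map_mul' := by rintro (i | i) (j | j) <;> rfl }
  refine Group.isSolvable_of_ker_le_range f d ?_
  rintro (i | i) h
  · exact ⟨Multiplicative.ofAdd i, rfl⟩
  · exact absurd (show (-1 : ℤˣ) = 1 from h) (by decide)

theorem closure_image_pair {G H : Type*} [Group G] [Group H] (f : G →* H) (x y : G) :
    (closure ({x, y} : Set G)).map f = closure ({f x, f y} : Set H) := by
  rw [MonoidHom.map_closure, Set.image_pair]

/-- The criterion `hTwo` is Flavell's theorem. -/
theorem solvable_of_solubilizers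
    (hTwo : ∀ {G : Type u} [Group G] [Finite G],
      (∀ a b : G, Group.IsSolvable (closure ({a, b} : Set G))) → Group.IsSolvable G) :
    ∀ (n : ℕ) {G : Type u} [Group G] [Finite G], Nat.card G = n →
      (∀ x : G, ∃ H : Subgroup G,
        (H : Set G) = {y : G | Group.IsSolvable ↥(closure ({x, y} : Set G))}) →
      Group.IsSolvable G := by
  intro n
  induction n using Nat.strong_induction_on with
  | _ n ih =>
  intro G _ _ hn h
  have hsym : ∀ x y : G, closure ({x, y} : Set G) = closure ({y, x} : Set G) := fun x y => by
    rw [Set.pair_comm]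
  set I := closure {t : G | orderOf t = 2} with hI
  haveI hIn : I.Normal := by
    refine ⟨fun u hu g => ?_⟩
    induction hu using Subgroup.closure_induction with
    | mem t ht =>
      exact Subgroup.subset_closure
        (show orderOf (g * t * g⁻¹) = 2 from (MulEquiv.orderOf_eq (MulAut.conj g) t).trans ht)
    | one => simp
    | mul u v _ _ hu hv =>
      rw [show g * (u * v) * g⁻¹ = g * u * g⁻¹ * (g * v * g⁻¹) by group]
      exact mul_mem hu hv
    | inv u _ hu =>
      rw [show g * u⁻¹ * g⁻¹ = (g * u * g⁻¹)⁻¹ by group]
      exact inv_mem hu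
  rcases eq_or_ne I ⊤ with hItop | hItop
  · have hdih : ∀ s t : G, orderOf s = 2 → orderOf t = 2 →
        Group.IsSolvable ↥(closure ({s, t} : Set G)) := fun s t hs ht => by
      obtain ⟨e⟩ := Invol.nonempty_mulEquiv_dihedralGroup hs ht
      haveI := dihedral_isSolvable (orderOf (s * t))
      exact Group.isSolvable_of_surjective (f := e.symm.toMonoidHom) e.symm.surjective
    have hall : ∀ (t y : G), orderOf t = 2 → Group.IsSolvable ↥(closure ({t, y} : Set G)) := by
      intro t y ht
      obtain ⟨H, hH⟩ := h t
      have hy : y ∈ H := (show I ≤ H from (closure_le _).2 fun s hs => by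
        rw [hH]; exact hdih t s ht hs) (hItop.ge (mem_top y))
      rw [← SetLike.mem_coe, hH] at hy
      exact hy
    refine hTwo fun a b => ?_
    obtain ⟨H, hH⟩ := h a
    have hb : b ∈ H := (show I ≤ H from (closure_le _).2 fun s hs => by
      rw [hH, Set.mem_setOf_eq, hsym]; exact hall s a hs) (hItop.ge (mem_top b))
    rw [← SetLike.mem_coe, hH] at hb
    exact hb
  · haveI hIsol : Group.IsSolvable ↥I := by
      refine ih (Nat.card I) ?_ rfl fun x => ?_
      · rw [← hn]
        exact lt_of_le_of_ne (card_le_card_group I) fun e => hItop (eq_top_of_card_eq I e)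
      · obtain ⟨H, hH⟩ := h x
        refine ⟨H.subgroupOf I, Set.ext fun y => ?_⟩
        show ((y : G) ∈ (H : Set G)) ↔ Group.IsSolvable ↥(closure ({x, y} : Set ↥I))
        rw [hH, Set.mem_setOf_eq, ← Subgroup.coe_subtype, ← closure_image_pair I.subtype]
        let e := (closure ({x, y} : Set ↥I)).equivMapOfInjective I.subtype I.subtype_injective
        exact ⟨fun hs => Group.isSolvable_of_surjective (f := e.symm.toMonoidHom) e.symm.surjective,
          fun hs => Group.isSolvable_of_surjective (f := e.toMonoidHom) e.surjective⟩
    rcases eq_or_ne I ⊥ with hbot | hbot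
    · refine Cfsg.Agent.S0205.result (Nat.not_even_iff_odd.1 fun he => ?_)
      obtain ⟨t, ht⟩ := exists_prime_orderOf_dvd_card' (G := G) 2 (even_iff_two_dvd.1 he)
      have htI : t ∈ I := Subgroup.subset_closure ht
      rw [hbot, mem_bot] at htI
      rw [htI, orderOf_one] at ht
      omega
    · haveI : Group.IsSolvable (G ⧸ I) := by
        refine ih (Nat.card (G ⧸ I)) ?_ rfl fun q => ?_
        · rw [← hn, ← I.index_eq_card, ← I.card_mul_index]
          exact lt_mul_left (Nat.pos_of_ne_zero I.index_ne_zero_of_finite)
            (Finite.one_lt_card_iff_nontrivial.2 (I.nontrivial_iff_ne_bot.2 hbot))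
        · obtain ⟨x, rfl⟩ := QuotientGroup.mk'_surjective I q
          obtain ⟨H, hH⟩ := h x
          refine ⟨H.map (QuotientGroup.mk' I), Set.ext fun w => ?_⟩
          obtain ⟨y, rfl⟩ := QuotientGroup.mk'_surjective I w
          rw [Set.mem_setOf_eq, ← closure_image_pair]
          constructor
          · rintro ⟨y', hy', he⟩
            rw [hH] at hy'
            haveI : Group.IsSolvable ↥(closure ({x, y'} : Set G)) := hy'
            rw [show (closure ({x, y} : Set G)).map (QuotientGroup.mk' I) =
              (closure ({x, y'} : Set G)).map (QuotientGroup.mk' I) by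
                rw [closure_image_pair, closure_image_pair, he]]
            exact Group.isSolvable_of_surjective
              ((QuotientGroup.mk' I).subgroupMap_surjective (closure ({x, y'} : Set G)))
          · intro hs
            refine ⟨y, ?_, rfl⟩
            rw [hH, Set.mem_setOf_eq]
            set K := closure ({x, y} : Set G) with hK
            set φ := (QuotientGroup.mk' I).subgroupMap K with hφ
            refine Group.isSolvable_of_ker_le_range (Subgroup.inclusion (inf_le_left : K ⊓ I ≤ K))
              φ ?_ (G' := ↥(K ⊓ I : Subgroup G)) (hG' := ?_) (hG'' := hs)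
            · intro k hk
              have : (k : G) ∈ I := (QuotientGroup.eq_one_iff (k : G)).1 (congrArg Subtype.val hk)
              exact ⟨⟨k, k.2, this⟩, Subtype.ext rfl⟩
            · exact Group.isSolvable_of_isSolvable_injective (f := Subgroup.inclusion (inf_le_right : K ⊓ I ≤ I))
                (Subgroup.inclusion_injective _)
      exact Group.isSolvable_of_ker_le_range I.subtype (QuotientGroup.mk' I) (by simp)

/-- The statement of S4078, modulo Flavell's theorem `hTwo`. -/
theorem solvable_iff_solubilizers
    (hTwo : ∀ {G : Type u} [Group G] [Finite G],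
      (∀ a b : G, Group.IsSolvable (closure ({a, b} : Set G))) → Group.IsSolvable G)
    {G : Type u} [Group G] [Finite G] :
    Group.IsSolvable G ↔ ∀ x : G, ∃ H : Subgroup G,
      (H : Set G) = {y : G | Group.IsSolvable ↥(closure ({x, y} : Set G))} := by
  refine ⟨fun hG x => ⟨⊤, Set.ext fun y => iff_of_true trivial ?_⟩,
    solvable_of_solubilizers hTwo _ rfl⟩
  haveI := hG
  exact Group.isSolvable_of_isSolvable_injective (f := (closure ({x, y} : Set G)).subtype)
    Subtype.val_injective

end Cfsg.Agent.Grp.TwoGen
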