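import Cfsg.Agent.Lib.Grp.TwoGen.Basic
import Cfsg.Agent.Lib.Grp.Signalizer

/-!
`O_{p',p}` of a subgroup and congruence modulo `O_{p'}`.
-/

set_option autoImplicit false

namespace Cfsg.Agent.Grp.TwoGen

open Subgroup

variable {G : Type*} [Group G] {p : ℕ}

/-- `O_{p',p}(H)` as a subgroup of the ambient group. -/
abbrev upper (p : ℕ) (H : Subgroup G) : Subgroup G := (Cfsg.pPrimePCore p ↥H).map H.subtype

theorem upper_le (H : Subgroup G) : upper p H ≤ H := map_subtype_le _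

theorem core_le_upper (H : Subgroup G) : core p H ≤ upper p H := by
  haveI : (Cfsg.pPrimeCore p H).Normal := pPrimeCore_isNormal
  refine Subgroup.map_mono fun x hx => ?_
  rw [Cfsg.pPrimePCore, Subgroup.mem_comap, QuotientGroup.mk'_apply, (QuotientGroup.eq_one_iff x).mpr hx]
  exact one_mem _

theorem conj_mem_core {H : Subgroup G} {g x : G} (hg : g ∈ H) (hx : x ∈ core p H) :
    g * x * g⁻¹ ∈ core p H := by
  haveI : (Cfsg.pPrimeCore p H).Normal := pPrimeCore_isNormal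
  obtain ⟨y, hy, rfl⟩ := hx
  exact ⟨⟨g, hg⟩ * y * ⟨g, hg⟩⁻¹, Subgroup.Normal.conj_mem inferInstance y hy _, rfl⟩

theorem le_normalizer_core (H : Subgroup G) : H ≤ normalizer (core p H : Set G) :=
  invariant_iff.mp fun _ hg _ hx => conj_mem_core hg hx

variable [Finite G]

theorem core_coprime (H : Subgroup G) : (Nat.card (core p H)).Coprime p := by
  rw [Subgroup.card_map_of_injective H.subtype_injective]
  exact pPrimeCore_coprime

theorem core_not_dvd [hp : Fact p.Prime] (H : Subgroup G) : ¬ p ∣ Nat.card (core p H) :=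
  (hp.out.coprime_iff_not_dvd).mp (core_coprime H).symm

theorem orderOf_coprime_of_mem_core {H : Subgroup G} {x : G} (hx : x ∈ core p H) :
    (orderOf x).Coprime p :=
  (core_coprime H).coprime_dvd_left (Subgroup.orderOf_dvd_natCard _ hx)

theorem mem_core_of_mem_upper [hp : Fact p.Prime] {H : Subgroup G} {u : G} (hu : u ∈ upper p H)
    (hc : (orderOf u).Coprime p) : u ∈ core p H := by
  haveI : (Cfsg.pPrimeCore p H).Normal := pPrimeCore_isNormal
  obtain ⟨v, hv, rfl⟩ := hu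
  refine ⟨v, (QuotientGroup.eq_one_iff v).mp ?_, rfl⟩
  have hv' : (v : H ⧸ Cfsg.pPrimeCore p H) ∈ Cfsg.pCore p (H ⧸ Cfsg.pPrimeCore p H) := hv
  obtain ⟨k, hk⟩ := pCore_isPGroup ⟨_, hv'⟩
  have h1 : orderOf (v : H ⧸ Cfsg.pPrimeCore p H) ∣ p ^ k :=
    orderOf_dvd_of_pow_eq_one (congrArg Subtype.val hk)
  have h2 : orderOf (v : H ⧸ Cfsg.pPrimeCore p H) ∣ orderOf (H.subtype v) := by
    rw [orderOf_injective H.subtype H.subtype_injective]
    exact orderOf_map_dvd (QuotientGroup.mk' _) v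
  exact orderOf_eq_one_iff.mp (Nat.eq_one_of_dvd_coprimes (Nat.Coprime.pow_right k hc) h2 h1)

theorem mem_core_of_le [hp : Fact p.Prime] {H X : Subgroup G} {u : G} (hu : u ∈ upper p H)
    (hX : u ∈ core p X) : u ∈ core p H :=
  mem_core_of_mem_upper hu (orderOf_coprime_of_mem_core hX)

/-- Two `p`-subgroups of `O_{p',p}(H)` lie in one `p`-group after moving by `O_{p'}(H)`. -/
theorem exists_core_conj_le [hp : Fact p.Prime] {H A B : Subgroup G} (hA : A ≤ upper p H)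
    (hB : B ≤ upper p H) (hAp : IsPGroup p A) (hBp : IsPGroup p B) :
    ∃ r ∈ core p H, ∃ T : Subgroup G, IsPGroup p T ∧ A ≤ T ∧ ∀ z ∈ B, r * z * r⁻¹ ∈ T := by
  haveI : (Cfsg.pPrimeCore p H).Normal := pPrimeCore_isNormal
  set U := upper p H with hU
  obtain ⟨P, hP⟩ := (hAp.comap_subtype (K := U)).exists_le_sylow
  obtain ⟨Q, hQ⟩ := (hBp.comap_subtype (K := U)).exists_le_sylow
  obtain ⟨u, rfl⟩ := MulAction.exists_smul_eq U P Q
  -- split `u` as a core element times an element of `P`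
  let f : U →* Cfsg.pCore p (H ⧸ Cfsg.pPrimeCore p H) :=
    ((QuotientGroup.mk' (Cfsg.pPrimeCore p H)).comp (Subgroup.inclusion (upper_le H))).codRestrict _
      fun w => by
        obtain ⟨v, hv, e⟩ := w.2
        have : Subgroup.inclusion (upper_le H) w = v := Subtype.ext e.symm
        rw [MonoidHom.comp_apply, this]
        exact hv
  have hf : Function.Surjective f := by
    rintro ⟨q, hq⟩
    obtain ⟨v, rfl⟩ := QuotientGroup.mk'_surjective (Cfsg.pPrimeCore p H) q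
    exact ⟨⟨v, v, hq, rfl⟩, Subtype.ext rfl⟩
  have htop : (P.mapSurjective hf : Subgroup (Cfsg.pCore p (H ⧸ Cfsg.pPrimeCore p H))) = ⊤ :=
    ((P.mapSurjective hf).is_maximal' (pCore_isPGroup.to_subgroup ⊤) le_top).symm
  obtain ⟨s, hs, hsu⟩ : ∃ s ∈ (P : Subgroup U), f s = f u := by
    have : f u ∈ (P.mapSurjective hf : Subgroup (Cfsg.pCore p (H ⧸ Cfsg.pPrimeCore p H))) := htop ▸ Subgroup.mem_top _
    simpa using this
  -- the correcting element
  have hr : ((s * u⁻¹ : U) : G) ∈ core p H := by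
    refine ⟨Subgroup.inclusion (upper_le H) (s * u⁻¹), (QuotientGroup.eq_one_iff _).mp ?_, rfl⟩
    have : f (s * u⁻¹) = 1 := by rw [map_mul, map_inv, hsu, mul_inv_cancel]
    exact congrArg Subtype.val this
  refine ⟨_, hr, (P : Subgroup U).map U.subtype, P.isPGroup'.map _, fun a ha =>
    ⟨⟨a, hA ha⟩, hP ha, rfl⟩, fun z hz => ?_⟩
  have hzQ : (⟨z, hB hz⟩ : U) ∈ ((u • P : Sylow p U) : Subgroup U) := hQ hz
  rw [Sylow.coe_subgroup_smul, Subgroup.mem_pointwise_smul_iff_inv_smul_mem] at hzQ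
  have hzQ' : u⁻¹ * ⟨z, hB hz⟩ * u ∈ (P : Subgroup U) := by
    simpa [MulAut.smul_def, mul_assoc] using hzQ
  refine ⟨(s * u⁻¹) * ⟨z, hB hz⟩ * (s * u⁻¹)⁻¹, ?_, rfl⟩
  show (s * u⁻¹) * ⟨z, hB hz⟩ * (s * u⁻¹)⁻¹ ∈ (P : Subgroup U)
  rw [show (s * u⁻¹) * (⟨z, hB hz⟩ : U) * (s * u⁻¹)⁻¹ = s * (u⁻¹ * ⟨z, hB hz⟩ * u) * s⁻¹ by group]
  exact mul_mem (mul_mem hs hzQ') (inv_mem hs)

/-- Two `p`-elements of `O_{p',p}(H)` become members of a `p`-group after moving by `O_{p'}(H)`. -/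
theorem exists_core_conj [hp : Fact p.Prime] {H : Subgroup G} {x z : G} (hx : x ∈ upper p H)
    (hz : z ∈ upper p H) (hxp : IsPGroup p (zpowers x)) (hzp : IsPGroup p (zpowers z)) :
    ∃ r ∈ core p H, IsPGroup p (closure ({x, r * z * r⁻¹} : Set G)) := by
  obtain ⟨r, hr, T, hT, hxT, hzT⟩ :=
    exists_core_conj_le (zpowers_le.mpr hx) (zpowers_le.mpr hz) hxp hzp
  exact ⟨r, hr, hT.to_le (mem_of_mem_closure_pair (hxT (mem_zpowers x)) (hzT z (mem_zpowers z)))⟩

end Cfsg.Agent.Grp.TwoGen
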